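import Cfsg.Agent.H791.E8L.Rel2_m3
import Cfsg.Agent.H65.E8L.Chk_m3
import Cfsg.Agent.H908.P9.Run.R01_m3
import Cfsg.Agent.H732.E8T.K_m3
import Cfsg.Agent.H597.E8Form
import Cfsg.Agent.ChevalleyStructure.JacAll
import Cfsg.Agent.FastGrp
import Cfsg.Agent.Prune
set_option linter.all false

-- part: H908/P9/Run/R02
section
set_option linter.all false

/-! # S5925, box H: the digit vectors of the masks, part 2 -/

set_option autoImplicit false
set_option Elab.async false
set_option maxRecDepth 100000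

namespace Cfsg.Agent.H908.P9.Run
open Cfsg.Agent.H728.PM Cfsg.Agent.H136.P9

def m2a : ℕ := nat_lit 0x400000000000000000000000000000000000000000000000000000000000000000000000000000000000000000000000000000000000000040000000000200000000000000000000000000000000000000000000010000000000000020000000000000000000000000000000000000000000000000000400000000000000000000000000000000000000000000000000000000000000000000000000000000000000000000000000000000000000000010000000008000020000000000000000000000000000000000000000000810000004000000080000000000000000000000000000000000000000000000000000000000000000000000000000000000000000000000000000000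
theorem t2a : rng plan m2a = true := by decide +kernel
def m2b : ℕ := nat_lit 0x800000000000000000000000000000000000000000000000000000000000000000000000000001020000000000000000000000000000000000000000000000002000000000000000000000000000000000000000000000000000000000400000000000000000000000000000000000000000000000000000000000000000000000000000000000000000000000000000000000000000000040000200000001000008000000000000000000000000000000000000000000100002000080000000000000000000000000000000000000000000000000000000000000000000000000000000000000000000000000000000000000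
theorem t2b : rng plan m2b = true := by decide +kernel
def m8a : ℕ := nat_lit 0x80000000000000000000000000000000000000000000000000000000000000000000000000000000000000000000000000000000000000000001000000402004011000000000000000000000000000000000000000000000000000000000000000000000000000000000000000000000000000000080000000000000000000000000000000000000000000000000000000000000000000000000002000000000000000000000000000000000000000000000800000000010020000000000000000000000000000000000000000000000000000000000000000000000000000000000000000000000000000000000000000000000000000000000000000000000000000000000000000000000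
theorem t8a : rng plan m8a = true := by decide +kernel
def m8b : ℕ := nat_lit 0x100000000000000000000000000000000000000000000000000000000000000000000080000000000000000000000000000000000000000000000000000004200200108000000000000000000000000000000000000000000000000000000080000000000000000000000000000000000000000000000000000000000000000000000000000000000000000000000000000000000800000000000000000008000000000000000000000000000000000000000000020000000002000000000000000000000000000000000000000000000000000000000000000000000000000000000000000000000000000000000000000000000000000000000000000000000000000000000000000000000000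
theorem t8b : rng plan m8b = true := by decide +kernel
def m14a : ℕ := nat_lit 0x400800000000000000000000000000000000000000000000000000010000000000000000000000000000000000000000000000000000000000000800000000000000000000000000000000000000000000000000000100000000000000200000000000000000000000000000000000000000000000000000000000020000000000000000000000000000000000000000000000020000000000000000000000000000000000000000000000000000000008000001000000000000000000000000000000000000000000000000000000000000000000000002000000000000000000000000000000000000000000000000000000000000000000000000000000000000000000000000000000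
theorem t14a : rng plan m14a = true := by decide +kernel
def m14b : ℕ := nat_lit 0x800004200000000000000000000000000000000000000000000000000000004000000000000000000000000000000000000000000000000000000000040000000000000000000000000000000000000000000000000000000000000000400004000000000000000000000000000000000000000000000000000000000000800000000000000000000000000000000000000000000000000000000100000000000000000000000000000000000000000000000000008000000000000000000000000000000000000000000000000000000000000008000000000000000000000000000000000000000000000000000000000000000000000000000000000000000000000000000000000000000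
theorem t14b : rng plan m14b = true := by decide +kernel
def m20a : ℕ := nat_lit 0x1000001000000000000000000000000000000000000000000000000000000000000000000000000000000000000000000000000000000000000000000000011000000000000000000000000000000000000000000000000000800000000000008000000000000000000000000000000000000000000000000200000000000200000000000000000000000000000000000000000000000000000000000010000000000000000000000000000000000000000000000000000000000200000000000000000000000000000000000000000000000000040000000000000000000000000000000000000000000000000000000000000000000000000000000000000000000000000000000000000000000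
theorem t20a : rng plan m20a = true := by decide +kernel
def m20b : ℕ := nat_lit 0x40020000000000000000000000000000000000000000000000000000008000000000000000000000000000000000000000000000000000000000000000000008000000000000000000000000000000000000000000000000001000000100000000000000000000000000000000000000000000000000000008000000000400000000000000000000000000000000000000000000000008000000000000000000000000000000000000000000000000000000000000008000000000001000000000000000000000000000000000000000000000000000000000000000000000000000000000000000000000000000000000000000000000000000000000000000000000000000000000000000000000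
theorem t20b : rng plan m20b = true := by decide +kernel
def m26a : ℕ := nat_lit 0x4000000000000000000000000000000000000000000000000000102000000000000000000000000000000000000000000000000000000000000000000000000000800000000000000000000000000000000000000000000004000400000000000000000000000000000000000000000000000000000001000000000001000000000000000000000000000000000000000000000000000000800000000000000000000000000000000000000000000000000000000000000000002000000000000000000000000000000000000000000000000000000000200000000000000000000000000000000000000000000000000000000000000000000000000000000000000000000000000000000000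
theorem t26a : rng plan m26a = true := by decide +kernel
def m26b : ℕ := nat_lit 0x200000000000000000000000000000000000000000000000000000480000000000000010000000000000000000000000000000000000000000000000000000000000000000000000000000000000000000000000000000004000008000100000000000000000000000000000000000000000000000000000000000020000000000000000000000000000000000000000000000000080000000004000000000000000000000000000000000000000000000000000000000000000000000000000000000000000000000000000000000000004000000000000000000000000000000000000000000000000000000000000000000000000000000000000000000000000000000000000000000000000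
theorem t26b : rng plan m26b = true := by decide +kernel
def m32a : ℕ := nat_lit 0x200000000000000000000000000000000000000000000000000000000000000000000000000000000000000000000000000000000000000000000000000000000000000000000000000000000200000000000000000000000000000000000000000000000000000000000000000000000000000000000000000000000000000000000000001000000000000000000000000000000000000000000000000000000000010000000002000000000000000000000000000001000000008000000000000000000000000200000000000000000000000000000000000000000000000000040000000000000000000000000000000000000000000000000000000000000000000000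
theorem t32a : rng plan m32a = true := by decide +kernel
def m32b : ℕ := nat_lit 0x80000000000000000000000000000000000000000000000000000000000000000000000008000000000000000000000000000000000000000000000000000000000000000000000000000000000000000000000000000000000000000004000000000000000000000800800000000000000000000000000000000010000000000004000000000000000000000000000000000000000000000000000000000000000100000000000000000000000000000000000000000000000000000000000000000000000000
theorem t32b : rng plan m32b = true := by decide +kernel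
def m38a : ℕ := nat_lit 0x800000000000000000000000000001000000000000000000000000000000000000000000000000000000000000000000000000000000000000000000000008000000002000000000000000000000000000000000000000000000004000000000000000000000000000000000000000000000000000000000000000000000000000000001000000000000000000000000000000000000000000000000000000000000000000000000000000000000000000000000000000000000000000000000000000000000000200000000000000000000000000000000000000008000000000000000001000000000000000000000000000000000000000000000000000000000000000000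
theorem t38a : rng plan m38a = true := by decide +kernel
def m38b : ℕ := nat_lit 0x800000000000000000000000000000000000000000000000000000000000000100000000000000000000000000000000000000000000000000000000004000001000000000000000000000000000000000000000000000000000000000000000000000000000000000000000000000000000000000000000000000800000000000000000000000000000000000000000000000000000000000000000800000000000000000000000000000000000000000000000000000000000000000000000000000000000000000000000000000000000000000000000020020000000000000000000000000000000000000000000000000000000000000000000000000000000000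
theorem t38b : rng plan m38b = true := by decide +kernel
def m44a : ℕ := nat_lit 0x800000001000000000000000000000000000000000000000000000000000000000000000000000000000000000000000000000000000000010000000000000040000000000000000000000800000000000000000000000000200000000000000000000000000000000000000000000000000000000000002000000000000000000000000000000000000000000000000000000000000000000000000000010000000000000000000000000000000000000000000000000000000000000000000000000000000
theorem t44a : rng plan m44a = true := by decide +kernel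
def m44b : ℕ := nat_lit 0x2000000000000000000000000000000000000000000000000400000002000000000000000000000000000000000000000000000000000000000000000000000000000000000000000000000000000001000000000000000000000100000000000000000000000000000000000001000000000000000000000400000000000000000000000000000000000000000000000010000000000000000000000000000000000000000000000000000000000000000000000000000000000000000000000000000000000000000000000000000000000000000000000000000
theorem t44b : rng plan m44b = true := by decide +kernel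
def m50a : ℕ := nat_lit 0x40000000000000000000000000000000000000000000000000000000000000000000000000000000010000000000000000000000000000000000000000000000000010000000000000000000000000000000000000000000000000000200000000000000000000000000000000000000000000000000000000000002000000000000000000000000000010000000000000000000000000000000000000000000000000000000000000000000000000000000000000000000000000000000002000000000000000000000000000000000000000000000000000000000000000000080000000000000000000000000000000000000000000000000000000000000000000000000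
theorem t50a : rng plan m50a = true := by decide +kernel
def m50b : ℕ := nat_lit 0x2000000000000000000000000000000000000000000000000000000000004000000000000000000000000000000000000000000000000000000000000000000000000000000000000000000000000000080000000000000000000400000000000000000000000000000000000000000000000000080000000000000000000000000000000000000000000000000000000000000000000000000000000000000000000000000000000000000000000000000008000000000040000000000000000000000000000000000000000000000000000000000000000000000000000000000000000000000000000000000000000000000000000000000000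
theorem t50b : rng plan m50b = true := by decide +kernel
def m56a : ℕ := nat_lit 0x8000000000000000000000000000000000000000000000000000000000000000000000000000000000001000000000000000000000000000000000000000000000000000000000000000000000000000000000000000000000000000000000000000000000000002000000000000000000000000000000000400000000000000000000000000000000000000000000001000000000004000000000000000000000000000000200000000000000000000000000000000000000000000000000000000000400000000000000000000000000000000000000000000000000000000000000000000000000000000000000000000000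
theorem t56a : rng plan m56a = true := by decide +kernel
def m56b : ℕ := nat_lit 0x400000000000000000000000000000000000000000000000000000200000000000000000000000000000000000000000000000000000000000000000000000000000000000000000000000000000000000000000000000000000000000000000000000800000000000000000000000000000000000000000000020000000000000008000000000000000000000000000000000000000000000000000004000000000000000000000000000400000000000000000000000008000000000000000000000000000000000000000000000000000000000000000000000000000000000000000000000000000000000000000000000000000000000000000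
theorem t56b : rng plan m56b = true := by decide +kernel
def m62a : ℕ := nat_lit 0x200000000000000000000000000000000800000000000000000000000000000000000000000000000000000000000000000000000000000000000000000000000000000000000000000000000000000000400000000000000000000000000000000000000000000000000000000000400000000000000080000010000000000000000000000000000000000000000000000001000000000000000000000000000000000000000000000000010000000000000000000000000000000000000000000000000000000000000000000000000000000000000000000000000000000000000000000000000000000000000000000000000000000000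
theorem t62a : rng plan m62a = true := by decide +kernel
def m62b : ℕ := nat_lit 0x400000000000000000010000000000000000000000000000000000000000000000000000000000000000000000000000000000000000000000000040000000000000000000000000000000000000000000000000000000000000040000000000000000000000000000000000000000000000000000000000000002000000800000000000000000000000000000000000080000000000000000000000040000000000000000000000000000000000000000000000000000000000000000000000000000000000000000000000000000000000000000000000000000000000000000000000000000000000000000000000000000000000000000000000000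
theorem t62b : rng plan m62b = true := by decide +kernel
def m68a : ℕ := nat_lit 0x10000000000000000000000000000000020000000000000000000000000000000000000000000001000000000000000000000000000000000000000000000000000000000000000000000000000000000000000000000000000000000000000000000000000000000000000000000000000000000000000000000000000000000400000000000000400000000000000000000000000000000000000000000000000000000000000400000000000000000000000000000000000000000000000020000000000000000000000000000000000000000000000000000000000000000020000000000000000000000000000000000000000000000000000000000000000000000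
theorem t68a : rng plan m68a = true := by decide +kernel
def m68b : ℕ := nat_lit 0x20000000000020000000000000000000000000000000000000000000000000000002000000000000000000000000000000000000000000000000000000000000000000000000000000000000000000000000000000000000000000000000000000000000000000000000000000000000000000000000000000000000000000020000000000000020000000000000000000000000000000000000008000000000000000000000000000000000000000000000000000000080000000000000000000000000000000000000000000000000000000000200000000000000000000000000000000000000000000000000000000000000000000000000000000000000000000000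
theorem t68b : rng plan m68b = true := by decide +kernel
def m74a : ℕ := nat_lit 0x1000000000000000000000000000000000000000000000000000000000000000000000000200000000000000000000000000000000000000000000000000000000000000000000000000000000000000000000000000000000000000000000000000000000000000000000000000000000000000000000000000000000000000000000000000000000020000000000000000000000000000000000002000000000000000000000000000000000000000000000000000000800000000000080000000000000000000000000000000000000080000000000000000000000002000000000000000000000000000000000000000000000000000000000000000000000000000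
theorem t74a : rng plan m74a = true := by decide +kernel
def m74b : ℕ := nat_lit 0x8000000000000000000000000000000000000000000000000000000000000000000000000000000000000000000000000000000000000000000000000000000000000000010000000000000000000000000000000000000000000000000000000000000000000000000000000000000000000000000000040000000000000000001000000000000000000000000000000000000000000000000000100000000000040000000000000000000000000000800000000000000000000000000000000000000000000000000000000000000000000000000000000000000000000000000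
theorem t74b : rng plan m74b = true := by decide +kernel
def m80a : ℕ := nat_lit 0x200000000000000000000000000000000000000000000000000000000000000000000000000000040000000000000000000000000000000000000001000000000010000000000000000000000000000000000000000000000000000000000000000000000000000000000000000000000000000000000000000000000000000200000000000000000000000000000000000000000400000000000000000000000000000000000000000000000000000000000000000000000000000000000002000000000000000000000000000000000000000000000000000000000010000000000000000000000000000000000000000000000000000000000000000000000000000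
theorem t80a : rng plan m80a = true := by decide +kernel
def m80b : ℕ := nat_lit 0x2000000000000000000100000000000000000000000000000000000000000080000000000000000000000000000000000000000000000000000000000000000000000000000001000000000000000000000000000000000000000000000000000000000002000000000000000000000000000000000020000000000000000000000000000000000000000000000000000000000000000000000000000000000000000000000000000000000000000000000000000000000800000000000000000000000000000000000000000000000000000000000000000000000000000000000000000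
theorem t80b : rng plan m80b = true := by decide +kernel
def m86a : ℕ := nat_lit 0x10000000000000000000000004000000000000000000000000000000000000000000000000000000200000000000000000000000000000000000000002000004000000000000000000000000000000000000000000000000000000000000080000000000000000080000000000000000000000000000000000000000000000000000000000000000000000000000000000000000000000000000000000000000000000000010000000000000000000000000000000000000000000000000000000000000000000000000000000000000000000000000000000000000000000000000000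
theorem t86a : rng plan m86a = true := by decide +kernel
def m86b : ℕ := nat_lit 0x40000000000000000000000000000000000000100000000000000000000000000000000000000000000000000000000000001000004000000000000000000000008000000000000000000000000000000000000000000000000000004000000000000000000000000000000000000000000000000000000000000000000000000000000000000000000000000000000000000000000000000000080000000000000000000000000000000000000000000000000000000000000000000000000000000000000000000000000000000000000000000000000000000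
theorem t86b : rng plan m86b = true := by decide +kernel
def m92a : ℕ := nat_lit 0x1000000000000000000000000000000000000000000000000000000000000000000000000000000000000000000000000100000000000000000000000000000000000000000000000000000000000000000000100000000000000000000000000000000000000000000000000000000000000000000000000000000000000000000000000000000000000000000000000010000000000000004000000000000000000000000000000000000008000000000000000000000000000800000000000000000000000000000000000000000000000000000000010000000000000000000000000000000000000000000000000000000000000000000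
theorem t92a : rng plan m92a = true := by decide +kernel
def m92b : ℕ := nat_lit 0x1000000000000000000000000000000000000000000000000000000000000000000000000000000000000000000000000100000000000000000000000000000000000000000000000000000000000000000000000000000000000000000000000000000000000000000000000000000000000000000000000000000000000000000000000002000000000000000000000000000800000000000000000000000000000000000000020000000000000000000000200000000000000000000000000000020000000000000000000000000000000000000000000000000000000000000000000000000000000000000000000000000000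
theorem t92b : rng plan m92b = true := by decide +kernel
def m98a : ℕ := nat_lit 0x400000000000000000000000000000000000000000000000000000000000000000000000000000000000000000000000000000000000000000000000000000000000000000000000002000000000000000000000000000000000000000000100000000000000000000000000000000000000000000000000000000000000000000000000200000000000000000000000000000000000000000000000000000000000000000000000000000000000000000000000000000000001000000000000000000200000000000000000000000000000000004000000000000000000000200000000000000000000000000000000000000000000000000000000000000000000000000000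
theorem t98a : rng plan m98a = true := by decide +kernel
def m98b : ℕ := nat_lit 0x40000000000000000000000000000000000000000000000000000000000000000000000000000800000000000000000000000000000000000000000000000000000000000000000000000000000000000000000000000000001000002000000000000000000000000000000000000000000000000000000000000000000000000000000000000000000000000000000000004000000000000000000000000000000000000000000000000010000000000000400000000000000000000000000000000000000000000000000000000000000000000000000000000000000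
theorem t98b : rng plan m98b = true := by decide +kernel
def m109a : ℕ := nat_lit 0x20000000402000001002000080000000280000000
theorem t109a : rng plan m109a = true := by decide +kernel
def m109b : ℕ := nat_lit 0x20004002000020000100010000100000000
theorem t109b : rng plan m109b = true := by decide +kernel
def m114a : ℕ := nat_lit 0x40100020048004004200000000000000000000000000000000000000000
theorem t114a : rng plan m114a = true := by decide +kernel
def m114b : ℕ := nat_lit 0x4020000210100100400000000000000000000000000000000000000000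
theorem t114b : rng plan m114b = true := by decide +kernel
def m119a : ℕ := nat_lit 0x10000000080000000000000000000000000000000000000000000000000000000000000000000000000000000000000000000000000000000000000000000000000000000000000000000000000000000000000000000000000000000000000400000000000000000000000000000000000000000000000000000000000100000000000000000000000000000000000000000000000000000000000000000000000000000000000000000000000000000000000000000800000002000000000000000000000000000000000000000000000000000000000000000000000010000000000000000000000000000000000000000000000000000000000000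
theorem t119a : rng plan m119a = true := by decide +kernel
def m119b : ℕ := nat_lit 0x100000000000000000000000000000000000000000000000000000000000010000000000000000000000000000000000000000000000000000000000000000000000000000000000000000000000000000000000000000000000000000000000000000000000000000000000000000000000000000010000000000000000000000000000000000000000000000000000000000002000000000000000000000000000000000000000000000000000000000000400000000000000000000000000000000000000000000000000000000000100000000000000000000000000000000000000000000000000000000000000000000000000000000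
theorem t119b : rng plan m119b = true := by decide +kernel
def m125a : ℕ := nat_lit 0x800000000000000000000000000000000000000000000000000000000000000000000000000000000000000000000000000000000000000000000000000000000000000000000000000000000000000000000000000000000000000000000000000000000000000000000000000000000000000000000000000000000000000000000000000000000000000000000000000000000000000040000000200000000004000000000
theorem t125a : rng plan m125a = true := by decide +kernel
def m125b : ℕ := nat_lit 0x800000000000000000000000000000000000000000000000000000000000000000000000000000000000000000000000000000000000000020000000000000000000000000000000000000000000000000000000000000000000000000000000000000000000000000000000000000000000000000000000000000000000000000000000000000000000000000000000000000000000000000000000000000000000000000000000000000000000000000000000000000000000000000000000000000000000000000000000000040004000000000000000000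
theorem t125b : rng plan m125b = true := by decide +kernel
def m131a : ℕ := nat_lit 0xa00000002800000000040000000000000000000000000000000000000000
theorem t131a : rng plan m131a = true := by decide +kernel
def m131b : ℕ := nat_lit 0x400000005000800000000000000000000000000000000000000000000000
theorem t131b : rng plan m131b = true := by decide +kernel

def l02 : List ℕ := [m2a, m2b, m8a, m8b, m14a, m14b, m20a, m20b, m26a, m26b, m32a, m32b, m38a, m38b, m44a, m44b, m50a, m50b, m56a, m56b, m62a, m62b, m68a, m68b, m74a, m74b, m80a, m80b, m86a, m86b, m92a, m92b, m98a, m98b, m109a, m109b, m114a, m114b, m119a, m119b, m125a, m125b, m131a, m131b]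

theorem b02 : ∀ M ∈ l02, rng plan M = true :=
  List.forall_mem_cons.2 <| And.intro t2a <|
  List.forall_mem_cons.2 <| And.intro t2b <|
  List.forall_mem_cons.2 <| And.intro t8a <|
  List.forall_mem_cons.2 <| And.intro t8b <|
  List.forall_mem_cons.2 <| And.intro t14a <|
  List.forall_mem_cons.2 <| And.intro t14b <|
  List.forall_mem_cons.2 <| And.intro t20a <|
  List.forall_mem_cons.2 <| And.intro t20b <|
  List.forall_mem_cons.2 <| And.intro t26a <|
  List.forall_mem_cons.2 <| And.intro t26b <|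
  List.forall_mem_cons.2 <| And.intro t32a <|
  List.forall_mem_cons.2 <| And.intro t32b <|
  List.forall_mem_cons.2 <| And.intro t38a <|
  List.forall_mem_cons.2 <| And.intro t38b <|
  List.forall_mem_cons.2 <| And.intro t44a <|
  List.forall_mem_cons.2 <| And.intro t44b <|
  List.forall_mem_cons.2 <| And.intro t50a <|
  List.forall_mem_cons.2 <| And.intro t50b <|
  List.forall_mem_cons.2 <| And.intro t56a <|
  List.forall_mem_cons.2 <| And.intro t56b <|
  List.forall_mem_cons.2 <| And.intro t62a <|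
  List.forall_mem_cons.2 <| And.intro t62b <|
  List.forall_mem_cons.2 <| And.intro t68a <|
  List.forall_mem_cons.2 <| And.intro t68b <|
  List.forall_mem_cons.2 <| And.intro t74a <|
  List.forall_mem_cons.2 <| And.intro t74b <|
  List.forall_mem_cons.2 <| And.intro t80a <|
  List.forall_mem_cons.2 <| And.intro t80b <|
  List.forall_mem_cons.2 <| And.intro t86a <|
  List.forall_mem_cons.2 <| And.intro t86b <|
  List.forall_mem_cons.2 <| And.intro t92a <|
  List.forall_mem_cons.2 <| And.intro t92b <|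
  List.forall_mem_cons.2 <| And.intro t98a <|
  List.forall_mem_cons.2 <| And.intro t98b <|
  List.forall_mem_cons.2 <| And.intro t109a <|
  List.forall_mem_cons.2 <| And.intro t109b <|
  List.forall_mem_cons.2 <| And.intro t114a <|
  List.forall_mem_cons.2 <| And.intro t114b <|
  List.forall_mem_cons.2 <| And.intro t119a <|
  List.forall_mem_cons.2 <| And.intro t119b <|
  List.forall_mem_cons.2 <| And.intro t125a <|
  List.forall_mem_cons.2 <| And.intro t125b <|
  List.forall_mem_cons.2 <| And.intro t131a <|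
  List.forall_mem_cons.2 <| And.intro t131b <|
  List.forall_mem_nil _

end Cfsg.Agent.H908.P9.Run
end

-- part: H879/E83/Kap_mg
section
set_option linter.all false
open scoped Cfsg.Agent.FastGrp

-- part: H879/E83/Kap
section
/-!
# S5925, box U: the elements `k(λ) = ph1 (diag (λ^40, λ^9, λ^3, λ^27, λ))`

`kel_iota` : `k(λ)` acts on `iota g (A, B)` by conjugation with `κ(λ) = diag (λ, 1, λ^-9, λ^-36, λ^4)` and its twin.
-/

set_option autoImplicit false
set_option linter.unusedVariables false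
set_option linter.style.longLine false

namespace Cfsg.Agent.H879.E83

open Matrix Cfsg Cfsg.Lie Cfsg.Agent.ChevalleyStructure Cfsg.Agent.ChevalleyStructure.Elts
open Cfsg.Agent.ChevalleyStructure.HMatDiagAll (expo)
open Cfsg.Agent.H992.E8X hiding e8T
open Cfsg.Agent.H238.E8
open Cfsg.Agent.H942.E8Tab Cfsg.Agent.H942.CB Cfsg.Agent.H129.TorusChar Cfsg.Agent.Nodes.RGDChev
open Cfsg.Agent.ChevalleyStructure.CoxeterGeomTypes Cfsg.Agent.KFacts.RgdChevCoord
open Cfsg.Agent.H576.E8L
open Cfsg.Agent.BpExc.FamUntw (phi)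

/-! ### diagonal matrices on `io` -/

section
variable {K : Type} [Field K]

/-- conjugation by a diagonal matrix -/
def cjd (c : Fin 5 → K) (A : Mt K) : Mt K := Matrix.of fun a b => c a * A a b * (c b)⁻¹

theorem cjd_apply (c : Fin 5 → K) (A : Mt K) (a b : Fin 5) : cjd c A a b = c a * A a b * (c b)⁻¹ := rfl

theorem cjd_diag {c : Fin 5 → K} (hc : ∀ a, c a ≠ 0) (A : Mt K) (a : Fin 5) : cjd c A a a = A a a := by
  rw [cjd_apply]
  have := hc a
  field_simp

theorem cjd_trace {c : Fin 5 → K} (hc : ∀ a, c a ≠ 0) (A : Mt K) : (cjd c A).trace = A.trace :=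
  Finset.sum_congr rfl fun a _ => cjd_diag hc A a

theorem ps_cjd {c : Fin 5 → K} (hc : ∀ a, c a ≠ 0) (A : Mt K) (b : Fin 4) : ps (cjd c A) b = ps A b := by
  unfold ps
  exact Finset.sum_congr rfl fun a _ => by rw [cjd_diag hc]

theorem ps8_cjd {c0 c1 : Fin 5 → K} (h0 : ∀ a, c0 a ≠ 0) (h1 : ∀ a, c1 a ≠ 0) (A0 A1 : Mt K) (b : Fin 8) :
    ps8 (cjd c0 A0, cjd c1 A1) b = ps8 (A0, A1) b := by
  unfold ps8
  split_ifs
  · exact ps_cjd h0 A0 _
  · exact ps_cjd h1 A1 _

/-- a diagonal matrix with the weights `c0`, `c1` on `W0`, `W1` -/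
theorem diag_io {d : Fin chevE8.nroots → K} {c0 c1 : Fin 5 → K} (h0 : ∀ a, c0 a ≠ 0) (h1 : ∀ a, c1 a ≠ 0)
    (e0 : ∀ (s : Fin chevE8.nroots) (i j : Fin 5), i ≠ j → s.val = w0 i j → d s = c0 i * (c0 j)⁻¹)
    (e1 : ∀ (s : Fin chevE8.nroots) (i j : Fin 5), i ≠ j → s.val = w1 i j → d s = c1 i * (c1 j)⁻¹) (A0 A1 : Mt K) :
    (Matrix.diagonal (Sum.elim (fun _ => (1 : K)) d)) *ᵥ io K (A0, A1) = io K (cjd c0 A0, cjd c1 A1) := by
  funext a
  rw [Matrix.mulVec_diagonal]
  rcases a with i | u
  · rw [Sum.elim_inl, one_mul]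
    refine (io_inl (A0, A1) i).trans (Eq.trans ?_ (io_inl (cjd c0 A0, cjd c1 A1) i).symm)
    exact Finset.sum_congr rfl fun b _ => by rw [ps8_cjd h0 h1]
  · rw [Sum.elim_inr]
    by_cases hu0 : ∃ i j, i ≠ j ∧ u.val = w0 i j
    · obtain ⟨i, j, hij, hu⟩ := hu0
      rw [io_root0 A0 A1 hij hu, io_root0 _ _ hij hu, e0 u i j hij hu, cjd_apply]
      ring
    · by_cases hu1 : ∃ i j, i ≠ j ∧ u.val = w1 i j
      · obtain ⟨i, j, hij, hu⟩ := hu1
        rw [io_root1 A0 A1 hij hu, io_root1 _ _ hij hu, e1 u i j hij hu, cjd_apply]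
        ring
      · push Not at hu0 hu1
        rw [io_root_out _ hu0 hu1, io_root_out _ hu0 hu1, mul_zero]

/-! ### the element `k(λ)` -/

/-- the entries of the diagonal -/
def kd (l : Kˣ) : Fin 5 → Kˣ := ![l ^ 40, l ^ 9, l ^ 3, l ^ 27, l]

theorem kd_prod {l : Kˣ} (h : l ^ 80 = 1) : ∏ i, kd l i = 1 := by
  rw [Fin.prod_univ_five]
  show l ^ 40 * l ^ 9 * l ^ 3 * l ^ 27 * l = 1
  rw [← pow_add, ← pow_add, ← pow_add, ← pow_succ, h]

/-- `k(λ)` -/
noncomputable def kel (l : Kˣ) (h : l ^ 80 = 1) : ↥(chevE8.group K) := ph1 K (dg (kd l) (kd_prod h))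

/-- exponent of `k(λ)` on the root vector `e_s` -/
def kx (s : ℕ) : ℤ :=
  40 * expo chevE8 (rt1 0 1) s + 49 * expo chevE8 (rt1 1 2) s + 52 * expo chevE8 (rt1 2 3) s +
    79 * expo chevE8 (rt1 3 4) s

/-- exponents of `κ(λ)` -/
def ke : Fin 5 → ℕ := ![1, 0, 71, 44, 4]

theorem kx_w0 : ∀ i j : Fin 5, i ≠ j → (kx (w0 i j) - ((ke i : ℤ) - (ke j : ℤ))) % 80 = 0 := by decide +kernel
theorem kx_w1 : ∀ i j : Fin 5, i ≠ j → (kx (w1 i j) - (3 * (ke (2 * i) : ℤ) - 3 * (ke (2 * j) : ℤ))) % 80 = 0 := by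
  decide +kernel

theorem wv_kd (l : Kˣ) (s : ℕ) : wv rt1 (kd l) s = l ^ kx s := by
  unfold wv kx
  have h0 : pp (kd l) 0 = l ^ (40 : ℤ) := by
    show l ^ 40 = l ^ (40 : ℤ)
    norm_cast
  have h1 : pp (kd l) 1 = l ^ (49 : ℤ) := by
    show l ^ 40 * l ^ 9 = l ^ (49 : ℤ)
    rw [← pow_add]; norm_cast
  have h2 : pp (kd l) 2 = l ^ (52 : ℤ) := by
    show l ^ 40 * l ^ 9 * l ^ 3 = l ^ (52 : ℤ)
    rw [← pow_add, ← pow_add]; norm_cast
  have h3 : pp (kd l) 3 = l ^ (79 : ℤ) := by
    show l ^ 40 * l ^ 9 * l ^ 3 * l ^ 27 = l ^ (79 : ℤ)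
    rw [← pow_add, ← pow_add, ← pow_add]; norm_cast
  rw [h0, h1, h2, h3, ← _root_.zpow_mul, ← _root_.zpow_mul, ← _root_.zpow_mul, ← _root_.zpow_mul,
    ← _root_.zpow_add, ← _root_.zpow_add, ← _root_.zpow_add]

theorem kel_mat (l : Kˣ) (h : l ^ 80 = 1) :
    (((kel l h : ↥(chevE8.group K)) : GL chevE8.Idx K) : Matrix chevE8.Idx chevE8.Idx K) =
      Matrix.diagonal (Sum.elim (fun _ => (1 : K)) (fun s : Fin chevE8.nroots => ((l ^ kx s.val : Kˣ) : K))) := by
  have a1 := ph1_dg (kd l) (kd_prod h)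
  rw [kel, TT_diag' e8T a1.1]
  congr 2
  funext s
  have e : cX e8T (ph1 K (dg (kd l) (kd_prod h))) (_root_.Cfsg.Agent.Nodes.RGDChev.vec chevE8 8 s.val) = _ := a1.2 s
  rw [e, wv_kd]

/-- `κ(λ)` -/
def kap (l : K) : Fin 5 → K := fun a => l ^ ke a
/-- the twin of `κ(λ)` on `W1` -/
def kap1 (l : K) : Fin 5 → K := fun a => kap l (2 * a) ^ 3

theorem kap_ne {l : K} (hl : l ≠ 0) (a : Fin 5) : kap l a ≠ 0 := pow_ne_zero _ hl
theorem kap1_ne {l : K} (hl : l ≠ 0) (a : Fin 5) : kap1 l a ≠ 0 := pow_ne_zero _ (kap_ne hl _)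

theorem zp_mod {l : Kˣ} (h : l ^ 80 = 1) {m n : ℤ} (e : (m - n) % 80 = 0) : l ^ m = l ^ n := by
  have e1 : m = n + 80 * ((m - n) / 80) := by omega
  rw [e1, _root_.zpow_add, _root_.zpow_mul]
  have : l ^ (80 : ℤ) = 1 := by exact_mod_cast h
  rw [this, _root_.one_zpow, mul_one]

theorem kel_io (l : Kˣ) (h : l ^ 80 = 1) (A0 A1 : Mt K) :
    (((kel l h : ↥(chevE8.group K)) : GL chevE8.Idx K) : Matrix chevE8.Idx chevE8.Idx K) *ᵥ io K (A0, A1) =
      io K (cjd (kap (l : K)) A0, cjd (kap1 (l : K)) A1) := by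
  rw [kel_mat]
  refine diag_io (kap_ne l.ne_zero) (kap1_ne l.ne_zero) ?_ ?_ A0 A1
  · intro s i j hij hs
    have e : l ^ kx s.val = l ^ ((ke i : ℤ) - (ke j : ℤ)) := zp_mod h (by rw [hs]; exact kx_w0 i j hij)
    rw [e, _root_.zpow_sub, _root_.zpow_natCast, _root_.zpow_natCast, ← div_eq_mul_inv, div_eq_mul_inv, Units.val_mul,
      Units.val_inv_eq_inv_val, Units.val_pow_eq_pow_val, Units.val_pow_eq_pow_val]
    rfl
  · intro s i j hij hs
    have e : l ^ kx s.val = l ^ (3 * (ke (2 * i) : ℤ) - 3 * (ke (2 * j) : ℤ)) :=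
      zp_mod h (by rw [hs]; exact kx_w1 i j hij)
    have e3 : ∀ n : ℕ, l ^ (3 * (n : ℤ)) = (l ^ n) ^ 3 := by
      intro n
      rw [mul_comm, _root_.zpow_mul, _root_.zpow_natCast]
      norm_cast
    rw [e, _root_.zpow_sub, e3, e3, Units.val_mul, Units.val_inv_eq_inv_val, Units.val_pow_eq_pow_val, Units.val_pow_eq_pow_val,
      Units.val_pow_eq_pow_val, Units.val_pow_eq_pow_val]
    rfl

theorem cjd_cj (c : Fin 5 → K) (r : Fin 5 → ℕ) (g : K) (A : Mt K) : cjd c (cj r g A) = cj r g (cjd c A) := by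
  ext a b
  rw [cjd_apply, cj_apply, cj_apply, cjd_apply]
  ring

/-- **`k(λ)` on the scaled basis.** -/
theorem kel_iota (l : Kˣ) (h : l ^ 80 = 1) (g : K) (A0 A1 : Mt K) :
    (((kel l h : ↥(chevE8.group K)) : GL chevE8.Idx K) : Matrix chevE8.Idx chevE8.Idx K) *ᵥ iota g (A0, A1) =
      iota g (cjd (kap (l : K)) A0, cjd (kap1 (l : K)) A1) := by
  rw [iota_apply, iota_apply, kel_io, cjd_cj, cjd_cj]

end
end Cfsg.Agent.H879.E83
end

-- part: H65/E8L/AdCol0
section
/-!
# Kernel checks of the columns of `ad b_i` (helper65, S5925)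
-/

set_option autoImplicit false

namespace Cfsg.Agent.H65.E8L.AdChk

open Cfsg Cfsg.Lie Cfsg.Agent.ChevalleyStructure.SparseEng
open Cfsg.Agent.H65.E8L.Eng Cfsg.Agent.H65.E8L.Dat Cfsg.Agent.H65.E8L.AdDat Cfsg.Agent.H65.E8L.Chk Cfsg.Agent.H65.E8L.AdEng

private noncomputable def frc {α : Type} (f : ℕ → α) (n : ℕ) : α := Nat.rec (f 0) (fun k _ => f (Nat.succ k)) n

private theorem frc_eq {α : Type} (f : ℕ → α) (n : ℕ) : frc f n = f n := by cases n <;> rfl

private def row (r : ℕ) : List (ℕ × Array (ℕ × ℤ)) := (chevE8.chain.getD r #[]).toList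

private noncomputable def msk (l : List (ℕ × Array (ℕ × ℤ))) : ℕ :=
  List.rec 0 (fun e _ ih => Nat.lor (Nat.shiftLeft 1 e.1) ih) l

private noncomputable def fl (s : ℕ) (l : List (ℕ × Array (ℕ × ℤ))) : List (ℕ × Array (ℕ × ℤ)) :=
  List.rec [] (fun e _ ih => bif Nat.beq e.1 s then e :: ih else ih) l

private noncomputable def pk (l : List ℤ) : ℕ := List.rec 0 (fun x _ ih => Nat.add (z3 x) (Nat.mul 4 ih)) l

private noncomputable def cz (i s : ℕ) : ℕ :=
  Nat.mod (Nat.shiftRight (pk (chevE8.cartanSR.getD i #[]).toList) (Nat.mul 2 s)) 4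

private theorem fl_eq (s : ℕ) : ∀ l : List (ℕ × Array (ℕ × ℤ)), fl s l = l.filter fun e => e.1 = s
  | [] => rfl
  | e :: l => by
    have h : fl s (e :: l) = bif Nat.beq e.1 s then e :: fl s l else fl s l := rfl
    rw [h, fl_eq s l, List.filter_cons]
    by_cases h1 : e.1 = s
    · rw [if_pos (decide_eq_true h1), h1, Nat.beq_refl]
      rfl
    · rw [if_neg (by simpa using h1), Bool.eq_false_iff.2 fun h2 => h1 (Nat.eq_of_beq_eq_true h2)]
      rfl

private theorem fl_nil {s : ℕ} : ∀ {l : List (ℕ × Array (ℕ × ℤ))}, (msk l).testBit s = false →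
    (l.filter fun e => e.1 = s) = []
  | [], _ => rfl
  | e :: l, h => by
    have h1 : msk (e :: l) = 1 <<< e.1 ||| msk l := rfl
    rw [h1, Nat.testBit_or, Bool.or_eq_false_iff, Nat.shiftLeft_eq, one_mul, Nat.testBit_two_pow] at h
    rw [List.filter_cons, h.1, fl_nil h.2]
    rfl

private theorem z3_lt (z : ℤ) : z3 z < 3 := by
  unfold z3
  omega

private theorem pk_eq : ∀ (l : List ℤ) (n : ℕ), pk l / 4 ^ n % 4 = z3 (l.getD n 0)
  | [], n => by
    show 0 / 4 ^ n % 4 = 0
    rw [Nat.zero_div]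
  | x :: l, 0 => by
    have h := z3_lt x
    show (z3 x + 4 * pk l) / 1 % 4 = z3 x
    omega
  | x :: l, n + 1 => by
    have h := z3_lt x
    have h1 : (z3 x + 4 * pk l) / 4 = pk l := by omega
    show (z3 x + 4 * pk l) / 4 ^ (n + 1) % 4 = z3 (l.getD n 0)
    rw [pow_succ', ← Nat.div_div_eq_div_mul, h1, pk_eq l n]

private theorem cz_eq (i s : ℕ) : cz i s = z3 ((chevE8.cartanSR.getD i #[]).getD s 0) := by
  have h : cz i s = (pk (chevE8.cartanSR.getD i #[]).toList >>> (2 * s)) % 4 := rfl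
  rw [h, Nat.shiftRight_eq_div_pow, pow_mul, show 2 ^ 2 = 4 from rfl, pk_eq,
    Array.getD_eq_getD_getElem? (xs := chevE8.cartanSR.getD i #[]), List.getD_eq_getElem?_getD, Array.getElem?_toList]

private theorem z3_neg (z : ℤ) : z3 (-z) = (3 - z3 z) % 3 := by
  unfold z3
  omega

private noncomputable def adF (a k : ℕ) : Option (List (ℕ × ℕ)) :=
  bif and (Nat.ble 8 k) (and (Nat.ble k 247) (Nat.ble a 247)) then
    frc (fun s => bif Nat.ble 8 a then frc (fun r =>
        bif Nat.beq s r then some [] else bif Nat.beq s (chevE8.negIdx.getD r 0) then adX a k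
        else bif Nat.beq (Nat.land 1 (Nat.shiftRight (msk (row r)) s)) 0 then some []
        else adc k ((k, 1, 0) :: (fl s (row r)).flatMap
          fun e => (e.2.toList.zipIdx).map fun q => (chevE8.rank + q.1.1, q.1.2, q.2 + 1))) (Nat.sub a 8)
      else some [(k, cz a s)]) (Nat.sub k 8)
  else bif and (Nat.ble k 7) (and (Nat.ble 8 a) (Nat.ble a 247)) then some [(a, Nat.mod (Nat.sub 3 (cz k (Nat.sub a 8))) 3)]
  else adX a k

private theorem adc_one (k : ℕ) : adc k [(k, 1, 0)] = some [] := by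
  have h : adc k [(k, 1, 0)] = if ((k == k && (1 : ℤ) == 1 && 0 == 0) && true) = true then some [] else none := rfl
  rw [h, if_pos (by simp)]

private theorem adF_eq (a k : ℕ) : adF a k = adX a k := by
  unfold adF
  have hr : chevE8.rank = 8 := rfl
  have hn : chevE8.nroots = 240 := rfl
  cases h0 : and (Nat.ble 8 k) (and (Nat.ble k 247) (Nat.ble a 247))
  · rw [cond_false]
    cases h1 : and (Nat.ble k 7) (and (Nat.ble 8 a) (Nat.ble a 247))
    · rfl
    rw [Bool.and_eq_true, Bool.and_eq_true] at h1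
    have h2 : k ≤ 7 := Nat.le_of_ble_eq_true h1.1
    have h3 : 8 ≤ a := Nat.le_of_ble_eq_true h1.2.1
    have h4 : a ≤ 247 := Nat.le_of_ble_eq_true h1.2.2
    have h5 : ∀ (c : ℕ) (z : ℤ), adc k [(k, 1, 0), (c, z, 1)] = some [(c, z3 z)] := fun c z => by
      have h : adc k [(k, 1, 0), (c, z, 1)] =
        if ((k == k && (1 : ℤ) == 1 && 0 == 0) && true) = true then some [(c, z3 z)] else none := rfl
      rw [h, if_pos (by simp)]
    rw [cond_true, cz_eq]
    unfold adX act
    rw [if_neg (by omega), if_pos (by omega), if_pos (by omega), if_pos (by omega), h5, z3_neg, hr,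
      show 8 + (a - 8) = a by omega]
    rfl
  rw [Bool.and_eq_true, Bool.and_eq_true] at h0
  have h1 : 8 ≤ k := Nat.le_of_ble_eq_true h0.1
  have h2 : k ≤ 247 := Nat.le_of_ble_eq_true h0.2.1
  have h3 : a ≤ 247 := Nat.le_of_ble_eq_true h0.2.2
  rw [cond_true, frc_eq]
  cases h4 : Nat.ble 8 a
  · have h5 : a < 8 := by
      by_contra h6
      rw [Nat.ble_eq_true_of_le (by omega)] at h4
      exact absurd h4 (by decide)
    rw [cond_false, cz_eq]
    unfold adX
    rw [if_pos h5, if_neg (by omega)]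
    rfl
  have h5 : 8 ≤ a := Nat.le_of_ble_eq_true h4
  rw [cond_true, frc_eq]
  have hX : adX a k = adc k (if k - 8 = a - 8 then [(k, 1, 0)] else if k - 8 = chevE8.negIdx.getD (a - 8) 0 then
      (k, 1, 0) :: (chevE8.rank + (a - 8), -1, 2) ::
        (List.range chevE8.rank).map (fun i => (i, (chevE8.coroot.getD (a - 8) #[]).getD i 0, 1))
      else (k, 1, 0) :: ((row (a - 8)).filter (fun e => e.1 = k - 8)).flatMap
        fun e => (e.2.toList.zipIdx).map fun q => (chevE8.rank + q.1.1, q.1.2, q.2 + 1)) := by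
    unfold adX act
    rw [if_neg (by omega), if_pos (by omega), if_pos (by omega), if_neg (by omega), if_pos (by omega)]
    rfl
  show (bif Nat.beq (k - 8) (a - 8) then some [] else bif Nat.beq (k - 8) (chevE8.negIdx.getD (a - 8) 0) then adX a k
    else bif Nat.beq (1 &&& (msk (row (a - 8)) >>> (k - 8))) 0 then some []
    else adc k ((k, 1, 0) :: (fl (k - 8) (row (a - 8))).flatMap
      fun e => (e.2.toList.zipIdx).map fun q => (chevE8.rank + q.1.1, q.1.2, q.2 + 1))) = adX a k
  cases h6 : Nat.beq (k - 8) (a - 8)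
  swap
  · rw [cond_true, hX, if_pos (Nat.eq_of_beq_eq_true h6), adc_one]
  rw [cond_false]
  cases h7 : Nat.beq (k - 8) (chevE8.negIdx.getD (a - 8) 0)
  swap
  · rfl
  rw [cond_false, hX, if_neg (Nat.ne_of_beq_eq_false h6), if_neg (Nat.ne_of_beq_eq_false h7)]
  cases h8 : Nat.beq (1 &&& (msk (row (a - 8)) >>> (k - 8))) 0
  · rw [cond_false, fl_eq]
  · have h9 : (msk (row (a - 8))).testBit (k - 8) = false := by
      unfold Nat.testBit
      rw [Nat.eq_of_beq_eq_true h8]
      rfl
    rw [cond_true, fl_nil h9, List.flatMap_nil, adc_one]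

private noncomputable def adG (b : List (ℕ × ℕ)) (k : ℕ) : Option (List (ℕ × ℕ)) :=
  List.rec (some []) (fun a _ ih => frc (fun c => Option.rec none (fun m => Option.rec none
    (fun acc => some (m.foldr (fun b acc => _root_.Cfsg.Agent.H65.E8L.Eng.ins b.1 (a.2 * b.2) acc) acc)) ih) (adF c k)) a.1) b

private theorem adG_eq (k : ℕ) : ∀ b : List (ℕ × ℕ), adG b k = adB b k
  | [] => rfl
  | a :: b => by
    have h1 : adG (a :: b) k = frc (fun c => Option.rec none (fun m => Option.rec none
      (fun acc => some (m.foldr (fun b acc => _root_.Cfsg.Agent.H65.E8L.Eng.ins b.1 (a.2 * b.2) acc) acc)) (adG b k)) (adF c k)) a.1 := rfl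
    have h2 : adB (a :: b) k = match adX a.1 k, adB b k with
      | some m, some acc => some (m.foldr (fun b acc => _root_.Cfsg.Agent.H65.E8L.Eng.ins b.1 (a.2 * b.2) acc) acc)
      | _, _ => none := rfl
    rw [h1, h2, frc_eq, adF_eq, adG_eq k b]
    cases adX a.1 k <;> cases adB b k <;> rfl

private noncomputable def allT (b : List (ℕ × ℕ)) (T : List (List (ℕ × ℕ))) : ℕ → Bool :=
  List.rec (fun k => Nat.beq k 248) (fun t _ ih k => and (Option.rec false (fun m => eqL m t) (adG b k))
    (frc ih (Nat.succ k))) T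

private theorem allT_spec {b : List (ℕ × ℕ)} : ∀ {T : List (List (ℕ × ℕ))} {n : ℕ}, allT b T n = true →
    ∀ j, n + j < 248 → ∃ m, adB b (n + j) = some m ∧ eqL m (T.getD j []) = true
  | [], n, h, j, hj => by
    have h1 : n = 248 := Nat.eq_of_beq_eq_true h
    omega
  | t :: T, n, h, j, hj => by
    have h1 : and (Option.rec false (fun m => eqL m t) (adG b n)) (frc (allT b T) (n + 1)) = true := h
    rw [Bool.and_eq_true, frc_eq, adG_eq] at h1
    cases j with
    | zero =>
      have h2 := h1.1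
      rw [Nat.add_zero]
      generalize adB b n = o at h2
      cases o with
      | none => exact absurd h2 Bool.false_ne_true
      | some m => exact ⟨m, rfl, h2⟩
    | succ j =>
      have h2 := allT_spec h1.2 j (by omega)
      rwa [Nat.add_right_comm n 1 j] at h2

private theorem colB_of {b : List (ℕ × ℕ)} {T : List (List (ℕ × ℕ))} (h : allT b T 0 = true) (k : ℕ) (hk : k < 248) :
    colB b T k = true := by
  obtain ⟨m, h1, h2⟩ := allT_spec h k (by omega)
  rw [Nat.zero_add] at h1
  unfold colB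
  rw [h1]
  exact h2

private noncomputable def _root_.Cfsg.Agent.KO19b175f.k5 : type_of% @Nat.decEq := @(fun x0 x1 => @Bool.rec.{1} @(fun x2 => (@Eq.{1} _ (@Nat.beq @x0 @x1) @x2) → @Decidable (@Eq.{1} _ @x0 @x1)) @(fun x2 => @Decidable.isFalse _ (@Nat.ne_of_beq_eq_false _ _ @x2)) @(fun x2 => @Decidable.isTrue _ (@Nat.eq_of_beq_eq_true _ _ @x2)) (@Nat.beq @x0 @x1) (@Eq.refl.{1} _ (@Nat.beq @x0 @x1)))
private theorem _root_.Cfsg.Agent.KO19b175f.e5 : @Nat.decEq = @_root_.Cfsg.Agent.KO19b175f.k5 := by delta _root_.Cfsg.Agent.KO19b175f.k5; rfl'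
private noncomputable def _root_.Cfsg.Agent.KO19b175f.k7 : type_of% @Int.decEq := @(fun x0 x1 => @Int.rec.{1} @(fun x2 => @Decidable (@Eq.{1} _ @x2 @x1)) @(fun x2 => @Int.rec.{1} @(fun x3 => @Decidable (@Eq.{1} _ (@Int.ofNat @x2) @x3)) @(fun x3 => @Decidable.rec.{1} _ @(fun x4 => @Decidable (@Eq.{1} _ (@Int.ofNat @x2) (@Int.ofNat @x3))) @(fun x4 => @Decidable.isFalse _ (@Int.decEq._proof_2 @x2 @x3 @x4)) @(fun x4 => @Decidable.isTrue _ (@Int.decEq._proof_1 @x2 @x3 @x4)) (@Cfsg.Agent.KO19b175f.k5 @x2 @x3)) @(fun x3 => @Decidable.isFalse _ (@Int.decEq._proof_3 @x2 @x3)) @x1) @(fun x2 => @Int.rec.{1} @(fun x3 => @Decidable (@Eq.{1} _ (@Int.negSucc @x2) @x3)) @(fun x3 => @Decidable.isFalse _ (@Int.decEq._proof_4 @x2 @x3)) @(fun x3 => @Decidable.rec.{1} _ @(fun x4 => @Decidable (@Eq.{1} _ (@Int.negSucc @x2) (@Int.negSucc @x3))) @(fun x4 => @Decidable.isFalse _ (@Int.decEq._proof_6 @x2 @x3 @x4)) @(fun x4 => @Decidable.isTrue _ (@Int.decEq._proof_5 @x2 @x3 @x4)) (@Cfsg.Agent.KO19b175f.k5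 @x2 @x3)) @x1) @x0)
private theorem _root_.Cfsg.Agent.KO19b175f.e7 : @Int.decEq = @_root_.Cfsg.Agent.KO19b175f.k7 := by delta _root_.Cfsg.Agent.KO19b175f.k7; rewrite [← Cfsg.Agent.KO19b175f.e5]; rfl'
private noncomputable def _root_.Cfsg.Agent.KO19b175f.oEq.{ku} (α : Sort ku) (a b : Nat) (f t : α) : α := @Decidable.rec (a = b) (fun _ => α) (fun _ => f) (fun _ => t) (Nat.decEq a b)
private noncomputable def _root_.Cfsg.Agent.KO19b175f.k11.{ku} (α : Sort ku) (a b : Nat) (f t : α) : α := @Bool.rec (fun _ => α) f t (Nat.beq a b)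
private theorem _root_.Cfsg.Agent.KO19b175f.e11.{ku} : @_root_.Cfsg.Agent.KO19b175f.oEq.{ku} = @_root_.Cfsg.Agent.KO19b175f.k11.{ku} := funext fun α => funext fun a => funext fun b => funext fun f => funext fun t => by delta _root_.Cfsg.Agent.KO19b175f.oEq _root_.Cfsg.Agent.KO19b175f.k11; cases h : Nat.beq a b <;> cases Nat.decEq a b <;> rename_i g <;> first | rfl | exact absurd g (Nat.ne_of_beq_eq_false h) | exact absurd (Nat.eq_of_beq_eq_true h) g
private theorem _root_.Cfsg.Agent.KO19b175f.e12.{ku, kv} {α : Type kv} {M : List α → Sort ku} (φ : ∀ l, M l) {z : M List.nil} {s : ∀ a l, M l → M (List.cons a l)} (h0 : φ List.nil = z) (hs : ∀ a l, φ (List.cons a l) = s a l (φ l)) (l : List α) : φ l = @List.rec α M z s l := List.rec h0 (fun a l ih => (hs a l).trans (congrArg (s a l) ih)) l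
private noncomputable def _root_.Cfsg.Agent.KO19b175f.k16 : type_of% @Bool.decEq := @(fun x0 x1 => @Bool.rec.{1} @(fun x2 => @Decidable (@Eq.{1} _ @x2 @x1)) (@Bool.rec.{1} @(fun x2 => @Decidable (@Eq.{1} _ @Bool.false @x2)) (@Decidable.isTrue _ (@rfl.{1} _ _)) (@Decidable.isFalse _ @(fun x2 => @Bool.noConfusion.{0} _ _ _ @x2)) @x1) (@Bool.rec.{1} @(fun x2 => @Decidable (@Eq.{1} _ @Bool.true @x2)) (@Decidable.isFalse _ @(fun x2 => @Bool.noConfusion.{0} _ _ _ @x2)) (@Decidable.isTrue _ (@rfl.{1} _ _)) @x1) @x0)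
private theorem _root_.Cfsg.Agent.KO19b175f.e16 : @Bool.decEq = @_root_.Cfsg.Agent.KO19b175f.k16 := by delta _root_.Cfsg.Agent.KO19b175f.k16; rfl'
private noncomputable def _root_.Cfsg.Agent.KO19b175f.k17 : type_of% @Nat.decLe := @(fun x0 x1 => @Decidable.rec.{1} _ @(fun x2 => @Decidable (@LE.le.{0} _ _ @x0 @x1)) @(fun x2 => @Decidable.isFalse _ (@Nat.not_le_of_not_ble_eq_true _ _ @x2)) @(fun x2 => @Decidable.isTrue _ (@Nat.le_of_ble_eq_true _ _ @x2)) (@Cfsg.Agent.KO19b175f.k16 (@Nat.ble @x0 @x1) @Bool.true))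
private theorem _root_.Cfsg.Agent.KO19b175f.e17 : @Nat.decLe = @_root_.Cfsg.Agent.KO19b175f.k17 := by delta _root_.Cfsg.Agent.KO19b175f.k17; rewrite [← Cfsg.Agent.KO19b175f.e16]; rfl'
private theorem _root_.Cfsg.Agent.KO19b175f.e21.{ku} {M : Nat → Sort ku} (φ : ∀ n, M n) {z : M Nat.zero} {s : ∀ n, M n → M (Nat.succ n)} (h0 : φ Nat.zero = z) (hs : ∀ n, φ (Nat.succ n) = s n (φ n)) (n : Nat) : φ n = @Nat.rec M z s n := Nat.rec h0 (fun n ih => (hs n).trans (congrArg (s n) ih)) n
private noncomputable def _root_.Cfsg.Agent.KO19b175f.k31 : type_of% @Bool.and := @(fun x0 x1 => @Bool.rec.{1} @(fun x2 => @Bool) @Bool.false @x1 @x0)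
private theorem _root_.Cfsg.Agent.KO19b175f.e31 : @Bool.and = @_root_.Cfsg.Agent.KO19b175f.k31 := by delta _root_.Cfsg.Agent.KO19b175f.k31; rfl'
private noncomputable def _root_.Cfsg.Agent.KO19b175f.k32 : (by first | exact type_of% @Cfsg.Agent.H65.E8L.AdChk.frc | exact Unit : Sort _) := by first | (refine @Subtype.val _ (fun g => @Cfsg.Agent.H65.E8L.AdChk.frc = @g) (@Subtype.mk _ _ (@(fun x0 x1 x2 => @Nat.rec.{1} @(fun x3 => @x0) (@x1 (nat_lit 0)) @(fun x3 x4 => @x1 (@Nat.succ @x3)) @x2)) ?_); rfl') | exact @Cfsg.Agent.H65.E8L.AdChk.frc | exact ()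
private theorem _root_.Cfsg.Agent.KO19b175f.e32 : (by first | exact @Cfsg.Agent.H65.E8L.AdChk.frc = @_root_.Cfsg.Agent.KO19b175f.k32 | exact True : Prop) := by first | (delta _root_.Cfsg.Agent.KO19b175f.k32; exact @Subtype.property _ (fun g => @Cfsg.Agent.H65.E8L.AdChk.frc = @g) _) | rfl | trivial
private noncomputable def _root_.Cfsg.Agent.KO19b175f.k34 : (by first | exact type_of% @Cfsg.Agent.H65.E8L.Chk.eqL | exact Unit : Sort _) := by first | (refine @Subtype.val _ (fun g => @Cfsg.Agent.H65.E8L.Chk.eqL = @g) (@Subtype.mk _ _ (@(fun (x0 : @List.{0} (@Prod.{0, 0} @Nat @Nat)) (x1 : @List.{0} (@Prod.{0, 0} @Nat @Nat)) => @List.rec.{1, 0} (@Prod.{0, 0} @Nat @Nat) @(fun (x2 : @List.{0} (@Prod.{0, 0} @Nat @Nat)) => ((@List.{0} (@Prod.{0, 0} @Nat @Nat)) → @Bool)) @(fun (x2 : @List.{0} (@Prod.{0, 0} @Nat @Nat)) => @List.rec.{1, 0} (@Prod.{0, 0} @Nat @Nat) @(fun (x3 : @List.{0} (@Prod.{0, 0} @Nat @Nat)) => (((@Nat.hasNotBit (nat_lit 1) (@List.ctorIdx.{0} (@Prod.{0, 0} @Nat @Nat) @x3))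 → @Bool) → @Bool)) @(fun (x3 : ((@Nat.hasNotBit (nat_lit 1) (@List.ctorIdx.{0} (@Prod.{0, 0} @Nat @Nat) (@List.nil.{0} (@Prod.{0, 0} @Nat @Nat)))) → @Bool)) => @Bool.true) @(fun (x3 : @Prod.{0, 0} @Nat @Nat) (x4 : @List.{0} (@Prod.{0, 0} @Nat @Nat)) (x5 : (((@Nat.hasNotBit (nat_lit 1) (@List.ctorIdx.{0} (@Prod.{0, 0} @Nat @Nat) @x4)) → @Bool) → @Bool)) (x6 : ((@Nat.hasNotBit (nat_lit 1) (@List.ctorIdx.{0} (@Prod.{0, 0} @Nat @Nat) (@List.cons.{0} (@Prod.{0, 0} @Nat @Nat) @x3 @x4))) → @Bool)) => @x6 (@Nat.ne_of_beq_eq_false (@Nat.land (@OfNat.ofNat.{0} @Nat (nat_lit 1) (@instOfNatNat (nat_lit 1))) (@Nat.shiftRight (nat_lit 1) (nat_lit 1))) (@OfNat.ofNat.{0} @Nat (nat_lit 1) (@instOfNatNat (nat_lit 1))) (@Eq.refl.{1} @Bool @Bool.false))) @x2 @(fun (x3 : @Nat.hasNotBit (nat_lit 1) (@List.ctorIdx.{0} (@Prod.{0, 0} @Nat @Nat) @x2)) => @Bool.false)) @(fun (x2 : @Prod.{0, 0} @Nat @Nat) (x3 : @List.{0} (@Prod.{0, 0} @Nat @Nat)) (x4 : ((@List.{0} (@Prod.{0, 0} @Nat @Nat)) → @Bool)) (x5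 : @List.{0} (@Prod.{0, 0} @Nat @Nat)) => @List.rec.{1, 0} (@Prod.{0, 0} @Nat @Nat) @(fun (x6 : @List.{0} (@Prod.{0, 0} @Nat @Nat)) => (((@Nat.hasNotBit (nat_lit 2) (@List.ctorIdx.{0} (@Prod.{0, 0} @Nat @Nat) @x6)) → @Bool) → @Bool)) @(fun (x6 : ((@Nat.hasNotBit (nat_lit 2) (@List.ctorIdx.{0} (@Prod.{0, 0} @Nat @Nat) (@List.nil.{0} (@Prod.{0, 0} @Nat @Nat)))) → @Bool)) => @x6 (@Nat.ne_of_beq_eq_false (@Nat.land (@OfNat.ofNat.{0} @Nat (nat_lit 1) (@instOfNatNat (nat_lit 1))) (@Nat.shiftRight (nat_lit 2) (nat_lit 0))) (@OfNat.ofNat.{0} @Nat (nat_lit 1) (@instOfNatNat (nat_lit 1))) (@Eq.refl.{1} @Bool @Bool.false))) @(fun (x6 : @Prod.{0, 0} @Nat @Nat) (x7 : @List.{0} (@Prod.{0, 0} @Nat @Nat)) (x8 : (((@Nat.hasNotBit (nat_lit 2) (@List.ctorIdx.{0} (@Prod.{0, 0} @Nat @Nat) @x7)) → @Bool) → @Bool)) (x9 : ((@Nat.hasNotBit (nat_lit 2) (@List.ctorIdx.{0} (@Prod.{0, 0} @Nat @Nat) (@List.cons.{0} (@Prod.{0, 0} @Nat @Nat) @x6 @x7))) → @Bool)) => @Bool.rec.{1} @(fun (x10 : @Bool) => @Bool)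 @Bool.false (@Bool.rec.{1} @(fun (x10 : @Bool) => @Bool) @Bool.false (@x4 @x7) (@Nat.beq (@Prod.snd.{0, 0} @Nat @Nat @x2) (@Prod.snd.{0, 0} @Nat @Nat @x6))) (@Nat.beq (@Prod.fst.{0, 0} @Nat @Nat @x2) (@Prod.fst.{0, 0} @Nat @Nat @x6))) @x5 @(fun (x6 : @Nat.hasNotBit (nat_lit 2) (@List.ctorIdx.{0} (@Prod.{0, 0} @Nat @Nat) @x5)) => @Bool.false)) @x0 @x1)) ?_); funext a0 a1; refine (congrFun (_root_.Cfsg.Agent.KO19b175f.e12 (fun a0 a1 => @Cfsg.Agent.H65.E8L.Chk.eqL a0 a1) ?_ (fun c0 c1 => ?_) a0) a1 :) <;> [(funext b0; (cases b0 with | @nil  => (rfl') | @cons b0_0 b0_1 => (rfl'))); (funext b0; (cases b0 with | @nil  => (rfl') | @cons b0_0 b0_1 => (rfl')))]) | exact @Cfsg.Agent.H65.E8L.Chk.eqL | exact ()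
private theorem _root_.Cfsg.Agent.KO19b175f.e34 : (by first | exact @Cfsg.Agent.H65.E8L.Chk.eqL = @_root_.Cfsg.Agent.KO19b175f.k34 | exact True : Prop) := by first | (delta _root_.Cfsg.Agent.KO19b175f.k34; exact @Subtype.property _ (fun g => @Cfsg.Agent.H65.E8L.Chk.eqL = @g) _) | rfl | trivial
private noncomputable def _root_.Cfsg.Agent.KO19b175f.k35.{ku0, ku1} : type_of% @List.foldr.{ku0, ku1} := @(fun x0 x1 x2 x3 x4 => @List.rec.{(ku1+1), ku0} @x0 @(fun x5 => @x1) @x3 @(fun x5 x6 x7 => @x2 @x5 @x7) @x4)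
private theorem _root_.Cfsg.Agent.KO19b175f.e35.{ku0, ku1} : @List.foldr.{ku0, ku1} = @_root_.Cfsg.Agent.KO19b175f.k35.{ku0, ku1} := by delta _root_.Cfsg.Agent.KO19b175f.k35; funext a0 a1 a2 a3 a4; refine (_root_.Cfsg.Agent.KO19b175f.e12 (fun a4 => @List.foldr.{ku0, ku1} a0 a1 a2 a3 a4) ?_ (fun c0 c1 => ?_) a4 :) <;> (rfl')
private noncomputable def _root_.Cfsg.Agent.KO19b175f.oLe.{ku} (α : Sort ku) (a b : Nat) (f t : α) : α := @Decidable.rec (@LE.le Nat instLENat a b) (fun _ => α) (fun _ => f) (fun _ => t) (Nat.decLe a b)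
private noncomputable def _root_.Cfsg.Agent.KO19b175f.k36.{ku} (α : Sort ku) (a b : Nat) (f t : α) : α := @Bool.rec (fun _ => α) f t (Nat.ble a b)
private theorem _root_.Cfsg.Agent.KO19b175f.e36.{ku} : @_root_.Cfsg.Agent.KO19b175f.oLe.{ku} = @_root_.Cfsg.Agent.KO19b175f.k36.{ku} := funext fun α => funext fun a => funext fun b => funext fun f => funext fun t => by delta _root_.Cfsg.Agent.KO19b175f.oLe _root_.Cfsg.Agent.KO19b175f.k36; cases h : Nat.ble a b <;> cases Nat.decLe a b <;> rename_i g <;> first | rfl | exact absurd (h.symm.trans (Nat.ble_eq_true_of_le g)) Bool.false_ne_true | exact absurd (Nat.le_of_ble_eq_true h) g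
private noncomputable def _root_.Cfsg.Agent.KO19b175f.k37 : (by first | exact type_of% @Cfsg.Agent.H65.E8L.Eng.ins | exact Unit : Sort _) := by first | (refine @Subtype.val _ (fun g => @Cfsg.Agent.H65.E8L.Eng.ins = @g) (@Subtype.mk _ _ (@(fun x0 x1 x2 => @List.rec.{1, 0} (ℕ × ℕ) @(fun x3 => @List.{0} (ℕ × ℕ)) (@Cfsg.Agent.KO19b175f.k11.{1} (@List.{0} (ℕ × ℕ)) (@Nat.mod @x1 (nat_lit 3)) (nat_lit 0) (((@x0, @Nat.mod @x1 (nat_lit 3))) :: []) []) @(fun x3 x4 x5 => @Cfsg.Agent.KO19b175f.k11.{1} (@List.{0} (ℕ × ℕ)) (@Prod.fst.{0, 0} _ _ @x3) @x0 (@Cfsg.Agent.KO19b175f.k36.{1} (@List.{0} (ℕ × ℕ)) (@Nat.succ @x0) (@Prod.fst.{0, 0} _ _ @x3) (@x3 :: @x5) (@Cfsg.Agent.KO19b175f.k11.{1} (@List.{0} (ℕ × ℕ)) (@Nat.mod @x1 (nat_lit 3)) (nat_lit 0) (((@x0, @Nat.mod @x1 (nat_lit 3))) :: (@x3 :: @x4)) (@x3 :: @x4))) (@Cfsg.Agent.KO19b175f.k11.{1} (@List.{0} (ℕ × ℕ)) (@Nat.mod (@Nat.add (@Prod.snd.{0, 0} _ _ @x3) @x1) (nat_lit 3)) (nat_lit 0) (((@x0, @Nat.mod (@Nat.add (@Prod.snd.{0, 0} _ _ @x3)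 @x1) (nat_lit 3))) :: @x4) @x4)) @x2)) ?_); rewrite [← Cfsg.Agent.KO19b175f.e36.{1}, ← Cfsg.Agent.KO19b175f.e11.{1}]; funext a0 a1 a2; refine (_root_.Cfsg.Agent.KO19b175f.e12 (fun a2 => @Cfsg.Agent.H65.E8L.Eng.ins a0 a1 a2) ?_ (fun c0 c1 => ?_) a2 :) <;> (rfl')) | exact @Cfsg.Agent.H65.E8L.Eng.ins | exact ()
private theorem _root_.Cfsg.Agent.KO19b175f.e37 : (by first | exact @Cfsg.Agent.H65.E8L.Eng.ins = @_root_.Cfsg.Agent.KO19b175f.k37 | exact True : Prop) := by first | (delta _root_.Cfsg.Agent.KO19b175f.k37; exact @Subtype.property _ (fun g => @Cfsg.Agent.H65.E8L.Eng.ins = @g) _) | rfl | trivial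
private noncomputable def _root_.Cfsg.Agent.KO19b175f.oB.{ku} (α : Sort ku) (c : Bool) (f t : α) : α := @Decidable.rec (c = true) (fun _ => α) (fun _ => f) (fun _ => t) (instDecidableEqBool c true)
private noncomputable def _root_.Cfsg.Agent.KO19b175f.k38.{ku} (α : Sort ku) (c : Bool) (f t : α) : α := @Bool.rec (fun _ => α) f t c
private theorem _root_.Cfsg.Agent.KO19b175f.e38.{ku} : @_root_.Cfsg.Agent.KO19b175f.oB.{ku} = @_root_.Cfsg.Agent.KO19b175f.k38.{ku} := funext fun α => funext fun c => funext fun f => funext fun t => by cases c <;> rfl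
private noncomputable def _root_.Cfsg.Agent.KO19b175f.k39.{ku0} : type_of% @List.all.{ku0} := @(fun x0 x1 x2 => @List.rec.{(ku0+1), ku0} @x0 @(fun x3 => (@x0 → @Bool) → @Bool) @(fun x3 => @Bool.true) @(fun x3 x4 x5 x6 => @Bool.rec.{1} @(fun x7 => @Bool) @Bool.false (@x5 @x6) (@x6 @x3)) @x1 @x2)
private theorem _root_.Cfsg.Agent.KO19b175f.e39.{ku0} : @List.all.{ku0} = @_root_.Cfsg.Agent.KO19b175f.k39.{ku0} := by delta _root_.Cfsg.Agent.KO19b175f.k39; funext a0 a1 a2; refine (congrFun (_root_.Cfsg.Agent.KO19b175f.e12 (fun a1 a2 => @List.all.{ku0} a0 a1 a2) ?_ (fun c0 c1 => ?_) a1) a2 :) <;> (rfl')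
private noncomputable def _root_.Cfsg.Agent.KO19b175f.k40.{ku0, ku1} : type_of% @List.map.{ku0, ku1} := @(fun x0 x1 x2 x3 => @List.rec.{(ku1+1), ku0} @x0 @(fun x4 => @List.{ku1} @x1) [] @(fun x4 x5 x6 => (@x2 @x4) :: @x6) @x3)
private theorem _root_.Cfsg.Agent.KO19b175f.e40.{ku0, ku1} : @List.map.{ku0, ku1} = @_root_.Cfsg.Agent.KO19b175f.k40.{ku0, ku1} := by delta _root_.Cfsg.Agent.KO19b175f.k40; funext a0 a1 a2 a3; refine (_root_.Cfsg.Agent.KO19b175f.e12 (fun a3 => @List.map.{ku0, ku1} a0 a1 a2 a3) ?_ (fun c0 c1 => ?_) a3 :) <;> (rfl')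
private noncomputable def _root_.Cfsg.Agent.KO19b175f.k41.{ku0} : type_of% @List.filter.{ku0} := @(fun x0 x1 x2 => @List.rec.{(ku0+1), ku0} @x0 @(fun x3 => @List.{ku0} @x0) [] @(fun x3 x4 x5 => @Bool.rec.{(ku0+1)} @(fun x6 => @List.{ku0} @x0) @x5 (@x3 :: @x5) (@x1 @x3)) @x2)
private theorem _root_.Cfsg.Agent.KO19b175f.e41.{ku0} : @List.filter.{ku0} = @_root_.Cfsg.Agent.KO19b175f.k41.{ku0} := by delta _root_.Cfsg.Agent.KO19b175f.k41; funext a0 a1 a2; refine (_root_.Cfsg.Agent.KO19b175f.e12 (fun a2 => @List.filter.{ku0} a0 a1 a2) ?_ (fun c0 c1 => ?_) a2 :) <;> (rfl')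
private noncomputable def _root_.Cfsg.Agent.KO19b175f.k42 : (by first | exact type_of% @Cfsg.Agent.H65.E8L.AdEng.adc | exact Unit : Sort _) := by first | (refine @Subtype.val _ (fun g => @Cfsg.Agent.H65.E8L.AdEng.adc = @g) (@Subtype.mk _ _ (@(fun x0 x1 => @List.rec.{1, 0} (ℕ × (ℤ × ℕ)) @(fun x2 => @Option.{0} (@List.{0} (ℕ × ℕ))) (@Option.none.{0} _) @(fun x2 x3 x4 => @Cfsg.Agent.KO19b175f.k38.{1} (@Option.{0} (@List.{0} (ℕ × ℕ))) (@Bool.rec.{1} @(fun x5 => @Bool) @Bool.false (@Cfsg.Agent.KO19b175f.k39.{0} _ @x3 @(fun x5 => @Bool.rec.{1} @(fun x6 => @Bool) (@Cfsg.Agent.KO19b175f.k11.{1} @Bool (@Prod.snd.{0, 0} _ _ (@Prod.snd.{0, 0} _ _ @x5)) (nat_lit 2) @Bool.false @Bool.true) @Bool.true (@Cfsg.Agent.KO19b175f.k11.{1} @Bool (@Prod.snd.{0, 0} _ _ (@Prod.snd.{0, 0} _ _ @x5)) (nat_lit 1) @Bool.false @Bool.true))) (@Bool.rec.{1} @(fun x5 => @Bool) @Bool.false (@Cfsg.Agent.KO19b175f.k11.{1} @Bool (@Prod.snd.{0, 0} _ _ (@Prod.snd.{0, 0} _ _ @x2)) (nat_lit 0) @Bool.false @Bool.true)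 (@Bool.rec.{1} @(fun x5 => @Bool) @Bool.false (@Decidable.rec.{1} _ @(fun x5 => @Bool) @(fun x5 => @Bool.false) @(fun x5 => @Bool.true) (@Cfsg.Agent.KO19b175f.k7 (@Prod.fst.{0, 0} _ _ (@Prod.snd.{0, 0} _ _ @x2)) (@Int.ofNat (nat_lit 1)))) (@Cfsg.Agent.KO19b175f.k11.{1} @Bool (@Prod.fst.{0, 0} _ _ @x2) @x0 @Bool.false @Bool.true)))) (@Option.none.{0} _) (@Option.some.{0} _ (@Cfsg.Agent.KO19b175f.k40.{0, 0} _ _ @(fun x5 => (@Prod.fst.{0, 0} _ _ @x5, @Int.rec.{1} @(fun x6 => ℕ) @(fun x6 => @x6) @(fun x6 => nat_lit 0) (@Int.rec.{1} @(fun x6 => ℤ) @(fun x6 => @Int.ofNat (@Nat.mod @x6 (nat_lit 3))) @(fun x6 => @Nat.rec.{1} @(fun x7 => ℤ) (@Int.ofNat (@Nat.sub (nat_lit 3) (@Nat.succ (@Nat.mod @x6 (nat_lit 3))))) @(fun x7 x8 => @Int.negSucc @x7) (@Nat.sub (@Nat.succ (@Nat.mod @x6 (nat_lit 3))) (nat_lit 3))) (@Prod.fst.{0, 0} _ _ (@Prod.snd.{0, 0} _ _ @x5))))) (@Cfsg.Agent.KO19b175f.k41.{0} _ @(fun x5 => @Cfsg.Agent.KO19b175f.k11.{1} @Bool (@Prod.snd.{0, 0} _ _ (@Prod.snd.{0, 0} _ _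 @x5)) (nat_lit 1) @Bool.false @Bool.true) @x3)))) @x1)) ?_); rewrite [← Cfsg.Agent.KO19b175f.e41.{0}, ← Cfsg.Agent.KO19b175f.e40.{0, 0}, ← Cfsg.Agent.KO19b175f.e7, ← Cfsg.Agent.KO19b175f.e11.{1}, ← Cfsg.Agent.KO19b175f.e39.{0}, ← Cfsg.Agent.KO19b175f.e38.{1}]; rfl') | exact @Cfsg.Agent.H65.E8L.AdEng.adc | exact ()
private theorem _root_.Cfsg.Agent.KO19b175f.e42 : (by first | exact @Cfsg.Agent.H65.E8L.AdEng.adc = @_root_.Cfsg.Agent.KO19b175f.k42 | exact True : Prop) := by first | (delta _root_.Cfsg.Agent.KO19b175f.k42; exact @Subtype.property _ (fun g => @Cfsg.Agent.H65.E8L.AdEng.adc = @g) _) | rfl | trivial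
private noncomputable def _root_.Cfsg.Agent.KO19b175f.k43.{ku0} : type_of% @List.append.{ku0} := @(fun x0 x1 x2 => @List.rec.{(ku0+1), ku0} @x0 @(fun x3 => (@List.{ku0} @x0) → @List.{ku0} @x0) @(fun x3 => @x3) @(fun x3 x4 x5 x6 => @x3 :: (@x5 @x6)) @x1 @x2)
private theorem _root_.Cfsg.Agent.KO19b175f.e43.{ku0} : @List.append.{ku0} = @_root_.Cfsg.Agent.KO19b175f.k43.{ku0} := by delta _root_.Cfsg.Agent.KO19b175f.k43; funext a0 a1 a2; refine (congrFun (_root_.Cfsg.Agent.KO19b175f.e12 (fun a1 a2 => @List.append.{ku0} a0 a1 a2) ?_ (fun c0 c1 => ?_) a1) a2 :) <;> (rfl')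
private noncomputable def _root_.Cfsg.Agent.KO19b175f.k44.{ku0} : type_of% @List.flatten.{ku0} := @(fun x0 x1 => @List.rec.{(ku0+1), ku0} (@List.{ku0} @x0) @(fun x2 => @List.{ku0} @x0) [] @(fun x2 x3 x4 => @Cfsg.Agent.KO19b175f.k43.{ku0} _ @x2 @x4) @x1)
private theorem _root_.Cfsg.Agent.KO19b175f.e44.{ku0} : @List.flatten.{ku0} = @_root_.Cfsg.Agent.KO19b175f.k44.{ku0} := by delta _root_.Cfsg.Agent.KO19b175f.k44; rewrite [← Cfsg.Agent.KO19b175f.e43.{ku0}]; funext a0 a1; refine (_root_.Cfsg.Agent.KO19b175f.e12 (fun a1 => @List.flatten.{ku0} a0 a1) ?_ (fun c0 c1 => ?_) a1 :) <;> (rfl')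
private noncomputable def _root_.Cfsg.Agent.KO19b175f.k45.{ku0} : type_of% @List.zipIdx.{ku0} := @(fun x0 x1 x2 => @List.rec.{(ku0+1), ku0} @x0 @(fun x3 => ℕ → @List.{ku0} (@x0 × ℕ)) @(fun x3 => []) @(fun x3 x4 x5 x6 => ((@x3, @x6)) :: (@x5 (@Nat.add @x6 (nat_lit 1)))) @x1 @x2)
private theorem _root_.Cfsg.Agent.KO19b175f.e45.{ku0} : @List.zipIdx.{ku0} = @_root_.Cfsg.Agent.KO19b175f.k45.{ku0} := by delta _root_.Cfsg.Agent.KO19b175f.k45; funext a0 a1 a2; refine (congrFun (_root_.Cfsg.Agent.KO19b175f.e12 (fun a1 a2 => @List.zipIdx.{ku0} a0 a1 a2) ?_ (fun c0 c1 => ?_) a1) a2 :) <;> (rfl')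
private noncomputable def _root_.Cfsg.Agent.KO19b175f.k46 : type_of% @List.range.loop := @(fun x0 x1 => @Nat.rec.{1} @(fun x2 => (@List.{0} ℕ) → @List.{0} ℕ) @(fun x2 => @x2) @(fun x2 x3 x4 => @x3 (@x2 :: @x4)) @x0 @x1)
private theorem _root_.Cfsg.Agent.KO19b175f.e46 : @List.range.loop = @_root_.Cfsg.Agent.KO19b175f.k46 := by delta _root_.Cfsg.Agent.KO19b175f.k46; funext a0 a1; refine (congrFun (_root_.Cfsg.Agent.KO19b175f.e21 (fun a0 a1 => @List.range.loop a0 a1) ?_ (fun c0 => ?_) a0) a1 :) <;> (rfl')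
private noncomputable def _root_.Cfsg.Agent.KO19b175f.k47 : (by first | exact type_of% @Cfsg.Agent.ChevalleyStructure.SparseEng.act | exact Unit : Sort _) := by first | (refine @Subtype.val _ (fun g => @Cfsg.Agent.ChevalleyStructure.SparseEng.act = @g) (@Subtype.mk _ _ (@(fun x0 x1 x2 => @Cfsg.Agent.KO19b175f.k36.{1} (@List.{0} (ℕ × (ℤ × ℕ))) (@Nat.succ @x1) (@Cfsg.Lie.ChevalleyDatum.nroots @x0) (((@x2, (@Int.ofNat (nat_lit 1), nat_lit 0))) :: []) (@Cfsg.Agent.KO19b175f.k36.{1} (@List.{0} (ℕ × (ℤ × ℕ))) (@Nat.succ @x2) (@Cfsg.Lie.ChevalleyDatum.rank @x0) (@Cfsg.Agent.KO19b175f.k36.{1} (@List.{0} (ℕ × (ℤ × ℕ))) (@Nat.succ @x2) (@Nat.add (@Cfsg.Lie.ChevalleyDatum.rank @x0) (@Cfsg.Lie.ChevalleyDatum.nroots @x0)) [] (@Cfsg.Agent.KO19b175f.k11.{1} (@List.{0} (ℕ × (ℤ × ℕ))) (@Nat.sub @x2 (@Cfsg.Lie.ChevalleyDatum.rank @x0)) @x1 (@Cfsg.Agent.KO19b175f.k11.{1} (@List.{0} (ℕ × (ℤ × ℕ))) (@Nat.sub @x2 (@Cfsg.Lie.ChevalleyDatum.rank @x0)) (@Decidable.rec.{1} _ @(fun x3 => ℕ) @(fun x3 =>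 nat_lit 0) @(fun x3 => @List.get.{0} _ (@Array.toList.{0} _ (@Cfsg.Lie.ChevalleyDatum.negIdx @x0)) (@Fin.mk _ @x1 @x3)) (@Nat.decLe (@Nat.succ @x1) (@List.length.{0} _ (@Array.toList.{0} _ (@Cfsg.Lie.ChevalleyDatum.negIdx @x0))))) (((@x2, (@Int.ofNat (nat_lit 1), nat_lit 0))) :: (@Cfsg.Agent.KO19b175f.k44.{0} _ (@Cfsg.Agent.KO19b175f.k40.{0, 0} _ _ @(fun x3 => @Cfsg.Agent.KO19b175f.k40.{0, 0} _ _ @(fun x4 => (@Nat.add (@Cfsg.Lie.ChevalleyDatum.rank @x0) (@Prod.fst.{0, 0} _ _ (@Prod.fst.{0, 0} _ _ @x4)), (@Prod.snd.{0, 0} _ _ (@Prod.fst.{0, 0} _ _ @x4), @Nat.add (@Prod.snd.{0, 0} _ _ @x4) (nat_lit 1)))) (@Cfsg.Agent.KO19b175f.k45.{0} _ (@Array.toList.{0} _ (@Prod.snd.{0, 0} _ _ @x3)) (nat_lit 0))) (@Cfsg.Agent.KO19b175f.k41.{0} _ @(fun x3 => @Cfsg.Agent.KO19b175f.k11.{1} @Bool (@Prod.fst.{0, 0} _ _ @x3) (@Nat.sub @x2 (@Cfsg.Lie.ChevalleyDatum.rank @x0)) @Bool.false @Bool.true) (@Array.toList.{0} _ (@Decidable.rec.{1} _ @(fun x3 => @Array.{0} (ℕ × (@Array.{0} (ℕ × ℤ)))) @(fun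 x3 => @Array.mk.{0} _ []) @(fun x3 => @List.get.{0} _ (@Array.toList.{0} _ (@Cfsg.Lie.ChevalleyDatum.chain @x0)) (@Fin.mk _ @x1 @x3)) (@Nat.decLe (@Nat.succ @x1) (@List.length.{0} _ (@Array.toList.{0} _ (@Cfsg.Lie.ChevalleyDatum.chain @x0)))))))))) (((@x2, (@Int.ofNat (nat_lit 1), nat_lit 0))) :: (((@Nat.add (@Cfsg.Lie.ChevalleyDatum.rank @x0) @x1, (@Nat.rec.{1} @(fun x3 => ℤ) (@Int.ofNat (nat_lit 0)) @(fun x3 x4 => @Int.negSucc @x3) (nat_lit 1), nat_lit 2))) :: (@Cfsg.Agent.KO19b175f.k40.{0, 0} _ _ @(fun x3 => (@x3, (@Decidable.rec.{1} _ @(fun x4 => ℤ) @(fun x4 => @Int.ofNat (nat_lit 0)) @(fun x4 => @List.get.{0} _ (@Array.toList.{0} _ (@Decidable.rec.{1} _ @(fun x5 => @Array.{0} ℤ) @(fun x5 => @Array.mk.{0} _ []) @(fun x5 => @List.get.{0} _ (@Array.toList.{0} _ (@Cfsg.Lie.ChevalleyDatum.coroot @x0)) (@Fin.mk _ @x1 @x5)) (@Nat.decLe (@Nat.succ @x1) (@List.length.{0} _ (@Array.toList.{0} _ (@Cfsg.Lie.ChevalleyDatum.coroot @x0)))))) (@Fin.mk _ @x3 @x4)) (@Nat.decLe (@Nat.succ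 @x3) (@List.length.{0} _ (@Array.toList.{0} _ (@Decidable.rec.{1} _ @(fun x4 => @Array.{0} ℤ) @(fun x4 => @Array.mk.{0} _ []) @(fun x4 => @List.get.{0} _ (@Array.toList.{0} _ (@Cfsg.Lie.ChevalleyDatum.coroot @x0)) (@Fin.mk _ @x1 @x4)) (@Nat.decLe (@Nat.succ @x1) (@List.length.{0} _ (@Array.toList.{0} _ (@Cfsg.Lie.ChevalleyDatum.coroot @x0)))))))), nat_lit 1))) (@Cfsg.Agent.KO19b175f.k46 (@Cfsg.Lie.ChevalleyDatum.rank @x0) []))))) (((@x2, (@Int.ofNat (nat_lit 1), nat_lit 0))) :: []))) (((@x2, (@Int.ofNat (nat_lit 1), nat_lit 0))) :: (((@Nat.add (@Cfsg.Lie.ChevalleyDatum.rank @x0) @x1, (@Int.rec.{1} @(fun x3 => ℤ) @(fun x3 => @Nat.rec.{1} @(fun x4 => ℤ) (@Int.ofNat (nat_lit 0)) @(fun x4 x5 => @Int.negSucc @x4) @x3) @(fun x3 => @Int.ofNat (@Nat.succ @x3)) (@Decidable.rec.{1} _ @(fun x3 => ℤ) @(fun x3 => @Int.ofNat (nat_lit 0)) @(fun x3 => @List.get.{0} _ (@Array.toList.{0} _ (@Decidable.rec.{1} _ @(fun x4 => @Array.{0} ℤ) @(fun x4 => @Array.mk.{0} _ []) @(fun x4 => @List.get.{0}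 _ (@Array.toList.{0} _ (@Cfsg.Lie.ChevalleyDatum.cartanSR @x0)) (@Fin.mk _ @x2 @x4)) (@Nat.decLe (@Nat.succ @x2) (@List.length.{0} _ (@Array.toList.{0} _ (@Cfsg.Lie.ChevalleyDatum.cartanSR @x0)))))) (@Fin.mk _ @x1 @x3)) (@Nat.decLe (@Nat.succ @x1) (@List.length.{0} _ (@Array.toList.{0} _ (@Decidable.rec.{1} _ @(fun x3 => @Array.{0} ℤ) @(fun x3 => @Array.mk.{0} _ []) @(fun x3 => @List.get.{0} _ (@Array.toList.{0} _ (@Cfsg.Lie.ChevalleyDatum.cartanSR @x0)) (@Fin.mk _ @x2 @x3)) (@Nat.decLe (@Nat.succ @x2) (@List.length.{0} _ (@Array.toList.{0} _ (@Cfsg.Lie.ChevalleyDatum.cartanSR @x0))))))))), nat_lit 1))) :: []))))) ?_); rewrite [← Cfsg.Agent.KO19b175f.e46, ← Cfsg.Agent.KO19b175f.e41.{0}, ← Cfsg.Agent.KO19b175f.e45.{0}, ← Cfsg.Agent.KO19b175f.e40.{0, 0}, ← Cfsg.Agent.KO19b175f.e44.{0}, ← Cfsg.Agent.KO19b175f.e11.{1}, ← Cfsg.Agent.KO19b175f.e36.{1}]; rfl') | exact @Cfsg.Agent.ChevalleyStructure.SparseEng.act | exact ()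
private theorem _root_.Cfsg.Agent.KO19b175f.e47 : (by first | exact @Cfsg.Agent.ChevalleyStructure.SparseEng.act = @_root_.Cfsg.Agent.KO19b175f.k47 | exact True : Prop) := by first | (delta _root_.Cfsg.Agent.KO19b175f.k47; exact @Subtype.property _ (fun g => @Cfsg.Agent.ChevalleyStructure.SparseEng.act = @g) _) | rfl | trivial
private noncomputable def _root_.Cfsg.Agent.KO19b175f.k48 : (by first | exact type_of% @Cfsg.Lie.ChevalleyDatum.cartan | exact Unit : Sort _) := by first | (refine @Subtype.val _ (fun g => @Cfsg.Lie.ChevalleyDatum.cartan = @g) (@Subtype.mk _ _ (@(fun (x0 : @Cfsg.Lie.ChevalleyDatum) (x1 : @Nat) (x2 : @Nat) => @Decidable.rec.{1} (@LT.lt.{0} @Nat @instLTNat @x2 (@Array.size.{0} @Int (@Array.getD.{0} (@Array.{0} @Int) (@Cfsg.Lie.ChevalleyDatum.cartanSR @x0) @x1 (@List.toArray.{0} @Int (@List.nil.{0} @Int))))) @(fun (x3 : @Decidable (@LT.lt.{0} @Nat @instLTNat @x2 (@Array.size.{0} @Int (@Array.getD.{0} (@Array.{0} @Int) (@Cfsg.Lie.ChevalleyDatum.cartanSR @x0)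 @x1 (@List.toArray.{0} @Int (@List.nil.{0} @Int)))))) => @Int) @(fun (x3 : @Not (@LT.lt.{0} @Nat @instLTNat @x2 (@Array.size.{0} @Int (@Array.getD.{0} (@Array.{0} @Int) (@Cfsg.Lie.ChevalleyDatum.cartanSR @x0) @x1 (@List.toArray.{0} @Int (@List.nil.{0} @Int)))))) => @Int.ofNat (nat_lit 0)) @(fun (x3 : @LT.lt.{0} @Nat @instLTNat @x2 (@Array.size.{0} @Int (@Array.getD.{0} (@Array.{0} @Int) (@Cfsg.Lie.ChevalleyDatum.cartanSR @x0) @x1 (@List.toArray.{0} @Int (@List.nil.{0} @Int))))) => @List.get.{0} @Int (@Array.toList.{0} @Int (@Decidable.rec.{1} (@LT.lt.{0} @Nat @instLTNat @x1 (@Array.size.{0} (@Array.{0} @Int) (@Cfsg.Lie.ChevalleyDatum.cartanSR @x0))) @(fun (x4 : @Decidable (@LT.lt.{0} @Nat @instLTNat @x1 (@Array.size.{0} (@Array.{0} @Int) (@Cfsg.Lie.ChevalleyDatum.cartanSR @x0)))) => @Array.{0} @Int) @(fun (x4 : @Not (@LT.lt.{0} @Nat @instLTNat @x1 (@Array.size.{0} (@Array.{0} @Int) (@Cfsg.Lie.ChevalleyDatum.cartanSR @x0)))) => @Array.mk.{0} @Int (@List.nil.{0} @Int)) @(fun (x4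 : @LT.lt.{0} @Nat @instLTNat @x1 (@Array.size.{0} (@Array.{0} @Int) (@Cfsg.Lie.ChevalleyDatum.cartanSR @x0))) => @List.get.{0} (@Array.{0} @Int) (@Array.toList.{0} (@Array.{0} @Int) (@Cfsg.Lie.ChevalleyDatum.cartanSR @x0)) (@Fin.mk (@List.length.{0} (@Array.{0} @Int) (@Array.toList.{0} (@Array.{0} @Int) (@Cfsg.Lie.ChevalleyDatum.cartanSR @x0))) @x1 @x4)) (@Nat.decLe (@Nat.succ @x1) (@List.length.{0} (@Array.{0} @Int) (@Array.toList.{0} (@Array.{0} @Int) (@Cfsg.Lie.ChevalleyDatum.cartanSR @x0)))))) (@Fin.mk (@List.length.{0} @Int (@Array.toList.{0} @Int (@Decidable.rec.{1} (@LT.lt.{0} @Nat @instLTNat @x1 (@Array.size.{0} (@Array.{0} @Int) (@Cfsg.Lie.ChevalleyDatum.cartanSR @x0))) @(fun (x4 : @Decidable (@LT.lt.{0} @Nat @instLTNat @x1 (@Array.size.{0} (@Array.{0} @Int) (@Cfsg.Lie.ChevalleyDatum.cartanSR @x0)))) => @Array.{0} @Int) @(fun (x4 : @Not (@LT.lt.{0} @Nat @instLTNat @x1 (@Array.size.{0} (@Array.{0} @Int) (@Cfsg.Lie.ChevalleyDatum.cartanSR @x0)))) => @Array.mk.{0} @Int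 (@List.nil.{0} @Int)) @(fun (x4 : @LT.lt.{0} @Nat @instLTNat @x1 (@Array.size.{0} (@Array.{0} @Int) (@Cfsg.Lie.ChevalleyDatum.cartanSR @x0))) => @List.get.{0} (@Array.{0} @Int) (@Array.toList.{0} (@Array.{0} @Int) (@Cfsg.Lie.ChevalleyDatum.cartanSR @x0)) (@Fin.mk (@List.length.{0} (@Array.{0} @Int) (@Array.toList.{0} (@Array.{0} @Int) (@Cfsg.Lie.ChevalleyDatum.cartanSR @x0))) @x1 @x4)) (@Nat.decLe (@Nat.succ @x1) (@List.length.{0} (@Array.{0} @Int) (@Array.toList.{0} (@Array.{0} @Int) (@Cfsg.Lie.ChevalleyDatum.cartanSR @x0))))))) @x2 @x3)) (@Nat.decLe (@Nat.succ @x2) (@List.length.{0} @Int (@Array.toList.{0} @Int (@Decidable.rec.{1} (@LT.lt.{0} @Nat @instLTNat @x1 (@Array.size.{0} (@Array.{0} @Int) (@Cfsg.Lie.ChevalleyDatum.cartanSR @x0))) @(fun (x3 : @Decidable (@LT.lt.{0} @Nat @instLTNat @x1 (@Array.size.{0} (@Array.{0} @Int) (@Cfsg.Lie.ChevalleyDatum.cartanSR @x0)))) => @Array.{0} @Int) @(fun (x3 : @Not (@LT.lt.{0} @Nat @instLTNat @x1 (@Array.size.{0} (@Array.{0} @Int) (@Cfsg.Lie.ChevalleyDatum.cartanSR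 @x0)))) => @Array.mk.{0} @Int (@List.nil.{0} @Int)) @(fun (x3 : @LT.lt.{0} @Nat @instLTNat @x1 (@Array.size.{0} (@Array.{0} @Int) (@Cfsg.Lie.ChevalleyDatum.cartanSR @x0))) => @List.get.{0} (@Array.{0} @Int) (@Array.toList.{0} (@Array.{0} @Int) (@Cfsg.Lie.ChevalleyDatum.cartanSR @x0)) (@Fin.mk (@List.length.{0} (@Array.{0} @Int) (@Array.toList.{0} (@Array.{0} @Int) (@Cfsg.Lie.ChevalleyDatum.cartanSR @x0))) @x1 @x3)) (@Nat.decLe (@Nat.succ @x1) (@List.length.{0} (@Array.{0} @Int) (@Array.toList.{0} (@Array.{0} @Int) (@Cfsg.Lie.ChevalleyDatum.cartanSR @x0)))))))))) ?_); rfl') | exact @Cfsg.Lie.ChevalleyDatum.cartan | exact ()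
private theorem _root_.Cfsg.Agent.KO19b175f.e48 : (by first | exact @Cfsg.Lie.ChevalleyDatum.cartan = @_root_.Cfsg.Agent.KO19b175f.k48 | exact True : Prop) := by first | (delta _root_.Cfsg.Agent.KO19b175f.k48; exact @Subtype.property _ (fun g => @Cfsg.Lie.ChevalleyDatum.cartan = @g) _) | rfl | trivial
private noncomputable def _root_.Cfsg.Agent.KO19b175f.k49 : (by first | exact type_of% @Cfsg.Agent.H65.E8L.AdEng.adX | exact Unit : Sort _) := by first | (refine @Subtype.val _ (fun g => @Cfsg.Agent.H65.E8L.AdEng.adX = @g) (@Subtype.mk _ _ (@(fun x0 x1 => @Cfsg.Agent.KO19b175f.k36.{1} (@Option.{0} (@List.{0} (ℕ × ℕ))) (@Nat.succ @x0) (nat_lit 8) (@Cfsg.Agent.KO19b175f.k36.{1} (@Option.{0} (@List.{0} (ℕ × ℕ))) (@Nat.succ @x0) (nat_lit 248) (@Option.none.{0} _) (@Cfsg.Agent.KO19b175f.k42 @x1 (@Cfsg.Agent.KO19b175f.k47 @Cfsg.Lie.chevE8 (@Nat.sub @x0 (nat_lit 8)) @x1))) (@Option.some.{0} _ (@Cfsg.Agent.KO19b175f.k36.{1} (@List.{0} (ℕ × ℕ)) (@Nat.succ @x1) (nat_lit 8) (((@x1, @Int.rec.{1}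 @(fun x2 => ℕ) @(fun x2 => @x2) @(fun x2 => nat_lit 0) (@Int.rec.{1} @(fun x2 => ℤ) @(fun x2 => @Int.ofNat (@Nat.mod @x2 (nat_lit 3))) @(fun x2 => @Nat.rec.{1} @(fun x3 => ℤ) (@Int.ofNat (@Nat.sub (nat_lit 3) (@Nat.succ (@Nat.mod @x2 (nat_lit 3))))) @(fun x3 x4 => @Int.negSucc @x3) (@Nat.sub (@Nat.succ (@Nat.mod @x2 (nat_lit 3))) (nat_lit 3))) (@Cfsg.Agent.KO19b175f.k48 @Cfsg.Lie.chevE8 @x0 (@Nat.sub @x1 (nat_lit 8)))))) :: []) [])))) ?_); rewrite [← Cfsg.Agent.KO19b175f.e48, ← Cfsg.Agent.KO19b175f.e47, ← Cfsg.Agent.KO19b175f.e42, ← Cfsg.Agent.KO19b175f.e36.{1}]; (try delta Cfsg.Agent.H65.E8L.AdEng.adX Cfsg.Agent.H65.E8L.Eng.z3); (try generalize @Cfsg.Agent.H65.E8L.AdEng.adc = g0); (try generalize @Cfsg.Agent.ChevalleyStructure.SparseEng.act = g1); (try generalize @Cfsg.Lie.chevE8 = g2); (try generalize @Cfsg.Lie.ChevalleyDatum.cartan = g3); rfl') | exact @Cfsg.Agent.H65.E8L.AdEng.adX | exact ()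
private theorem _root_.Cfsg.Agent.KO19b175f.e49 : (by first | exact @Cfsg.Agent.H65.E8L.AdEng.adX = @_root_.Cfsg.Agent.KO19b175f.k49 | exact True : Prop) := by first | (delta _root_.Cfsg.Agent.KO19b175f.k49; exact @Subtype.property _ (fun g => @Cfsg.Agent.H65.E8L.AdEng.adX = @g) _) | rfl | trivial
private noncomputable def _root_.Cfsg.Agent.KO19b175f.k50 : (by first | exact type_of% @Cfsg.Agent.H65.E8L.AdChk.pk | exact Unit : Sort _) := by first | (refine @Subtype.val _ (fun g => @Cfsg.Agent.H65.E8L.AdChk.pk = @g) (@Subtype.mk _ _ (@(fun x0 => @List.rec.{1, 0} ℤ @(fun x1 => ℕ) (nat_lit 0) @(fun x1 x2 x3 => @Nat.add (@Int.rec.{1} @(fun x4 => ℕ) @(fun x4 => @x4) @(fun x4 => nat_lit 0) (@Int.rec.{1} @(fun x4 => ℤ) @(fun x4 => @Int.ofNat (@Nat.mod @x4 (nat_lit 3))) @(fun x4 => @Nat.rec.{1} @(fun x5 => ℤ) (@Int.ofNat (@Nat.sub (nat_lit 3) (@Nat.succ (@Nat.mod @x4 (nat_lit 3))))) @(fun x5 x6 => @Int.negSucc @x5) (@Nat.sub (@Nat.succ (@Nat.mod @x4 (nat_lit 3))) (nat_lit 3))) @x1))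 (@Nat.mul (nat_lit 4) @x3)) @x0)) ?_); rfl') | exact @Cfsg.Agent.H65.E8L.AdChk.pk | exact ()
private theorem _root_.Cfsg.Agent.KO19b175f.e50 : (by first | exact @Cfsg.Agent.H65.E8L.AdChk.pk = @_root_.Cfsg.Agent.KO19b175f.k50 | exact True : Prop) := by first | (delta _root_.Cfsg.Agent.KO19b175f.k50; exact @Subtype.property _ (fun g => @Cfsg.Agent.H65.E8L.AdChk.pk = @g) _) | rfl | trivial
private noncomputable def _root_.Cfsg.Agent.KO19b175f.k51 : (by first | exact type_of% @Cfsg.Agent.H65.E8L.AdChk.cz | exact Unit : Sort _) := by first | (refine @Subtype.val _ (fun g => @Cfsg.Agent.H65.E8L.AdChk.cz = @g) (@Subtype.mk _ _ (@(fun x0 x1 => @Nat.mod (@Nat.shiftRight (@Cfsg.Agent.KO19b175f.k50 (@Array.toList.{0} _ (@Decidable.rec.{1} _ @(fun x2 => @Array.{0} ℤ) @(fun x2 => @Array.mk.{0} _ []) @(fun x2 => @List.get.{0} _ (@Array.toList.{0} _ (@Cfsg.Lie.ChevalleyDatum.cartanSR @Cfsg.Lie.chevE8)) (@Fin.mk _ @x0 @x2)) (@Cfsg.Agent.KO19b175f.k17 (@Nat.succ @x0) (@List.length.{0} _ (@Array.toList.{0}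 _ (@Cfsg.Lie.ChevalleyDatum.cartanSR @Cfsg.Lie.chevE8))))))) (@Nat.mul (nat_lit 2) @x1)) (nat_lit 4))) ?_); rewrite [← Cfsg.Agent.KO19b175f.e17, ← Cfsg.Agent.KO19b175f.e50]; (try delta Cfsg.Agent.H65.E8L.AdChk.cz); (try generalize @Cfsg.Agent.H65.E8L.AdChk.pk = g0); (try generalize @Cfsg.Lie.chevE8 = g1); rfl') | exact @Cfsg.Agent.H65.E8L.AdChk.cz | exact ()
private theorem _root_.Cfsg.Agent.KO19b175f.e51 : (by first | exact @Cfsg.Agent.H65.E8L.AdChk.cz = @_root_.Cfsg.Agent.KO19b175f.k51 | exact True : Prop) := by first | (delta _root_.Cfsg.Agent.KO19b175f.k51; exact @Subtype.property _ (fun g => @Cfsg.Agent.H65.E8L.AdChk.cz = @g) _) | rfl | trivial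
private noncomputable def _root_.Cfsg.Agent.KO19b175f.k52 : (by first | exact type_of% @Cfsg.Agent.H65.E8L.AdChk.fl | exact Unit : Sort _) := by first | (refine @Subtype.val _ (fun g => @Cfsg.Agent.H65.E8L.AdChk.fl = @g) (@Subtype.mk _ _ (@(fun x0 x1 => @List.rec.{1, 0} (ℕ × (@Array.{0} (ℕ × ℤ))) @(fun x2 => @List.{0} (ℕ × (@Array.{0} (ℕ × ℤ)))) [] @(fun x2 x3 x4 => @Bool.rec.{1} @(fun x5 => @List.{0} (ℕ × (@Array.{0} (ℕ × ℤ)))) @x4 (@x2 :: @x4) (@Nat.beq (@Prod.fst.{0, 0} _ _ @x2) @x0)) @x1)) ?_); rfl') | exact @Cfsg.Agent.H65.E8L.AdChk.fl | exact ()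
private theorem _root_.Cfsg.Agent.KO19b175f.e52 : (by first | exact @Cfsg.Agent.H65.E8L.AdChk.fl = @_root_.Cfsg.Agent.KO19b175f.k52 | exact True : Prop) := by first | (delta _root_.Cfsg.Agent.KO19b175f.k52; exact @Subtype.property _ (fun g => @Cfsg.Agent.H65.E8L.AdChk.fl = @g) _) | rfl | trivial
private noncomputable def _root_.Cfsg.Agent.KO19b175f.k53 : (by first | exact type_of% @Cfsg.Agent.H65.E8L.AdChk.row | exact Unit : Sort _) := by first | (refine @Subtype.val _ (fun g => @Cfsg.Agent.H65.E8L.AdChk.row = @g) (@Subtype.mk _ _ (@(fun x0 => @Array.toList.{0} _ (@Decidable.rec.{1} _ @(fun x1 => @Array.{0} (ℕ × (@Array.{0} (ℕ × ℤ)))) @(fun x1 => @Array.mk.{0} _ []) @(fun x1 => @List.get.{0} _ (@Array.toList.{0} _ (@Cfsg.Lie.ChevalleyDatum.chain @Cfsg.Lie.chevE8)) (@Fin.mk _ @x0 @x1)) (@Cfsg.Agent.KO19b175f.k17 (@Nat.succ @x0) (@List.length.{0} _ (@Array.toList.{0} _ (@Cfsg.Lie.ChevalleyDatum.chain @Cfsg.Lie.chevE8))))))) ?_); rewrite [← Cfsg.Agent.KO19b175f.e17]; (try delta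 Cfsg.Agent.H65.E8L.AdChk.row); (try generalize @Cfsg.Lie.chevE8 = g0); rfl') | exact @Cfsg.Agent.H65.E8L.AdChk.row | exact ()
private theorem _root_.Cfsg.Agent.KO19b175f.e53 : (by first | exact @Cfsg.Agent.H65.E8L.AdChk.row = @_root_.Cfsg.Agent.KO19b175f.k53 | exact True : Prop) := by first | (delta _root_.Cfsg.Agent.KO19b175f.k53; exact @Subtype.property _ (fun g => @Cfsg.Agent.H65.E8L.AdChk.row = @g) _) | rfl | trivial
private noncomputable def _root_.Cfsg.Agent.KO19b175f.k54 : (by first | exact type_of% @Cfsg.Agent.H65.E8L.AdChk.msk | exact Unit : Sort _) := by first | (refine @Subtype.val _ (fun g => @Cfsg.Agent.H65.E8L.AdChk.msk = @g) (@Subtype.mk _ _ (@(fun x0 => @List.rec.{1, 0} (ℕ × (@Array.{0} (ℕ × ℤ))) @(fun x1 => ℕ) (nat_lit 0) @(fun x1 x2 x3 => @Nat.lor (@Nat.shiftLeft (nat_lit 1) (@Prod.fst.{0, 0} _ _ @x1)) @x3) @x0)) ?_); rfl') | exact @Cfsg.Agent.H65.E8L.AdChk.msk | exact ()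
private theorem _root_.Cfsg.Agent.KO19b175f.e54 : (by first | exact @Cfsg.Agent.H65.E8L.AdChk.msk = @_root_.Cfsg.Agent.KO19b175f.k54 | exact True : Prop) := by first | (delta _root_.Cfsg.Agent.KO19b175f.k54; exact @Subtype.property _ (fun g => @Cfsg.Agent.H65.E8L.AdChk.msk = @g) _) | rfl | trivial
private noncomputable def _root_.Cfsg.Agent.KO19b175f.k55 : (by first | exact type_of% @Cfsg.Agent.H65.E8L.AdChk.adF | exact Unit : Sort _) := by first | (refine @Subtype.val _ (fun g => @Cfsg.Agent.H65.E8L.AdChk.adF = @g) (@Subtype.mk _ _ (@(fun x0 x1 => @Bool.rec.{1} @(fun x2 => @Option.{0} (@List.{0} (ℕ × ℕ))) (@Bool.rec.{1} @(fun x2 => @Option.{0} (@List.{0} (ℕ × ℕ))) (@Cfsg.Agent.KO19b175f.k49 @x0 @x1) (@Option.some.{0} _ (((@x0, @Nat.mod (@Nat.sub (nat_lit 3) (@Cfsg.Agent.KO19b175f.k51 @x1 (@Nat.sub @x0 (nat_lit 8)))) (nat_lit 3))) :: [])) (@Bool.rec.{1} @(fun x2 => @Bool) @Bool.false (@Bool.rec.{1} @(fun x2 => @Bool) @Bool.false (@Nat.ble @x0 (nat_lit 247)) (@Nat.ble (nat_lit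 8) @x0)) (@Nat.ble @x1 (nat_lit 7)))) (@Cfsg.Agent.KO19b175f.k32 _ @(fun x2 => @Bool.rec.{1} @(fun x3 => @Option.{0} (@List.{0} (ℕ × ℕ))) (@Option.some.{0} _ (((@x1, @Cfsg.Agent.KO19b175f.k51 @x0 @x2)) :: [])) (@Cfsg.Agent.KO19b175f.k32 _ @(fun x3 => @Bool.rec.{1} @(fun x4 => @Option.{0} (@List.{0} (ℕ × ℕ))) (@Bool.rec.{1} @(fun x4 => @Option.{0} (@List.{0} (ℕ × ℕ))) (@Bool.rec.{1} @(fun x4 => @Option.{0} (@List.{0} (ℕ × ℕ))) (@Cfsg.Agent.KO19b175f.k42 @x1 (((@x1, (@Int.ofNat (nat_lit 1), nat_lit 0))) :: (@Cfsg.Agent.KO19b175f.k44.{0} _ (@Cfsg.Agent.KO19b175f.k40.{0, 0} _ _ @(fun x4 => @Cfsg.Agent.KO19b175f.k40.{0, 0} _ _ @(fun x5 => (@Nat.add (@Cfsg.Lie.ChevalleyDatum.rank @Cfsg.Lie.chevE8) (@Prod.fst.{0, 0} _ _ (@Prod.fst.{0, 0} _ _ @x5)), (@Prod.snd.{0, 0} _ _ (@Prod.fst.{0, 0} _ _ @x5), @Nat.add (@Prod.snd.{0, 0} _ _ @x5) (nat_lit 1)))) (@Cfsg.Agent.KO19b175f.k45.{0} _ (@Array.toList.{0} _ (@Prod.snd.{0, 0} _ _ @x4)) (nat_lit 0))) (@Cfsg.Agent.KO19b175f.k52 @x2 (@Cfsg.Agent.KO19b175f.k53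 @x3)))))) (@Option.some.{0} _ []) (@Nat.beq (@Nat.land (nat_lit 1) (@Nat.shiftRight (@Cfsg.Agent.KO19b175f.k54 (@Cfsg.Agent.KO19b175f.k53 @x3)) @x2)) (nat_lit 0))) (@Cfsg.Agent.KO19b175f.k49 @x0 @x1) (@Nat.beq @x2 (@Decidable.rec.{1} _ @(fun x4 => ℕ) @(fun x4 => nat_lit 0) @(fun x4 => @List.get.{0} _ (@Array.toList.{0} _ (@Cfsg.Lie.ChevalleyDatum.negIdx @Cfsg.Lie.chevE8)) (@Fin.mk _ @x3 @x4)) (@Cfsg.Agent.KO19b175f.k17 (@Nat.succ @x3) (@List.length.{0} _ (@Array.toList.{0} _ (@Cfsg.Lie.ChevalleyDatum.negIdx @Cfsg.Lie.chevE8))))))) (@Option.some.{0} _ []) (@Nat.beq @x2 @x3)) (@Nat.sub @x0 (nat_lit 8))) (@Nat.ble (nat_lit 8) @x0)) (@Nat.sub @x1 (nat_lit 8))) (@Bool.rec.{1} @(fun x2 => @Bool) @Bool.false (@Bool.rec.{1} @(fun x2 => @Bool) @Bool.false (@Nat.ble @x0 (nat_lit 247)) (@Nat.ble @x1 (nat_lit 247))) (@Nat.ble (nat_lit 8) @x1)))) ?_); rewrite [← Cfsg.Agent.KO19b175f.e17, ← Cfsg.Agent.KO19b175f.e54, ← Cfsg.Agent.KO19b175f.e53, ← Cfsg.Agent.KO19b175f.e52, ← Cfsg.Agent.KO19b175f.e45.{0},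 ← Cfsg.Agent.KO19b175f.e40.{0, 0}, ← Cfsg.Agent.KO19b175f.e44.{0}, ← Cfsg.Agent.KO19b175f.e42, ← Cfsg.Agent.KO19b175f.e32, ← Cfsg.Agent.KO19b175f.e51, ← Cfsg.Agent.KO19b175f.e49]; (try delta Cfsg.Agent.H65.E8L.AdChk.adF); (try generalize @Cfsg.Agent.H65.E8L.AdEng.adX = g0); (try generalize @Cfsg.Agent.H65.E8L.AdChk.cz = g1); (try generalize @Cfsg.Agent.H65.E8L.AdChk.frc = g2); (try generalize @Cfsg.Agent.H65.E8L.AdEng.adc = g3); (try generalize @Cfsg.Lie.chevE8 = g4); (try generalize @Cfsg.Agent.H65.E8L.AdChk.fl = g5); (try generalize @Cfsg.Agent.H65.E8L.AdChk.row = g6); (try generalize @Cfsg.Agent.H65.E8L.AdChk.msk = g7); rfl') | exact @Cfsg.Agent.H65.E8L.AdChk.adF | exact ()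
private theorem _root_.Cfsg.Agent.KO19b175f.e55 : (by first | exact @Cfsg.Agent.H65.E8L.AdChk.adF = @_root_.Cfsg.Agent.KO19b175f.k55 | exact True : Prop) := by first | (delta _root_.Cfsg.Agent.KO19b175f.k55; exact @Subtype.property _ (fun g => @Cfsg.Agent.H65.E8L.AdChk.adF = @g) _) | rfl | trivial
private noncomputable def _root_.Cfsg.Agent.KO19b175f.k56 : (by first | exact type_of% @Cfsg.Agent.H65.E8L.AdChk.adG | exact Unit : Sort _) := by first | (refine @Subtype.val _ (fun g => @Cfsg.Agent.H65.E8L.AdChk.adG = @g) (@Subtype.mk _ _ (@(fun x0 x1 => @List.rec.{1, 0} (ℕ × ℕ) @(fun x2 => @Option.{0} (@List.{0} (ℕ × ℕ))) (@Option.some.{0} _ []) @(fun x2 x3 x4 => @Cfsg.Agent.KO19b175f.k32 _ @(fun x5 => @Option.rec.{1, 0} (@List.{0} (ℕ × ℕ)) @(fun x6 => @Option.{0} (@List.{0} (ℕ × ℕ))) (@Option.none.{0} _) @(fun x6 => @Option.rec.{1, 0} (@List.{0} (ℕ × ℕ)) @(fun x7 => @Option.{0} (@List.{0} (ℕ × ℕ))) (@Option.none.{0} _) @(fun x7 => @Option.some.{0} _ (@Cfsg.Agent.KO19b175f.k35.{0,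 0} _ _ @(fun x8 x9 => @Cfsg.Agent.KO19b175f.k37 (@Prod.fst.{0, 0} _ _ @x8) (@Nat.mul (@Prod.snd.{0, 0} _ _ @x2) (@Prod.snd.{0, 0} _ _ @x8)) @x9) @x7 @x6)) @x4) (@Cfsg.Agent.KO19b175f.k55 @x5 @x1)) (@Prod.fst.{0, 0} _ _ @x2)) @x0)) ?_); rewrite [← Cfsg.Agent.KO19b175f.e55, ← Cfsg.Agent.KO19b175f.e37, ← Cfsg.Agent.KO19b175f.e35.{0, 0}, ← Cfsg.Agent.KO19b175f.e32]; (try delta Cfsg.Agent.H65.E8L.AdChk.adG); (try generalize @Cfsg.Agent.H65.E8L.AdChk.frc = g0); (try generalize @Cfsg.Agent.H65.E8L.Eng.ins = g1); (try generalize @Cfsg.Agent.H65.E8L.AdChk.adF = g2); rfl') | exact @Cfsg.Agent.H65.E8L.AdChk.adG | exact ()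
private theorem _root_.Cfsg.Agent.KO19b175f.e56 : (by first | exact @Cfsg.Agent.H65.E8L.AdChk.adG = @_root_.Cfsg.Agent.KO19b175f.k56 | exact True : Prop) := by first | (delta _root_.Cfsg.Agent.KO19b175f.k56; exact @Subtype.property _ (fun g => @Cfsg.Agent.H65.E8L.AdChk.adG = @g) _) | rfl | trivial
private noncomputable def _root_.Cfsg.Agent.KO19b175f.k57 : (by first | exact type_of% @Cfsg.Agent.H65.E8L.AdChk.allT | exact Unit : Sort _) := by first | (refine @Subtype.val _ (fun g => @Cfsg.Agent.H65.E8L.AdChk.allT = @g) (@Subtype.mk _ _ (@(fun x0 x1 => @List.rec.{1, 0} (@List.{0} (ℕ × ℕ)) @(fun x2 => ℕ → @Bool) @(fun x2 => @Nat.beq @x2 (nat_lit 248)) @(fun x2 x3 x4 x5 => @Bool.rec.{1} @(fun x6 => @Bool) @Bool.false (@Cfsg.Agent.KO19b175f.k32 _ @x4 (@Nat.succ @x5)) (@Option.rec.{1, 0} (@List.{0} (ℕ × ℕ)) @(fun x6 => @Bool) @Bool.false @(fun x6 => @Cfsg.Agent.KO19b175f.k34 @x6 @x2) (@Cfsg.Agent.KO19b175f.k56 @x0 @x5))) @x1)) ?_); rewrite [← Cfsg.Agent.KO19b175f.e56, ← Cfsg.Agent.KO19b175f.e34,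 ← Cfsg.Agent.KO19b175f.e32]; (try delta Cfsg.Agent.H65.E8L.AdChk.allT); (try generalize @Cfsg.Agent.H65.E8L.AdChk.frc = g0); (try generalize @Cfsg.Agent.H65.E8L.Chk.eqL = g1); (try generalize @Cfsg.Agent.H65.E8L.AdChk.adG = g2); rfl') | exact @Cfsg.Agent.H65.E8L.AdChk.allT | exact ()
private theorem _root_.Cfsg.Agent.KO19b175f.e57 : (by first | exact @Cfsg.Agent.H65.E8L.AdChk.allT = @_root_.Cfsg.Agent.KO19b175f.k57 | exact True : Prop) := by first | (delta _root_.Cfsg.Agent.KO19b175f.k57; exact @Subtype.property _ (fun g => @Cfsg.Agent.H65.E8L.AdChk.allT = @g) _) | rfl | trivial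
private noncomputable def _root_.Cfsg.Agent.KO19b175f.k59.{ku0} : type_of% @List.get?Internal.{ku0} := @(fun x0 x1 x2 => @List.rec.{(ku0+1), ku0} @x0 @(fun x3 => ℕ → @Option.{ku0} @x0) @(fun x3 => @Option.none.{ku0} _) @(fun x3 x4 x5 x6 => @Nat.rec.{(ku0+1)} @(fun x7 => @Option.{ku0} @x0) (@Option.some.{ku0} _ @x3) @(fun x7 x8 => @x5 @x7) @x6) @x1 @x2)
private theorem _root_.Cfsg.Agent.KO19b175f.e59.{ku0} : @List.get?Internal.{ku0} = @_root_.Cfsg.Agent.KO19b175f.k59.{ku0} := by delta _root_.Cfsg.Agent.KO19b175f.k59; funext a0 a1 a2; refine (congrFun (_root_.Cfsg.Agent.KO19b175f.e12 (fun a1 a2 => @List.get?Internal.{ku0} a0 a1 a2) ?_ (fun c0 c1 => ?_) a1) a2 :) <;> [(funext b0; (rfl')); (funext b0; (cases b0 with | @zero  => (rfl') | @succ b0_0 => (rfl')))]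
private noncomputable def _root_.Cfsg.Agent.KO19b175f.k60 : (by first | exact type_of% @Cfsg.Agent.H65.E8L.Chk.g | exact Unit : Sort _) := by first | (refine @Subtype.val _ (fun g => @Cfsg.Agent.H65.E8L.Chk.g = @g) (@Subtype.mk _ _ (@(fun x0 x1 => @Option.rec.{1, 0} (@List.{0} (ℕ × ℕ)) @(fun x2 => @List.{0} (ℕ × ℕ)) [] @(fun x2 => @x2) (@Cfsg.Agent.KO19b175f.k59.{0} _ @x0 @x1))) ?_); rewrite [← Cfsg.Agent.KO19b175f.e59.{0}]; rfl') | exact @Cfsg.Agent.H65.E8L.Chk.g | exact ()
private theorem _root_.Cfsg.Agent.KO19b175f.e60 : (by first | exact @Cfsg.Agent.H65.E8L.Chk.g = @_root_.Cfsg.Agent.KO19b175f.k60 | exact True : Prop) := by first | (delta _root_.Cfsg.Agent.KO19b175f.k60; exact @Subtype.property _ (fun g => @Cfsg.Agent.H65.E8L.Chk.g = @g) _) | rfl | trivial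

private theorem cols : and (and (allT (g bl 0) tb0 0) (allT (g bl 1) tb1 0))
    (and (allT (g bl 2) tb2 0) (allT (g bl 3) tb3 0)) = true := by (first | (rewrite [Cfsg.Agent.KO19b175f.e31, Cfsg.Agent.KO19b175f.e57, Cfsg.Agent.KO19b175f.e60]; decide +kernel) | decide +kernel)

private theorem col0 : ∀ k < 248, colB (g bl 0) tb0 k = true := colB_of (Bool.and_eq_true_iff.1 (Bool.and_eq_true_iff.1 cols).1).1
private theorem col1 : ∀ k < 248, colB (g bl 1) tb1 k = true := colB_of (Bool.and_eq_true_iff.1 (Bool.and_eq_true_iff.1 cols).1).2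
private theorem col2 : ∀ k < 248, colB (g bl 2) tb2 k = true := colB_of (Bool.and_eq_true_iff.1 (Bool.and_eq_true_iff.1 cols).2).1
private theorem col3 : ∀ k < 248, colB (g bl 3) tb3 k = true := colB_of (Bool.and_eq_true_iff.1 (Bool.and_eq_true_iff.1 cols).2).2

end Cfsg.Agent.H65.E8L.AdChk
end

-- part: H65/E8L/Span
section
/-!
# The vectors fixed by `x₀ = φ₂(Mo)` and `y₀ = φ₂(Fr) φ₁(Fr)` (helper65, S5925, box Q)

`span`: they are combinations of four explicit vectors `b_1, ..., b_4` (the powers of `Fr` in `sl₅(E₁)`).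
-/

set_option autoImplicit false
set_option linter.unusedSectionVars false

namespace Cfsg.Agent.H65.E8L.Span

open Cfsg Cfsg.Lie Cfsg.Agent.ChevalleyStructure.SparseEng Matrix
open Cfsg.Agent.H65.E8L.Eng Cfsg.Agent.H65.E8L.Dat Cfsg.Agent.H65.E8L.Chk
open Cfsg.Agent.H238.E8 Cfsg.Agent.H992.E8X
open Cfsg.Agent.H788.E83 (Lt ev tv ev_cons wx wy Ax Ay Ax_eq Ay_eq)

/-- the matrix of a word -/
noncomputable def MW (w : List (ℕ × ℕ)) : Matrix chevE8.Idx chevE8.Idx (ZMod 3) :=
  chevE8.wordMat (ZMod 3) (w.map fun p => (p.1, (p.2 : ZMod 3)))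

theorem spv_one (k : ℕ) : spv [(k, 1)] = bv k := by
  rw [spv_cons, spv_nil, add_zero, Nat.cast_one, one_smul]

theorem col_of {w : List (ℕ × ℕ)} {T : List (List (ℕ × ℕ))} {k : ℕ} (h : colOK w T k = true) :
    MW w *ᵥ bv k = spv (g T k) := by
  have h1 := eqL_eq h
  rw [← h1, spv_appW, spv_one]
  rfl

theorem all_of {p : ℕ → Bool} {a n : ℕ} (h : ((List.range' a n).all p) = true) {k : ℕ} (h1 : a ≤ k) (h2 : k < a + n) :
    p k = true := List.all_eq_true.1 h k (List.mem_range'_1.2 ⟨h1, h2⟩)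

theorem colX {k : ℕ} (hk : k < 248) : MW wX *ᵥ bv k = spv (g tX k) := by
  apply col_of
  by_cases h0 : k < 40
  · exact all_of x0 (by omega) (by omega)
  by_cases h1 : k < 92
  · exact all_of x1 (by omega) (by omega)
  by_cases h2 : k < 144
  · exact all_of x2 (by omega) (by omega)
  by_cases h3 : k < 196
  · exact all_of x3 (by omega) (by omega)
  · exact all_of x4 (by omega) (by omega)

theorem mem_l0 {k : ℕ} (h : inL k = true) : k ∈ l0 := by
  obtain ⟨a, ha, h1⟩ := List.any_eq_true.1 h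
  rw [← Nat.eq_of_beq_eq_true h1]
  exact ha

theorem colY {k : ℕ} (hk : k ∈ l0) : MW wY *ᵥ bv k = spv (g tY k) := by
  apply col_of
  rw [← List.take_append_drop 24 l0, List.mem_append] at hk
  rcases hk with h | h
  · exact List.all_eq_true.1 y0 k h
  · exact List.all_eq_true.1 y1 k h

theorem two_smul_add (k : ℕ) (l : List (ℕ × ℕ)) : spv (_root_.Cfsg.Agent.H65.E8L.Eng.ins k 2 l) = spv l - bv k := by
  rw [spv_ins]
  have h : ((2 : ℕ) : ZMod 3) = -1 := rfl
  rw [h, neg_smul, one_smul]
  abel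

theorem lt_of {l : List (ℕ × ℕ)} (h : ltOK l = true) : ∀ a ∈ l, a.1 < 248 := fun a ha =>
  of_decide_eq_true (List.all_eq_true.1 h a ha)

/-- a linear map on a sum of basis vectors -/
theorem lin_sum (f : V →ₗ[ZMod 3] V) (v : V) : f v = ∑ i, v i • f (bv (cd i)) := by
  conv_lhs => rw [eq_sum v]
  rw [map_sum]
  simp only [map_smul]

theorem lin_sub (f : V →ₗ[ZMod 3] V) (M : Matrix chevE8.Idx chevE8.Idx (ZMod 3)) (v : V) :
    f (M *ᵥ v - v) = ∑ i, v i • f (M *ᵥ bv (cd i) - bv (cd i)) := by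
  have h : f (M *ᵥ v - v) = (f ∘ₗ (M.mulVecLin - LinearMap.id)) v := rfl
  rw [h, lin_sum]
  rfl

/-- **outside `sl₅ + sl₅`** -/
theorem zero_of_fix {v : V} (hx : MW wX *ᵥ v = v) (j : chevE8.Idx) (hj : inL (cd j) = false) : v j = 0 := by
  have h1 : R (g tR) (MW wX *ᵥ v - v) = 0 := by rw [hx, sub_self, map_zero]
  have h2 : R (g tR) (MW wX *ᵥ v - v) = ∑ i, v i • (if inL (cd i) then (0 : V) else bv (cd i)) := by
    rw [lin_sub]
    refine Finset.sum_congr rfl fun i _ => congrArg (fun u : V => v i • u) ?_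
    have h4 := List.all_eq_true.1 c1 (cd i) (List.mem_range.2 (cd_lt i))
    unfold ok1 at h4
    rw [Bool.and_eq_true] at h4
    have h5 := eqL_eq h4.2
    have h6 := spv_comb (g tR) _ [] (lt_of h4.1)
    rw [spv_nil, add_zero, two_smul_add, ← colX (cd_lt i)] at h6
    rw [← h6, h5]
    split_ifs
    · rfl
    · exact spv_one _
  rw [h1] at h2
  have h3 := congrFun h2 j
  rw [Finset.sum_apply, Finset.sum_eq_single j] at h3
  · rw [Pi.smul_apply, hj, if_neg (by decide), bv_cd, Pi.single_eq_same, smul_eq_mul, mul_one] at h3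
    exact h3.symm
  · intro b _ hb
    rw [Pi.smul_apply]
    split_ifs
    · rw [Pi.zero_apply, smul_zero]
    · rw [bv_cd, Pi.single_eq_of_ne hb.symm, smul_zero]
  · intro h
    exact absurd (Finset.mem_univ j) h

/-- the vectors `b_1, ..., b_4` -/
def b (i : Fin 4) : V := spv (bl.getD i.val [])

/-- the coefficients -/
def cf (s : ℕ) (i : Fin 4) : ℕ := ((nf s).getD i.val (0, 0)).2

theorem nf_eq (s : ℕ) : nf s = [(0, cf s 0), (1, cf s 1), (2, cf s 2), (3, cf s 3)] := by
  unfold cf nf
  split_ifs <;> rfl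

theorem comb_bl (s : ℕ) : spv (comb (g bl) (nf s) []) = ∑ i : Fin 4, ((cf s i : ℕ) : ZMod 3) • b i := by
  rw [nf_eq, spv_comb _ _ _ (by simp only [_root_.Fin.isValue, _root_.List.mem_cons, _root_.List.not_mem_nil, _root_.or_false, _root_.forall_eq_or_imp, _root_.Nat.ofNat_pos, _root_.Nat.one_lt_ofNat, _root_.Nat.reduceLT, _root_.forall_eq, _root_.and_self]), spv_nil, add_zero, spv_cons, spv_cons, spv_cons, spv_cons, spv_nil, add_zero,
    map_add, map_add, map_add, map_smul, map_smul, map_smul, map_smul, R_bv _ (by norm_num), R_bv _ (by norm_num),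
    R_bv _ (by norm_num), R_bv _ (by norm_num), Fin.sum_univ_four, add_assoc, add_assoc]
  rfl

/-- **`fixB x₀ y₀` is spanned by `b_1, ..., b_4`**, matrix form -/
theorem span_mat {v : V} (hx : MW wX *ᵥ v = v) (hy : MW wY *ᵥ v = v) :
    ∃ a : Fin 4 → ZMod 3, v = ∑ i, a i • b i := by
  have h0 := fun j hj => zero_of_fix hx j hj
  have h1 : R (g t1) (MW wX *ᵥ v - v) + R (g t2) (MW wY *ᵥ v - v) = 0 := by
    rw [hx, hy, sub_self, map_zero, map_zero, add_zero]
  have h2 : R (g t1) (MW wX *ᵥ v - v) + R (g t2) (MW wY *ᵥ v - v) = ∑ i, v i • spv (g t3 (cd i)) := by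
    rw [lin_sub (R (g t1)), lin_sub (R (g t2)), ← Finset.sum_add_distrib]
    refine Finset.sum_congr rfl fun i _ => ?_
    rw [← smul_add]
    by_cases hi : inL (cd i) = true
    · refine congrArg (fun u : V => v i • u) ?_
      have m := mem_l0 hi
      have h4 := List.all_eq_true.1 c2 (cd i) m
      unfold ok2 at h4
      rw [Bool.and_eq_true] at h4
      have h5 := eqL_eq h4.2
      have h7 := List.all_eq_true.1 c1 (cd i) (List.mem_range.2 (cd_lt i))
      unfold ok1 at h7
      rw [Bool.and_eq_true] at h7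
      rw [← h5, spv_comb _ _ _ (lt_of h7.1), spv_comb _ _ _ (lt_of h4.1), two_smul_add, two_smul_add, spv_nil,
        add_zero, ← colX (cd_lt i), ← colY m]
    · rw [h0 i (by simpa using hi), zero_smul, zero_smul]
  have h3 : v = ∑ i, v i • (bv (cd i) - spv (g t3 (cd i))) := by
    conv_lhs => rw [eq_sum v]
    simp only [smul_sub]
    rw [Finset.sum_sub_distrib, ← h2, h1, sub_zero]
  refine ⟨fun k => ∑ i, v i * ((cf (cd i) k : ℕ) : ZMod 3), ?_⟩
  conv_lhs => rw [h3]
  simp only [Finset.sum_smul]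
  rw [Finset.sum_comm]
  refine Finset.sum_congr rfl fun i _ => ?_
  by_cases hi : inL (cd i) = true
  · have h4 := eqL_eq (List.all_eq_true.1 c3 (cd i) (mem_l0 hi))
    have h5 : bv (cd i) - spv (g t3 (cd i)) = ∑ k : Fin 4, ((cf (cd i) k : ℕ) : ZMod 3) • b k := by
      rw [← comb_bl, ← h4, spv_ins, spv_comb _ _ _ (by simp), spv_nil, add_zero, spv_cons, spv_nil, add_zero, map_smul,
        R_bv _ (by norm_num)]
      have h6 : ((2 : ℕ) : ZMod 3) = -1 := rfl
      rw [h6, Nat.cast_one, one_smul, neg_smul, one_smul, sub_eq_add_neg]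
    rw [h5, Finset.smul_sum]
    simp only [smul_smul]
  · rw [h0 i (by simpa using hi)]
    simp

/-! ### the group elements -/

theorem coe_ph {φ : _root_.Matrix.SpecialLinearGroup (Fin 5) (ZMod 3) →* ↥(chevE8.group (ZMod 3))} {rt : Fin 5 → Fin 5 → ℕ}
    {sg : Fin 5 → Fin 5 → ℤ}
    (hφ : ∀ i j (hij : i ≠ j) c, φ (SpecialLinearGroup.transvection hij c) = X (rt i j) ((sg i j : ZMod 3) * c))
    (w : List Lt) (hw : ∀ l ∈ w, l.1 ≠ l.2.1) :
    (((φ (_root_.Cfsg.Agent.H788.E83.ev w) : ↥(chevE8.group (ZMod 3))) : GL chevE8.Idx (ZMod 3)) : Matrix chevE8.Idx chevE8.Idx (ZMod 3)) =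
      chevE8.wordMat (ZMod 3) (w.map fun l => (rt l.1 l.2.1, (sg l.1 l.2.1 : ZMod 3) * l.2.2)) := by
  induction w with
  | nil =>
    have h : _root_.Cfsg.Agent.H788.E83.ev ([] : List Lt) = 1 := rfl
    rw [h, map_one]
    rfl
  | cons l w ih =>
    have hl := hw l List.mem_cons_self
    rw [ev_cons, map_mul]
    show ((φ (tv l) : GL chevE8.Idx (ZMod 3)) : Matrix chevE8.Idx chevE8.Idx (ZMod 3)) *
      ((φ (_root_.Cfsg.Agent.H788.E83.ev w) : GL chevE8.Idx (ZMod 3)) : Matrix chevE8.Idx chevE8.Idx (ZMod 3)) = _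
    rw [ih fun l' h' => hw l' (List.mem_cons_of_mem _ h')]
    have e : tv l = SpecialLinearGroup.transvection hl l.2.2 := by
      unfold tv
      rw [dif_pos hl]
    rw [e, hφ]
    simp only [ChevalleyDatum.wordMat, List.map_cons, List.prod_cons]
    rfl

theorem Mo_eq : Cfsg.Agent.H908.E8L.Mo = Ax := Subtype.ext (Ax_eq.symm)

theorem Fr_eq : Cfsg.Agent.H908.E8L.Fr = Ay := Subtype.ext (Ay_eq.symm)

/-- `x₀` -/
noncomputable def X0 : ↥(chevE8.group (ZMod 3)) := ph2 (ZMod 3) Cfsg.Agent.H908.E8L.Mo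

/-- `y₀` -/
noncomputable def Y0 : ↥(chevE8.group (ZMod 3)) :=
  ph2 (ZMod 3) Cfsg.Agent.H908.E8L.Fr * ph1 (ZMod 3) Cfsg.Agent.H908.E8L.Fr

theorem X0_mat : ((X0 : GL chevE8.Idx (ZMod 3)) : Matrix chevE8.Idx chevE8.Idx (ZMod 3)) = MW wX := by
  unfold X0
  rw [Mo_eq]
  unfold Ax
  rw [coe_ph (fun i j hij c => ph2_tv (ZMod 3) hij c) wx (by decide +kernel)]
  unfold MW
  congr 1

theorem Y0_mat : ((Y0 : GL chevE8.Idx (ZMod 3)) : Matrix chevE8.Idx chevE8.Idx (ZMod 3)) = MW wY := by
  unfold Y0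
  rw [Fr_eq]
  unfold Ay
  show ((ph2 (ZMod 3) (_root_.Cfsg.Agent.H788.E83.ev wy) : GL chevE8.Idx (ZMod 3)) : Matrix chevE8.Idx chevE8.Idx (ZMod 3)) *
    ((ph1 (ZMod 3) (ev wy) : GL chevE8.Idx (ZMod 3)) : Matrix chevE8.Idx chevE8.Idx (ZMod 3)) = _
  rw [coe_ph (fun i j hij c => ph2_tv (ZMod 3) hij c) wy (by decide +kernel),
    coe_ph (fun i j hij c => ph1_tv (ZMod 3) hij c) wy (by decide +kernel)]
  unfold MW ChevalleyDatum.wordMat
  rw [← List.prod_append, ← List.map_append]
  congr 2

/-- **`fixB x₀ y₀` is spanned by `b_1, ..., b_4`** -/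
theorem span {v : V} (hx : ((X0 : GL chevE8.Idx (ZMod 3)) : Matrix chevE8.Idx chevE8.Idx (ZMod 3)) *ᵥ v = v)
    (hy : ((Y0 : GL chevE8.Idx (ZMod 3)) : Matrix chevE8.Idx chevE8.Idx (ZMod 3)) *ᵥ v = v) :
    ∃ a : Fin 4 → ZMod 3, v = ∑ i, a i • b i := by
  rw [X0_mat] at hx
  rw [Y0_mat] at hy
  exact span_mat hx hy

end Cfsg.Agent.H65.E8L.Span
end

-- part: H65/E8L/Cube
section
/-!
# `(ad b_i)³ = ad b_{3i}` and `[b_i, b_j] = 0` (helper65, S5925, box Q)
-/

set_option autoImplicit false
set_option linter.unusedSectionVars false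
set_option maxRecDepth 100000

namespace Cfsg.Agent.H65.E8L.Cube

open Cfsg Cfsg.Lie Matrix
open Cfsg.Agent.H65.E8L Cfsg.Agent.H65.E8L.Eng Cfsg.Agent.H65.E8L.Dat Cfsg.Agent.H65.E8L.AdDat Cfsg.Agent.H65.E8L.Chk
open Cfsg.Agent.H65.E8L.AdEng Cfsg.Agent.H65.E8L.AdChk Cfsg.Agent.H65.E8L.Ad

/-- a linear map is determined by the basis vectors -/
theorem ext_bv {f h : V →ₗ[ZMod 3] V} (e : ∀ k < 248, f (bv k) = h (bv k)) : f = h := by
  apply LinearMap.ext
  intro v
  rw [Span.lin_sum f, Span.lin_sum h]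
  exact Finset.sum_congr rfl fun i _ => by rw [e _ (cd_lt i)]

theorem adE_eq_R {b : List (ℕ × ℕ)} {T : List (List (ℕ × ℕ))} (h : ∀ k < 248, colB b T k = true) :
    adE (spv b) = R (g T) := by
  refine ext_bv fun k hk => ?_
  have h1 := h k hk
  unfold colB at h1
  split at h1
  · rename_i m hm
    rw [adE_adB hk hm, R_bv _ hk, eqL_eq h1]
  · exact absurd h1 (by decide)

theorem R_cube {T T' : List (List (ℕ × ℕ))} (h : ((List.range 248).all (cubOK T T')) = true) :
    R (g T) ^ 3 = R (g T') := by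
  refine ext_bv fun k hk => ?_
  have h1 := List.all_eq_true.1 h k (List.mem_range.2 hk)
  unfold cubOK at h1
  rw [Bool.and_eq_true, Bool.and_eq_true] at h1
  obtain ⟨h2, h3, h4⟩ := h1
  have e2 := spv_comb (g T) (g T k) [] (Span.lt_of h2)
  have e3 := spv_comb (g T) _ [] (Span.lt_of h3)
  rw [spv_nil, add_zero] at e2 e3
  have e : (R (g T) ^ 3) (bv k) = R (g T) (R (g T) (R (g T) (bv k))) := by
    rw [pow_succ, pow_two]; rfl
  rw [e, R_bv _ hk, R_bv _ hk, ← e2, ← e3, eqL_eq h4]

theorem R_com {T : List (List (ℕ × ℕ))} {b : List (ℕ × ℕ)} (h : comOK T b = true) : R (g T) (spv b) = 0 := by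
  unfold comOK at h
  rw [Bool.and_eq_true] at h
  have e := spv_comb (g T) b [] (Span.lt_of h.1)
  rw [spv_nil, add_zero, eqL_eq h.2, spv_nil] at e
  exact e.symm

theorem r0 : adE (Span.b 0) = R (g tb0) := adE_eq_R col0

theorem r1 : adE (Span.b 1) = R (g tb1) := adE_eq_R col1

theorem r2 : adE (Span.b 2) = R (g tb2) := adE_eq_R col2

theorem r3 : adE (Span.b 3) = R (g tb3) := adE_eq_R col3

/-- **the cubes** -/
theorem adE_cube (i : Fin 4) : adE (Span.b i) ^ 3 = adE (Span.b (cc i)) := by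
  fin_cases i
  · show adE (Span.b 0) ^ 3 = adE (Span.b 2)
    rw [r0, r2, R_cube q0]
  · show adE (Span.b 1) ^ 3 = adE (Span.b 0)
    rw [r1, r0, R_cube q1]
  · show adE (Span.b 2) ^ 3 = adE (Span.b 3)
    rw [r2, r3, R_cube q2]
  · show adE (Span.b 3) ^ 3 = adE (Span.b 1)
    rw [r3, r1, R_cube q3]

/-- **the `b_i` commute** -/
theorem adE_com (i j : Fin 4) : Commute (adE (Span.b i)) (adE (Span.b j)) := by
  obtain ⟨m00, m01, m02, m03, m11, m12, m13, m22, m23, m33⟩ := m
  have k01 : Commute (adE (Span.b 0)) (adE (Span.b 1)) := commute_of (by rw [r0]; exact R_com m01)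
  have k02 : Commute (adE (Span.b 0)) (adE (Span.b 2)) := commute_of (by rw [r0]; exact R_com m02)
  have k03 : Commute (adE (Span.b 0)) (adE (Span.b 3)) := commute_of (by rw [r0]; exact R_com m03)
  have k12 : Commute (adE (Span.b 1)) (adE (Span.b 2)) := commute_of (by rw [r1]; exact R_com m12)
  have k13 : Commute (adE (Span.b 1)) (adE (Span.b 3)) := commute_of (by rw [r1]; exact R_com m13)
  have k23 : Commute (adE (Span.b 2)) (adE (Span.b 3)) := commute_of (by rw [r2]; exact R_com m23)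
  fin_cases i <;> fin_cases j
  · exact Commute.refl _
  · exact k01
  · exact k02
  · exact k03
  · exact k01.symm
  · exact Commute.refl _
  · exact k12
  · exact k13
  · exact k02.symm
  · exact k12.symm
  · exact Commute.refl _
  · exact k23
  · exact k03.symm
  · exact k13.symm
  · exact k23.symm
  · exact Commute.refl _

end Cfsg.Agent.H65.E8L.Cube
end

-- part: H65/E8L/Fin
section
/-!
# S5925, box Q: the orbit sums of the vectors fixed by `x₀, y₀` vanish (helper65)
-/

set_option autoImplicit false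
set_option linter.unusedSectionVars false

namespace Cfsg.Agent.H65.E8L.Fin

open Cfsg Cfsg.Lie Matrix
open Cfsg.Agent.H791.E8L Cfsg.Agent.H65.E8L

/-- the module -/
abbrev V : Type := chevE8.Idx → ZMod 3

abbrev G3 : Type := ↥(chevE8.group (ZMod 3))

/-- the matrix of an element -/
def mt (g : G3) : Matrix chevE8.Idx chevE8.Idx (ZMod 3) := ((g : GL chevE8.Idx (ZMod 3)) : Matrix chevE8.Idx chevE8.Idx (ZMod 3))

theorem mt_mul (g h : G3) : mt (g * h) = mt g * mt h := rfl

theorem mt_one : mt 1 = 1 := rfl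

/-- the linear equivalence of an element -/
def le (g : G3) : V ≃ₗ[ZMod 3] V where
  toFun v := mt g *ᵥ v
  invFun v := mt g⁻¹ *ᵥ v
  map_add' u v := Matrix.mulVec_add _ u v
  map_smul' c v := Matrix.mulVec_smul _ c v
  left_inv v := by
    show mt g⁻¹ *ᵥ (mt g *ᵥ v) = v
    rw [Matrix.mulVec_mulVec, ← mt_mul, inv_mul_cancel, mt_one, Matrix.one_mulVec]
  right_inv v := by
    show mt g *ᵥ (mt g⁻¹ *ᵥ v) = v
    rw [Matrix.mulVec_mulVec, ← mt_mul, mul_inv_cancel, mt_one, Matrix.one_mulVec]

theorem le_apply (g : G3) (v : V) : le g v = mt g *ᵥ v := rfl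

/-- the action of `E₈(3)` by linear equivalences -/
def actE : G3 →* (V ≃ₗ[ZMod 3] V) where
  toFun := le
  map_one' := by
    apply LinearEquiv.ext
    intro v
    rw [le_apply, mt_one, Matrix.one_mulVec]
    rfl
  map_mul' g h := by
    apply LinearEquiv.ext
    intro v
    show mt (g * h) *ᵥ v = mt g *ᵥ (mt h *ᵥ v)
    rw [mt_mul, Matrix.mulVec_mulVec]

/-- **the orbit sums vanish**, from the data -/
theorem sv_of {ad : V →ₗ[ZMod 3] Module.End (ZMod 3) V} {B : V →ₗ[ZMod 3] V →ₗ[ZMod 3] ZMod 3}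
    (hcen : ∀ u, ad u = 0 → u = 0) (hcom : ∀ i j, Commute (ad (Span.b i)) (ad (Span.b j)))
    (hcube : ∀ i, ad (Span.b i) ^ 3 = ad (Span.b (cc i)))
    (hval : ∀ i j, B (Span.b i) (Span.b j) = if i.val + j.val = 3 then -1 else 0)
    (had : ∀ (g : G3) u v, actE g (ad u v) = ad (actE g u) (actE g v))
    (hB : ∀ (g : G3) u v, B (actE g u) (actE g v) = B u v)
    {t : G3} (h : _root_.Cfsg.Agent.H791.E8L.Rel Span.X0 Span.Y0 t) {v : V} (hx : actE Span.X0 v = v) (hy : actE Span.Y0 v = v) :
    sv (actE Span.X0) (actE t) v = 0 := by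
  have D : Data (actE Span.X0) (actE Span.Y0) ad B Span.b := ⟨hcen, fun v h1 h2 => Span.span h1 h2, hcom, hcube, hval⟩
  exact D.sv_zero (h.map actE) (had _) (had _) (had _) (hB _) (hB _) hx hy

/-- **box Q**: for all `t` with the relations of `PSL₂(11)` the orbit sums of the vectors fixed by `x₀, y₀` vanish -/
theorem sig0_of {ad : V →ₗ[ZMod 3] Module.End (ZMod 3) V} {B : V →ₗ[ZMod 3] V →ₗ[ZMod 3] ZMod 3}
    (hcen : ∀ u, ad u = 0 → u = 0) (hcom : ∀ i j, Commute (ad (Span.b i)) (ad (Span.b j)))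
    (hcube : ∀ i, ad (Span.b i) ^ 3 = ad (Span.b (cc i)))
    (hval : ∀ i j, B (Span.b i) (Span.b j) = if i.val + j.val = 3 then -1 else 0)
    (had : ∀ (g : G3) u v, mt g *ᵥ (ad u v) = ad (mt g *ᵥ u) (mt g *ᵥ v))
    (hB : ∀ (g : G3) u v, B (mt g *ᵥ u) (mt g *ᵥ v) = B u v)
    {t : G3} (h : _root_.Cfsg.Agent.H791.E8L.Rel Cfsg.Agent.H114.E8L.x0 Cfsg.Agent.H114.E8L.y0 t) {v : V}
    (hx : Cfsg.Agent.H114.E8L.ac Cfsg.Agent.H114.E8L.x0 v = v)
    (hy : Cfsg.Agent.H114.E8L.ac Cfsg.Agent.H114.E8L.y0 v = v) :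
    v + ∑ i ∈ Finset.range 11, Cfsg.Agent.H114.E8L.ac (Cfsg.Agent.H114.E8L.x0 ^ i) (Cfsg.Agent.H114.E8L.ac t v) = 0 := by
  have h1 := sv_of hcen hcom hcube hval had hB h hx hy
  unfold sv at h1
  rw [← h1]
  refine congrArg (fun u : V => v + u) (Finset.sum_congr rfl fun i _ => ?_)
  rw [← map_pow]
  rfl

end Cfsg.Agent.H65.E8L.Fin
end

-- part: H365/E83/Form
section
/-!
# The invariant form of the adjoint module of `E₈(3)` on `b_1, ..., b_4` (helper365, S5925, box Q)

`kapB` : the bilinear form of `J` (`H597.E8Form`) over `F₃`; `kapB_inv` : invariance under `E₈(3)`;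
`kapB_val` : the values on the four vectors `b_i` (the powers of `Fr` in `sl₅(E₁)`).
-/

set_option autoImplicit false

namespace Cfsg.Agent.H365.E83.Form

open Cfsg Cfsg.Lie
open Matrix hiding J
open Cfsg.Agent.H597.E8Form
open Cfsg.Agent.H65.E8L.Eng Cfsg.Agent.H65.E8L.Dat
open Cfsg.Agent.ChevalleyStructure.Columns

/-- the Chevalley group preserves `J` -/
theorem J_inv {K : Type*} [Field K] {g : GL chevE8.Idx K} (hg : g ∈ chevE8.group K) :
    (g : Matrix chevE8.Idx chevE8.Idx K).transpose * J K * (g : Matrix chevE8.Idx chevE8.Idx K) = J K := by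
  unfold ChevalleyDatum.group at hg
  induction hg using Subgroup.closure_induction with
  | mem x hx =>
    obtain ⟨r, t, h⟩ := hx
    rw [h]
    exact inv_gen r t
  | one => simp
  | mul x y _ _ hx hy =>
    rw [Units.val_mul, Matrix.transpose_mul]
    calc ((y : Matrix chevE8.Idx chevE8.Idx K)).transpose * ((x : Matrix chevE8.Idx chevE8.Idx K)).transpose * J K *
          ((x : Matrix chevE8.Idx chevE8.Idx K) * (y : Matrix chevE8.Idx chevE8.Idx K))
        = ((y : Matrix chevE8.Idx chevE8.Idx K)).transpose * (((x : Matrix chevE8.Idx chevE8.Idx K)).transpose * J K *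
          (x : Matrix chevE8.Idx chevE8.Idx K)) * (y : Matrix chevE8.Idx chevE8.Idx K) := by
          simp only [Matrix.mul_assoc]
      _ = _ := by rw [hx, hy]
  | inv x _ hx =>
    have h1 : (x : Matrix chevE8.Idx chevE8.Idx K) * ((x⁻¹ : GL chevE8.Idx K) : Matrix chevE8.Idx chevE8.Idx K) = 1 := by
      rw [← Units.val_mul, mul_inv_cancel, Units.val_one]
    calc (((x⁻¹ : GL chevE8.Idx K) : Matrix chevE8.Idx chevE8.Idx K)).transpose * J K *
          ((x⁻¹ : GL chevE8.Idx K) : Matrix chevE8.Idx chevE8.Idx K)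
        = (((x⁻¹ : GL chevE8.Idx K) : Matrix chevE8.Idx chevE8.Idx K)).transpose *
          (((x : Matrix chevE8.Idx chevE8.Idx K)).transpose * J K * (x : Matrix chevE8.Idx chevE8.Idx K)) *
          ((x⁻¹ : GL chevE8.Idx K) : Matrix chevE8.Idx chevE8.Idx K) := by rw [hx]
      _ = ((x : Matrix chevE8.Idx chevE8.Idx K) *
          ((x⁻¹ : GL chevE8.Idx K) : Matrix chevE8.Idx chevE8.Idx K)).transpose * J K *
          ((x : Matrix chevE8.Idx chevE8.Idx K) *
          ((x⁻¹ : GL chevE8.Idx K) : Matrix chevE8.Idx chevE8.Idx K)) := by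
          simp only [Matrix.transpose_mul, Matrix.mul_assoc]
      _ = J K := by rw [h1, Matrix.transpose_one, Matrix.one_mul, Matrix.mul_one]

/-- the form -/
noncomputable def kapB : V →ₗ[ZMod 3] V →ₗ[ZMod 3] ZMod 3 := Matrix.toLinearMap₂' (ZMod 3) (J (ZMod 3))

theorem kapB_apply (u v : V) : kapB u v = u ⬝ᵥ (J (ZMod 3) *ᵥ v) := Matrix.toLinearMap₂'_apply' _ _ _

theorem kapB_inv {g : GL chevE8.Idx (ZMod 3)} (hg : g ∈ chevE8.group (ZMod 3)) (u v : V) :
    kapB ((g : Matrix chevE8.Idx chevE8.Idx (ZMod 3)) *ᵥ u) ((g : Matrix chevE8.Idx chevE8.Idx (ZMod 3)) *ᵥ v) =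
      kapB u v := by
  rw [kapB_apply, kapB_apply, Matrix.mulVec_mulVec, ← Matrix.vecMul_transpose, ← Matrix.dotProduct_mulVec,
    Matrix.mulVec_mulVec, ← Matrix.mul_assoc, J_inv hg]

/-- the form on codes -/
def Jn (a b : ℕ) : ℕ :=
  if a < 8 then (if b < 8 then z3 (car chevE8 a (chevE8.simpleIdx.getD b 0)) else 0)
  else (if b < 8 then 0 else if a + b = 255 then 1 else 0)

theorem exists_cd {k : ℕ} (hk : k < 248) : ∃ i : chevE8.Idx, cd i = k := by
  by_cases h : k < 8
  · exact ⟨Sum.inl ⟨k, h⟩, rfl⟩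
  · exact ⟨Sum.inr ⟨k - 8, by show k - 8 < 240; omega⟩, by show 8 + (k - 8) = k; omega⟩

theorem Jn_ll {a b : ℕ} (ha : a < 8) (hb : b < 8) : Jn a b = z3 (car chevE8 a (chevE8.simpleIdx.getD b 0)) := by
  unfold Jn; rw [if_pos ha, if_pos hb]

theorem Jn_lr {a b : ℕ} (ha : a < 8) (hb : ¬ b < 8) : Jn a b = 0 := by
  unfold Jn; rw [if_pos ha, if_neg hb]

theorem Jn_rl {a b : ℕ} (ha : ¬ a < 8) (hb : b < 8) : Jn a b = 0 := by
  unfold Jn; rw [if_neg ha, if_pos hb]

theorem Jn_rr {a b : ℕ} (ha : ¬ a < 8) (hb : ¬ b < 8) : Jn a b = if a + b = 255 then 1 else 0 := by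
  unfold Jn; rw [if_neg ha, if_neg hb]

theorem J_cd (i j : chevE8.Idx) : J (ZMod 3) i j = ((Jn (cd i) (cd j) : ℕ) : ZMod 3) := by
  rcases i with i | s <;> rcases j with j | u
  · have e : Jn (cd (Sum.inl i)) (cd (Sum.inl j)) = z3 (car chevE8 i.val (chevE8.simpleIdx.getD j.val 0)) :=
      Jn_ll (lt8 i) (lt8 j)
    rw [J_ll, e, cast_z3]
    rfl
  · have e : Jn (cd (Sum.inl i)) (cd (Sum.inr u)) = 0 := Jn_lr (lt8 i) (by show ¬ 8 + u.val < 8; omega)
    rw [J_lr, e, Nat.cast_zero]
  · have e : Jn (cd (Sum.inr s)) (cd (Sum.inl j)) = 0 := Jn_rl (by show ¬ 8 + s.val < 8; omega) (lt8 j)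
    rw [J_rl, e, Nat.cast_zero]
  · have e : Jn (cd (Sum.inr s)) (cd (Sum.inr u)) = if (8 + s.val) + (8 + u.val) = 255 then 1 else 0 :=
      Jn_rr (by show ¬ 8 + s.val < 8; omega) (by show ¬ 8 + u.val < 8; omega)
    have hs := lt240 s
    have hu := lt240 u
    rw [e, J_rr]
    by_cases h : u = rv s
    · have h1 := congrArg Fin.val h
      rw [rv_val] at h1
      rw [if_pos h, if_pos (by omega), Nat.cast_one]
    · rw [if_neg h, if_neg, Nat.cast_zero]
      intro h1
      exact h (Fin.ext (by rw [rv_val]; omega))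

theorem kapB_bv {a b : ℕ} (ha : a < 248) (hb : b < 248) : kapB (bv a) (bv b) = ((Jn a b : ℕ) : ZMod 3) := by
  obtain ⟨i, rfl⟩ := exists_cd ha
  obtain ⟨j, rfl⟩ := exists_cd hb
  rw [bv_cd, bv_cd, kapB_apply, Matrix.mulVec_single_one, single_dotProduct, one_mul]
  exact J_cd i j

/-- the value of the form on sparse vectors -/
def kv (l m : List (ℕ × ℕ)) : ℕ := (l.map fun a => (m.map fun b => a.2 * b.2 * Jn a.1 b.1).sum).sum

theorem spv_one' (B : V →ₗ[ZMod 3] V →ₗ[ZMod 3] ZMod 3)
    (hB : ∀ a b, a < 248 → b < 248 → B (bv a) (bv b) = ((Jn a b : ℕ) : ZMod 3)) (a : ℕ × ℕ) (ha : a.1 < 248)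
    (m : List (ℕ × ℕ)) (hm : ∀ a ∈ m, a.1 < 248) :
    B (((a.2 : ℕ) : ZMod 3) • bv a.1) (spv m) = (((m.map fun b => a.2 * b.2 * Jn a.1 b.1).sum : ℕ) : ZMod 3) := by
  induction m with
  | nil =>
    have h : spv ([] : List (ℕ × ℕ)) = 0 := rfl
    rw [h, map_zero]
    rfl
  | cons b m ih =>
    have h1 := ih fun c hc => hm c (List.mem_cons_of_mem _ hc)
    have h2 := hB a.1 b.1 ha (hm b List.mem_cons_self)
    rw [spv_cons, map_add, h1, List.map_cons, List.sum_cons, Nat.cast_add]
    refine congrArg (· + _) ?_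
    have h3 : B (((a.2 : ℕ) : ZMod 3) • bv a.1) (((b.2 : ℕ) : ZMod 3) • bv b.1) =
        ((b.2 : ℕ) : ZMod 3) * (((a.2 : ℕ) : ZMod 3) * B (bv a.1) (bv b.1)) := by
      rw [map_smul, map_smul]
      rfl
    rw [h3, h2]
    push_cast
    ring

theorem spv_two (B : V →ₗ[ZMod 3] V →ₗ[ZMod 3] ZMod 3)
    (hB : ∀ a b, a < 248 → b < 248 → B (bv a) (bv b) = ((Jn a b : ℕ) : ZMod 3)) (l : List (ℕ × ℕ))
    (hl : ∀ a ∈ l, a.1 < 248) (m : List (ℕ × ℕ)) (hm : ∀ a ∈ m, a.1 < 248) :
    B (spv l) (spv m) = ((kv l m : ℕ) : ZMod 3) := by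
  induction l with
  | nil =>
    have h : spv ([] : List (ℕ × ℕ)) = 0 := rfl
    rw [h, map_zero]
    rfl
  | cons a l ih =>
    have h1 := ih fun c hc => hl c (List.mem_cons_of_mem _ hc)
    have h2 := spv_one' B hB a (hl a List.mem_cons_self) m hm
    have h3 : kv (a :: l) m = (m.map fun b => a.2 * b.2 * Jn a.1 b.1).sum + kv l m := rfl
    rw [spv_cons, map_add, h3, Nat.cast_add, ← h1, ← h2]
    rfl

theorem kapB_spv {l m : List (ℕ × ℕ)} (hl : ∀ a ∈ l, a.1 < 248) (hm : ∀ a ∈ m, a.1 < 248) :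
    kapB (spv l) (spv m) = ((kv l m : ℕ) : ZMod 3) :=
  spv_two kapB (fun _ _ ha hb => kapB_bv ha hb) l hl m hm

theorem kv_val : ((List.range 4).all fun i => (List.range 4).all fun j =>
    Nat.beq (kv (bl.getD i []) (bl.getD j []) % 3) (if i + j = 3 then 2 else 0)) = true := by decide +kernel

theorem bl_lt : (bl.all fun l => l.all fun a => Nat.blt a.1 248) = true := by decide +kernel

theorem bl_lt' (i : ℕ) : ∀ a ∈ bl.getD i [], a.1 < 248 := by
  intro a ha
  by_cases h : i < bl.length
  · rw [List.getD_eq_getElem _ _ h] at ha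
    have h1 := List.all_eq_true.1 bl_lt _ (List.getElem_mem h)
    have h2 := List.all_eq_true.1 h1 a ha
    exact Nat.le_of_ble_eq_true h2
  · rw [List.getD_eq_default _ _ (by omega)] at ha
    simp at ha

/-- **the values** -/
theorem kapB_val (i j : Fin 4) : kapB (spv (bl.getD i.val [])) (spv (bl.getD j.val [])) =
    if i.val + j.val = 3 then -1 else 0 := by
  rw [kapB_spv (bl_lt' _) (bl_lt' _)]
  have h1 := List.all_eq_true.1 kv_val i.val (List.mem_range.2 i.isLt)
  have h2 := Nat.eq_of_beq_eq_true (List.all_eq_true.1 h1 j.val (List.mem_range.2 j.isLt))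
  rw [← cast_mod, h2]
  split_ifs <;> rfl

end Cfsg.Agent.H365.E83.Form
end

-- part: H365/E83/Cen
section
/-!
# The centre of the Lie algebra of type `E₈` over a field is zero (helper365, S5925, box Q)

`cen` : `ad u = 0 → u = 0`; needs that no coroot is zero in the field, here for `F₃`.
-/

set_option autoImplicit false
set_option maxRecDepth 100000

namespace Cfsg.Agent.H365.E83.Cen

open Cfsg Cfsg.Lie
open Matrix hiding J
open Cfsg.Agent.ChevalleyStructure.LieAbs Cfsg.Agent.ChevalleyStructure.LieAut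
open Cfsg.Agent.ChevalleyStructure.Ring Cfsg.Agent.ChevalleyStructure.JacMain
open Cfsg.Agent.ChevalleyStructure.Columns
open Cfsg.Agent.H597.E8Form

variable {K : Type*} [Field K]

/-- the entry `(h_i, e_s)` of `ad h_j` -/
theorem ent_h (j i : Fin chevE8.rank) (s : Fin chevE8.nroots) : adR chevE8 K (Sum.inl j) (Sum.inl i) (Sum.inr s) = 0 := by
  have h : adA chevE8 (Sum.inl j) (Sum.inl i) (Sum.inr s) = 0 := by
    rw [adA_inl]
    exact Matrix.diagonal_apply_ne _ (by simp)
  rw [adR_def, Matrix.map_apply, h, map_zero]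

/-- the entry `(h_i, e_{-s})` of `ad e_r` -/
theorem ent_e (r s : Fin chevE8.nroots) (i : Fin chevE8.rank) :
    adR chevE8 K (Sum.inr r) (Sum.inl i) (Sum.inr (rv s)) = if r = s then ((cor chevE8 s.val i.val : ℤ) : K) else 0 := by
  have h : adA chevE8 (Sum.inr r) (Sum.inl i) (Sum.inr (rv s)) = if r = s then cor chevE8 s.val i.val else 0 := by
    rw [adA_inr, coefE_entry chevE8 r.val 1 (lt240 r)]
    show (if (rv s).val = r.val then (0 : ℤ) else if (rv s).val = chevE8.negIdx.getD r.val 0 then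
      (if 1 = 1 then (chevE8.coroot.getD r.val #[]).getD i.val 0 else 0) else 0) = _
    have hr := lt240 r
    have hs := lt240 s
    rw [neg_eq _ hr, rv_val]
    by_cases h : r = s
    · subst h
      rw [if_neg (by omega), if_pos rfl, if_pos rfl, if_pos rfl]
      rfl
    · have h' : r.val ≠ s.val := fun e => h (Fin.ext e)
      rw [if_neg h]
      by_cases h1 : 239 - s.val = r.val
      · rw [if_pos h1]
      · rw [if_neg h1, if_neg (by omega)]
  rw [adR_def, Matrix.map_apply, h]
  split_ifs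
  · rfl
  · rw [map_zero]

/-- the diagonal entry at `e_s` of `ad h_j` -/
theorem ent_d (j : Fin chevE8.rank) (s : Fin chevE8.nroots) :
    adR chevE8 K (Sum.inl j) (Sum.inr s) (Sum.inr s) = ((car chevE8 j.val s.val : ℤ) : K) := by
  have h : adA chevE8 (Sum.inl j) (Sum.inr s) (Sum.inr s) = car chevE8 j.val s.val := by
    rw [adA_inl]
    exact Matrix.diagonal_apply_eq _ _
  rw [adR_def, Matrix.map_apply, h]
  rfl

theorem adv_apply (u : chevE8.Idx → K) (a b : chevE8.Idx) : adv (adR chevE8 K) u a b =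
    ∑ j, u (Sum.inl j) * adR chevE8 K (Sum.inl j) a b + ∑ r, u (Sum.inr r) * adR chevE8 K (Sum.inr r) a b := by
  unfold adv
  rw [Matrix.sum_apply, Fintype.sum_sum_type]
  rfl

/-- **the centre is zero**, if no coroot vanishes in the field -/
theorem cen_of (hc : ∀ s : Fin chevE8.nroots, ∃ i : Fin chevE8.rank, ((cor chevE8 s.val i.val : ℤ) : K) ≠ 0)
    {u : chevE8.Idx → K} (h : adv (adR chevE8 K) u = 0) : u = 0 := by
  have h1 : ∀ s : Fin chevE8.nroots, u (Sum.inr s) = 0 := by
    intro s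
    obtain ⟨i, hi⟩ := hc s
    have h2 := congrFun (congrFun h (Sum.inl i)) (Sum.inr (rv s))
    rw [adv_apply, Finset.sum_eq_zero (fun j _ => by rw [ent_h, mul_zero]), zero_add] at h2
    simp only [ent_e, mul_ite, mul_zero] at h2
    rw [Finset.sum_ite_eq' Finset.univ s, if_pos (Finset.mem_univ _)] at h2
    exact (mul_eq_zero.1 h2).resolve_right hi
  have h3 : ∀ s : Fin chevE8.nroots, ∑ j : Fin chevE8.rank, u (Sum.inl j) * ((car chevE8 j.val s.val : ℤ) : K) = 0 := by
    intro s
    have h2 := congrFun (congrFun h (Sum.inr s)) (Sum.inr s)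
    rw [adv_apply] at h2
    simp only [h1, zero_mul, Finset.sum_const_zero, add_zero, ent_d] at h2
    exact h2
  have h4 : ∀ j : Fin chevE8.rank, u (Sum.inl j) = 0 := by
    let w : Fin 8 → K := fun j => u (Sum.inl j)
    have h5 : w ᵥ* (AZ.map (Int.castRingHom K)) = 0 := by
      ext k
      have hk : chevE8.simpleIdx.getD k.val 0 < 240 := by
        have : ∀ k : Fin 8, chevE8.simpleIdx.getD k.val 0 < 240 := by decide +kernel
        exact this k
      have h6 := h3 ⟨chevE8.simpleIdx.getD k.val 0, hk⟩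
      have h9 : (w ᵥ* (AZ.map (Int.castRingHom K))) k = ∑ j : Fin 8, w j * AZ.map (Int.castRingHom K) j k := rfl
      rw [h9]
      exact h6
    have h7 : AZ.map (Int.castRingHom K) * BZ.map (Int.castRingHom K) = 1 := by
      rw [← Matrix.map_mul, AZ_mul_BZ]
      exact Matrix.map_one _ (map_zero _) (map_one _)
    have h8 : w = 0 := by
      calc w = w ᵥ* (AZ.map (Int.castRingHom K) * BZ.map (Int.castRingHom K)) := by rw [h7, Matrix.vecMul_one]
        _ = 0 := by rw [← Matrix.vecMul_vecMul, h5, Matrix.zero_vecMul]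
    intro j
    exact congrFun h8 j
  ext a
  rcases a with j | s
  · exact h4 j
  · exact h1 s

theorem cor_mod : ∀ r < 240, (List.range 8).any (fun i => !(decide ((cor chevE8 r i) % 3 = 0))) = true := by
  decide +kernel

/-- **the centre of `L(E₈)` over `F₃` is zero** -/
theorem cen {u : chevE8.Idx → ZMod 3} (h : adv (adR chevE8 (ZMod 3)) u = 0) : u = 0 := by
  refine cen_of (fun s => ?_) h
  obtain ⟨i, hi, h1⟩ := List.any_eq_true.1 (cor_mod s.val (lt240 s))
  rw [List.mem_range] at hi
  refine ⟨⟨i, hi⟩, fun h2 => ?_⟩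
  have h3 : (3 : ℤ) ∣ cor chevE8 s.val i := (ZMod.intCast_zmod_eq_zero_iff_dvd _ 3).1 h2
  rw [Int.emod_eq_zero_of_dvd h3] at h1
  simp at h1

end Cfsg.Agent.H365.E83.Cen
end

-- part: H65/E8L/QBox
section
/-!
# S5925, box Q (helper65): the orbit sums of the vectors fixed by `x₀, y₀` vanish
-/

set_option autoImplicit false
set_option maxRecDepth 100000

namespace Cfsg.Agent.H65.E8L.QBox

open Cfsg Cfsg.Lie Matrix
open Cfsg.Agent.H791.E8L (Rel)
open Cfsg.Agent.H114.E8L (x0 y0 ac)
open Cfsg.Agent.H65.E8L Cfsg.Agent.H65.E8L.Ad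

/-- **box Q** from `cen` -/
theorem sig0_cen (hcen : ∀ u, adE u = 0 → u = 0) {t : Fin.G3} (h : _root_.Cfsg.Agent.H791.E8L.Rel x0 y0 t) {v : Fin.V} (hx : ac x0 v = v)
    (hy : ac y0 v = v) : v + ∑ i ∈ Finset.range 11, ac (x0 ^ i) (ac t v) = 0 :=
  Fin.sig0_of (ad := adE) (B := Cfsg.Agent.H365.E83.Form.kapB) hcen Cube.adE_com Cube.adE_cube
    (fun i j => Cfsg.Agent.H365.E83.Form.kapB_val i j) (fun g u v => adE_group g u v)
    (fun g u v => Cfsg.Agent.H365.E83.Form.kapB_inv g.2 u v) h hx hy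

/-- the centre is zero -/
theorem adE_cen (u : Fin.V) (h : adE u = 0) : u = 0 := by
  apply Cfsg.Agent.H365.E83.Cen.cen
  apply Matrix.ext_of_mulVec_single
  intro k
  rw [Matrix.zero_mulVec]
  exact LinearMap.congr_fun h _

/-- **box Q** -/
theorem sig0 {t : Fin.G3} (h : _root_.Cfsg.Agent.H791.E8L.Rel x0 y0 t) {v : Fin.V} (hx : ac x0 v = v) (hy : ac y0 v = v) :
    v + ∑ i ∈ Finset.range 11, ac (x0 ^ i) (ac t v) = 0 := sig0_cen adE_cen h hx hy

end Cfsg.Agent.H65.E8L.QBox
end

private theorem dce_7aeb69c06a03 : _root_.True := by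
  try have : _root_.True := by simp only [_root_.Cfsg.Agent.H879.E83.kel.eq_1]
  exact _root_.True.intro
end

-- part: H879/E83/KapT
section
prune_inst 0x7f00000000000000000000000000000000000000000000000000000000000000000000000000000000000000000000000000000000000000000000000000000000000000000000000000000000000000003fffffffffffffffffffffffffffbeffbdffffffff
set_option linter.all false
open scoped Cfsg.Agent.FastGrp

/-!
# S5925, box U: `q = c κ q₀ κ` gives `k(λ) T = T₀ k(λ)` on `u`
-/

set_option autoImplicit false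
set_option linter.unusedVariables false
set_option linter.style.longLine false

namespace Cfsg.Agent.H879.E83

open Matrix Cfsg Cfsg.Lie Cfsg.Agent.ChevalleyStructure Cfsg.Agent.ChevalleyStructure.Elts
open Cfsg.Agent.H238.E8 Cfsg.Agent.H576.E8L

section
variable {K : Type} [Field K]

/-- diagonal matrix of the inverses -/
def dgi (c : Fin 5 → K) : Mt K := Matrix.diagonal fun a => (c a)⁻¹

theorem cjd_eq (c : Fin 5 → K) (A : Mt K) : cjd c A = Matrix.diagonal c * A * dgi c := by
  ext a b
  rw [cjd_apply, dgi, Matrix.mul_diagonal, Matrix.diagonal_mul]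

theorem dg_dgi {c : Fin 5 → K} (hc : ∀ a, c a ≠ 0) : Matrix.diagonal c * dgi c = 1 := by
  rw [dgi, Matrix.diagonal_mul_diagonal, ← Matrix.diagonal_one]
  congr 1
  funext a
  exact mul_inv_cancel₀ (hc a)

theorem dgi_dg {c : Fin 5 → K} (hc : ∀ a, c a ≠ 0) : dgi c * Matrix.diagonal c = 1 := mul_eq_one_comm.1 (dg_dgi hc)

/-- the matrix identity -/
theorem cjd_conj {c : Fin 5 → K} (hc : ∀ a, c a ≠ 0) {z : K} (hz : z ≠ 0) {q0 r0 q r : Mt K} (h0 : r0 * q0 = 1)
    (h : r * q = 1) (hq : ∀ a b, q a b = z * c a * c b * q0 a b) (A : Mt K) :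
    cjd c (-(r * Aᵀ * q)) = -(r0 * (cjd c A)ᵀ * q0) := by
  have e1 : q = z • (Matrix.diagonal c * q0 * Matrix.diagonal c) := by
    ext a b
    rw [Matrix.smul_apply, Matrix.mul_diagonal, Matrix.diagonal_mul, hq, smul_eq_mul]; ring
  have i1 := dg_dgi hc
  have i2 := dgi_dg hc
  have e2 : r = z⁻¹ • (dgi c * r0 * dgi c) := by
    have e3 : (z⁻¹ • (dgi c * r0 * dgi c)) * q = 1 := by
      rw [e1, Matrix.smul_mul, Matrix.mul_smul, smul_smul, inv_mul_cancel₀ hz, one_smul]
      calc dgi c * r0 * dgi c * (Matrix.diagonal c * q0 * Matrix.diagonal c)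
          = dgi c * (r0 * (dgi c * Matrix.diagonal c) * q0) * Matrix.diagonal c := by simp only [Matrix.mul_assoc]
        _ = 1 := by rw [i2, Matrix.mul_one, h0, Matrix.mul_one, i2]
    calc r = (z⁻¹ • (dgi c * r0 * dgi c)) * q * r := by rw [e3, Matrix.one_mul]
      _ = (z⁻¹ • (dgi c * r0 * dgi c)) * (q * r) := Matrix.mul_assoc _ _ _
      _ = _ := by rw [mul_eq_one_comm.1 h, Matrix.mul_one]
  have t1 : (dgi c)ᵀ = dgi c := Matrix.diagonal_transpose _
  have e4 : r * Aᵀ * q = dgi c * r0 * (dgi c * Aᵀ * Matrix.diagonal c) * q0 * Matrix.diagonal c := by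
    rw [e1, e2, Matrix.smul_mul, Matrix.smul_mul, Matrix.mul_smul, smul_smul, inv_mul_cancel₀ hz, one_smul]
    simp only [Matrix.mul_assoc]
  have e5 : (cjd c A)ᵀ = dgi c * Aᵀ * Matrix.diagonal c := by
    rw [cjd_eq, Matrix.transpose_mul, Matrix.transpose_mul, t1, Matrix.diagonal_transpose, Matrix.mul_assoc]
  rw [cjd_eq, e5, e4, Matrix.mul_neg, Matrix.neg_mul]
  congr 1
  calc Matrix.diagonal c * (dgi c * r0 * (dgi c * Aᵀ * Matrix.diagonal c) * q0 * Matrix.diagonal c) * dgi c
      = (Matrix.diagonal c * dgi c) * (r0 * (dgi c * Aᵀ * Matrix.diagonal c) * q0) * (Matrix.diagonal c * dgi c) := by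
        simp only [Matrix.mul_assoc]
    _ = _ := by rw [i1, Matrix.one_mul, Matrix.mul_one]

theorem Q2_mul {q r : Mt K} (h3 : (3 : K) = 0) (h : r * q = 1) : Q2 r * Q2 q = 1 := by
  have c3 : ∀ x y : K, (x + y) ^ 3 = x ^ 3 + y ^ 3 := fun x y => by linear_combination (x * y ^ 2 + x ^ 2 * y) * h3
  have bij : Function.Bijective (fun c : Fin 5 => 3 * c) := by
    rw [Function.Bijective, Function.Injective, Function.Surjective]; decide
  ext a b
  rw [Matrix.mul_apply, ← Fintype.sum_bijective _ bij (fun c => Q2 r a (3 * c) * Q2 q (3 * c) b) _ fun c => rfl]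
  have e : ∀ c : Fin 5, (2 : Fin 5) * (3 * c) = c := by decide
  have e1 : ∀ c, Q2 r a (3 * c) * Q2 q (3 * c) b = Sv (2 * a) * Sv (2 * b) * (r (2 * a) c * q c (2 * b)) ^ 3 := by
    intro c
    have s1 : Sv c * Sv c = (1 : K) := Sv_sq c
    rw [Q2, Q2, e]
    linear_combination (Sv (2 * a) * r (2 * a) c ^ 3 * Sv (2 * b) * q c (2 * b) ^ 3) * s1
  have e2 : ∑ c, (r (2 * a) c * q c (2 * b)) ^ 3 = ((1 : Mt K) (2 * a) (2 * b)) ^ 3 := by
    rw [← h, Matrix.mul_apply, Fin.sum_univ_five, Fin.sum_univ_five, c3, c3, c3, c3]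
  simp only [e1]
  rw [← Finset.mul_sum, e2]
  by_cases hab : a = b
  · subst hab
    rw [Matrix.one_apply_eq, Matrix.one_apply_eq, one_pow, mul_one]
    exact Sv_sq _
  · have h2' : ∀ a b : Fin 5, a ≠ b → (2 : Fin 5) * a ≠ 2 * b := by decide
    have h2 := h2' a b hab
    rw [Matrix.one_apply_ne h2, Matrix.one_apply_ne hab]; ring

theorem Q2_kap {q q0 : Mt K} {z l : K} (hq : ∀ a b, q a b = z * kap l a * kap l b * q0 a b) (a b : Fin 5) :
    Q2 q a b = z ^ 3 * kap1 l a * kap1 l b * Q2 q0 a b := by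
  rw [Q2, Q2, hq, kap1, kap1]; ring

/-- **`k(λ) T = T₀ k(λ)` on `u`**, when `q = z κ q₀ κ`. -/
theorem kel_T [CharP K 3] {g : K} (l : Kˣ) (hl : l ^ 80 = 1) {q q0 : Mt K} (h : Mh q * q = 1) (h0 : Mh q0 * q0 = 1)
    {z : K} (hz : z ≠ 0) (hq : ∀ a b, q a b = z * kap (l : K) a * kap (l : K) b * q0 a b) {T T0 : ↥(chevE8.group K)}
    (hT : ∀ A0 A1 : Mt K, A0.trace = 0 → A1.trace = 0 →
      ((T : GL chevE8.Idx K) : Matrix chevE8.Idx chevE8.Idx K) *ᵥ iota g (A0, A1) =
        iota g (-(Mh q * A0ᵀ * q), -(Q2 (Mh q) * A1ᵀ * Q2 q)))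
    (hT0 : ∀ A0 A1 : Mt K, A0.trace = 0 → A1.trace = 0 →
      ((T0 : GL chevE8.Idx K) : Matrix chevE8.Idx chevE8.Idx K) *ᵥ iota g (A0, A1) =
        iota g (-(Mh q0 * A0ᵀ * q0), -(Q2 (Mh q0) * A1ᵀ * Q2 q0)))
    (A0 A1 : Mt K) (t0 : A0.trace = 0) (t1 : A1.trace = 0) :
    (((kel l hl * T : ↥(chevE8.group K)) : GL chevE8.Idx K) : Matrix chevE8.Idx chevE8.Idx K) *ᵥ iota g (A0, A1) =
      (((T0 * kel l hl : ↥(chevE8.group K)) : GL chevE8.Idx K) : Matrix chevE8.Idx chevE8.Idx K) *ᵥ iota g (A0, A1) := by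
  have h3 : (3 : K) = 0 := by exact_mod_cast CharP.cast_eq_zero K 3
  have hm : ∀ a b : ↥(chevE8.group K), (((a * b : ↥(chevE8.group K)) : GL chevE8.Idx K) : Matrix chevE8.Idx chevE8.Idx K) =
      ((a : GL chevE8.Idx K) : Matrix chevE8.Idx chevE8.Idx K) * ((b : GL chevE8.Idx K) : Matrix chevE8.Idx chevE8.Idx K) :=
    fun _ _ => rfl
  have n0 := kap_ne (K := K) l.ne_zero
  have n1 := kap1_ne (K := K) l.ne_zero
  rw [hm, hm, ← Matrix.mulVec_mulVec, ← Matrix.mulVec_mulVec, hT A0 A1 t0 t1, kel_iota, kel_iota,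
    hT0 _ _ (by rw [cjd_trace n0, t0]) (by rw [cjd_trace n1, t1]), cjd_conj n0 hz h0 h hq,
    cjd_conj n1 (pow_ne_zero 3 hz) (Q2_mul h3 h0) (Q2_mul h3 h) (Q2_kap hq)]

/-- two matrices in normal form (helper947's `Concl`, `KE = ke`) differ by a gauge -/
theorem concl_ratio {q q0 Q : Mt K} {l c l0 c0 : K} (hl : l ^ 80 = 1) (hc : c ^ 10 = 1) (hl0 : l0 ^ 80 = 1)
    (hc0 : c0 ^ 10 = 1) (hq : ∀ a b, q a b = c * (l ^ ke a * l ^ ke b * Q a b))
    (hq0 : ∀ a b, q0 a b = c0 * (l0 ^ ke a * l0 ^ ke b * Q a b)) :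
    ∃ (z : K) (m : Kˣ), z ≠ 0 ∧ m ^ 80 = 1 ∧ ∀ a b, q a b = z * kap (m : K) a * kap (m : K) b * q0 a b := by
  have nz : ∀ {x : K} {n : ℕ}, n ≠ 0 → x ^ n = 1 → x ≠ 0 := by
    rintro x n hn h rfl
    rw [zero_pow hn] at h
    exact zero_ne_one h
  have nl := nz (by norm_num) hl
  have nl0 := nz (by norm_num) hl0
  have nc := nz (by norm_num) hc
  have nc0 := nz (by norm_num) hc0
  refine ⟨c * c0⁻¹, Units.mk0 (l * l0⁻¹) (mul_ne_zero nl (inv_ne_zero nl0)), mul_ne_zero nc (inv_ne_zero nc0), ?_, ?_⟩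
  · apply Units.ext
    rw [Units.val_pow_eq_pow_val, Units.val_mk0, mul_pow, inv_pow, hl, hl0, Units.val_one, inv_one, mul_one]
  · intro a b
    rw [hq, hq0, Units.val_mk0, kap, kap, mul_pow, mul_pow, inv_pow, inv_pow]
    have n1 := pow_ne_zero (ke a) nl0
    have n2 := pow_ne_zero (ke b) nl0
    field_simp

end
end Cfsg.Agent.H879.E83

private theorem dce_8e602034702f : _root_.True := by
  try have : _root_.True := by simp only [_root_.Cfsg.Agent.H879.E83.kap1.eq_1]
  try have : _root_.True := by simp only [_root_.Cfsg.Agent.H879.E83.kap.eq_1]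
  try have : _root_.True := by simp only [_root_.Cfsg.Agent.H879.E83.dgi.eq_1]
  exact _root_.True.intro
end

-- part: H908/E8L/KapB
section
prune_inst 0x7f00000000000000000000000000000000000000000000000000000000000000000000000000000000000000000000000000000000000000000000000000000000000000000000000000000000000000003fffffffffffffffffffffffffffbeffbdffffffff
set_option linter.all false
open scoped Cfsg.Agent.FastGrp

/-!
# S5925, box U1: the elements `k(λ)` of helper879 are rational (helper908)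

`kel_X`, `kel_YY` : `k(λ)` commutes with `φ₂ X`, `YY`; `NN_kel` : `k(λ)` is fixed by the twisted Frobenius map;
`exists_zed_kap` : helper138's `z₀`, and `z₀ k(λ) z₀⁻¹` is the image of an element of `E₈(3)` which commutes with `x₀`, `y₀`.
-/

set_option autoImplicit false
set_option linter.style.longLine false

namespace Cfsg.Agent.H908.E8L

open Matrix Cfsg Cfsg.Lie Cfsg.Agent.ChevalleyStructure Cfsg.Agent.ChevalleyStructure.Elts
open Cfsg.Agent.H992.E8X Cfsg.Agent.H238.E8 Cfsg.Agent.H576.E8L Cfsg.Agent.H183.E8F Cfsg.Agent.H879.E83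
open Cfsg.Agent.GpExc.Field (emb)
open Cfsg.Agent.BpExc.FamUntw (phi)
open Cfsg.Agent.H138.E8L.Zed (exists_B X5M phi_emb3)

section
variable {k : Type} [Field k]

theorem dg_comm {d d' : Fin 5 → kˣ} (h : ∏ i, d i = 1) (h' : ∏ i, d' i = 1) : dg d h * dg d' h' = dg d' h' * dg d h := by
  apply Subtype.ext
  show Matrix.diagonal (fun i => (d i : k)) * Matrix.diagonal (fun i => (d' i : k)) =
    Matrix.diagonal (fun i => (d' i : k)) * Matrix.diagonal (fun i => (d i : k))
  rw [Matrix.diagonal_mul_diagonal, Matrix.diagonal_mul_diagonal]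
  congr 1
  funext i
  exact mul_comm _ _

theorem kd_cube {l : kˣ} (h : l ^ 80 = 1) : (kd l 0) ^ 3 = kd l 0 ∧ (kd l 1) ^ 3 = kd l 3 ∧ (kd l 2) ^ 3 = kd l 1 ∧
    (kd l 3) ^ 3 = kd l 4 ∧ (kd l 4) ^ 3 = kd l 2 := by
  refine ⟨?_, ?_, ?_, ?_, ?_⟩
  · show (l ^ 40) ^ 3 = l ^ 40
    rw [← pow_mul, show 40 * 3 = 80 + 40 by norm_num, pow_add, h, one_mul]
  · show (l ^ 9) ^ 3 = l ^ 27
    rw [← pow_mul]
  · show (l ^ 3) ^ 3 = l ^ 9
    rw [← pow_mul]
  · show (l ^ 27) ^ 3 = l
    rw [← pow_mul, show 27 * 3 = 80 + 1 by norm_num, pow_add, h, one_mul, pow_one]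
  · show l ^ 3 = l ^ 3
    rfl

variable [CharP k 3]

theorem PP_dg {l : kˣ} (h : l ^ 80 = 1) :
    PP k * SpecialLinearGroup.map (iterateFrobenius k 3 1) (dg (kd l) (kd_prod h)) = dg (kd l) (kd_prod h) * PP k := by
  obtain ⟨c0, c1, c2, c3, c4⟩ := kd_cube h
  have e : ∀ i j, (kd l i) ^ 3 = kd l j → ((kd l i : kˣ) : k) ^ 3 = ((kd l j : kˣ) : k) := by
    intro i j hij
    rw [← Units.val_pow_eq_pow_val, hij]
  have d0 := e _ _ c0
  have d1 := e _ _ c1
  have d2 := e _ _ c2
  have d3 := e _ _ c3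
  have d4 := e _ _ c4
  apply Subtype.ext
  show ((PP k : _root_.Matrix.SpecialLinearGroup (Fin 5) k) : Matrix (Fin 5) (Fin 5) k) *
      (Matrix.diagonal (fun i => ((kd l i : kˣ) : k))).map (iterateFrobenius k 3 1) =
    Matrix.diagonal (fun i => ((kd l i : kˣ) : k)) * ((PP k : _root_.Matrix.SpecialLinearGroup (Fin 5) k) : Matrix (Fin 5) (Fin 5) k)
  rw [Matrix.diagonal_map (map_zero _), coe_PP]
  ext i j
  rw [Matrix.mul_diagonal, Matrix.diagonal_mul, iterateFrobenius_def, pow_one]
  (revert i j; simp only [d0, d1, d2, d3, d4, _root_.Fin.forall_fin_succ, _root_.Matrix.of_apply, _root_.Matrix.cons_val', _root_.Matrix.cons_val_fin_one, Fin.isValue, _root_.Matrix.cons_val_zero, _root_.Matrix.cons_val_succ, _root_.Fin.succ_zero_eq_one, _root_.Fin.succ_one_eq_two, Fin.reduceSucc, _root_.IsEmpty.forall_iff, _root_.and_true, _root_.neg_mul, _root_.one_mul, _root_.mul_neg, _root_.mul_one, _root_.MulZeroClass.zero_mul, _root_.MulZeroClass.mul_zero, _root_.and_self, _root_.neg_inj,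 _root_.true_and])

omit [CharP k 3] in
theorem cube_mem [CharP k 3] (f : ZMod 3 →+* k) {x : k} (hx : x ^ 3 = x) : ∃ a : ZMod 3, f a = x := by
  have h : x * ((x - 1) * (x + 1)) = 0 := by linear_combination hx
  rcases mul_eq_zero.1 h with h | h
  · exact ⟨0, by rw [map_zero, h]⟩
  · rcases mul_eq_zero.1 h with h | h
    · exact ⟨1, by rw [map_one, sub_eq_zero.1 h]⟩
    · exact ⟨-1, by rw [map_neg, map_one]; exact (eq_neg_of_add_eq_zero_left h).symm⟩

theorem exists_rat (f : ZMod 3 →+* k) {D : _root_.Matrix.SpecialLinearGroup (Fin 5) k}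
    (hD : SpecialLinearGroup.map (iterateFrobenius k 3 1) D = D) :
    ∃ D0 : _root_.Matrix.SpecialLinearGroup (Fin 5) (ZMod 3), SpecialLinearGroup.map f D0 = D := by
  have h1 : ∀ i j, ∃ a : ZMod 3, f a = (D : Matrix (Fin 5) (Fin 5) k) i j := by
    intro i j
    apply cube_mem f
    have h2 := congrArg (fun M : _root_.Matrix.SpecialLinearGroup (Fin 5) k => (M : Matrix (Fin 5) (Fin 5) k) i j) hD
    have h3 : (iterateFrobenius k 3 1) ((D : Matrix (Fin 5) (Fin 5) k) i j) = (D : Matrix (Fin 5) (Fin 5) k) i j := h2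
    rwa [iterateFrobenius_def, pow_one] at h3
  choose a ha using h1
  have hm : (Matrix.of a).map f = (D : Matrix (Fin 5) (Fin 5) k) := by
    ext i j
    exact ha i j
  have hd : (Matrix.of a).det = 1 := by
    apply f.injective
    rw [map_one]
    have h4 := RingHom.map_det f (Matrix.of a)
    rw [RingHom.mapMatrix_apply] at h4
    rw [h4]
    exact (congrArg Matrix.det hm).trans D.2
  exact ⟨⟨Matrix.of a, hd⟩, Subtype.ext hm⟩

omit [CharP k 3] in
theorem map_inj (f : ZMod 3 →+* k) {A B : _root_.Matrix.SpecialLinearGroup (Fin 5) (ZMod 3)}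
    (h : SpecialLinearGroup.map f A = SpecialLinearGroup.map f B) : A = B := by
  apply Subtype.ext
  ext i j
  apply f.injective
  exact congrArg (fun M : _root_.Matrix.SpecialLinearGroup (Fin 5) k => (M : Matrix (Fin 5) (Fin 5) k) i j) h

/-- **S5925: the element `z₀` and the rational elements `z₀ k(λ) z₀⁻¹`.** -/
theorem exists_zed_kap [IsAlgClosed k] (f : ZMod 3 →+* k) {g : k} (hg : g ^ 4 = 1 - g) :
    ∃ (z : ↥(chevE8.group k)) (X : _root_.Matrix.SpecialLinearGroup (Fin 5) k), (X : Matrix (Fin 5) (Fin 5) k) = X5M g ∧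
      z⁻¹ * phi chevE8 k 3 1 z = NN k ∧
      z⁻¹ * emb hE8 f (ph2 (ZMod 3) Mo) * z = ph2 k X ∧
      z⁻¹ * emb hE8 f (ph1 (ZMod 3) Fr * ph2 (ZMod 3) Fr) * z = YY (wU g hg) (wU_pow hg) ∧
      z⁻¹ * emb hE8 f (ph2 (ZMod 3) Fr * ph1 (ZMod 3) Fr) * z = YY (wU g hg) (wU_pow hg) ∧
      (∀ t : ↥(chevE8.group (ZMod 3)), NN k * phi chevE8 k 3 1 (z⁻¹ * emb hE8 f t * z) = (z⁻¹ * emb hE8 f t * z) * NN k) ∧
      ∀ (l : kˣ) (h : l ^ 80 = 1), ∃ k0 : ↥(chevE8.group (ZMod 3)), emb hE8 f k0 = z * kel l h * z⁻¹ ∧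
        k0 * ph2 (ZMod 3) Mo = ph2 (ZMod 3) Mo * k0 ∧
        k0 * (ph2 (ZMod 3) Fr * ph1 (ZMod 3) Fr) = (ph2 (ZMod 3) Fr * ph1 (ZMod 3) Fr) * k0 := by
  obtain ⟨B, X, hX, h1, h2, h3⟩ := exists_B f hg
  have hc := fun (A C : _root_.Matrix.SpecialLinearGroup (Fin 5) k) => (ph_comm k A C).eq
  have e1 : ph1 k (SpecialLinearGroup.map f Fr) * ph1 k B = ph1 k B * ph1 k (Yd (wU g hg) (wU_pow hg)) := by
    rw [← map_mul, h1, map_mul]
  have e2 : ph2 k (SpecialLinearGroup.map f Fr) * ph2 k B = ph2 k B * ph2 k (Yd (wU g hg) (wU_pow hg)) := by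
    rw [← map_mul, h1, map_mul]
  have e3 : ph2 k (SpecialLinearGroup.map f Mo) * ph2 k B = ph2 k B * ph2 k X := by
    rw [← map_mul, h2, map_mul]
  have hN : (ph1 k B * ph2 k B)⁻¹ * phi chevE8 k 3 1 (ph1 k B * ph2 k B) = NN k := by
    rw [inv_mul_eq_iff_eq_mul, map_mul, phi_ph1, phi_ph2, h3, map_mul, map_mul, NN]
    have := hc (PP k) B
    calc ph1 k B * ph1 k (PP k) * (ph2 k B * ph2 k (PP k)) = ph1 k B * (ph1 k (PP k) * ph2 k B) * ph2 k (PP k) := by group
      _ = _ := by rw [this]; group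
  have hY : (ph1 k B * ph2 k B)⁻¹ * emb hE8 f (ph1 (ZMod 3) Fr * ph2 (ZMod 3) Fr) * (ph1 k B * ph2 k B) =
      YY (wU g hg) (wU_pow hg) := by
    rw [mul_assoc, inv_mul_eq_iff_eq_mul, map_mul, emb_ph1, emb_ph2, YY]
    calc ph1 k (SpecialLinearGroup.map f Fr) * ph2 k (SpecialLinearGroup.map f Fr) * (ph1 k B * ph2 k B) =
        ph1 k (SpecialLinearGroup.map f Fr) * (ph2 k (SpecialLinearGroup.map f Fr) * ph1 k B) * ph2 k B := by group
      _ = (ph1 k (SpecialLinearGroup.map f Fr) * ph1 k B) * (ph2 k (SpecialLinearGroup.map f Fr) * ph2 k B) := by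
        rw [← hc B]; group
      _ = ph1 k B * (ph1 k (Yd (wU g hg) (wU_pow hg)) * ph2 k B) * ph2 k (Yd (wU g hg) (wU_pow hg)) := by
        rw [e1, e2]; group
      _ = _ := by rw [hc]; group
  refine ⟨ph1 k B * ph2 k B, X, hX, hN, ?_, hY, ?_, ?_, ?_⟩
  · rw [mul_assoc, inv_mul_eq_iff_eq_mul, emb_ph2]
    calc ph2 k (SpecialLinearGroup.map f Mo) * (ph1 k B * ph2 k B) =
        (ph2 k (SpecialLinearGroup.map f Mo) * ph1 k B) * ph2 k B := by group
      _ = ph1 k B * (ph2 k (SpecialLinearGroup.map f Mo) * ph2 k B) := by rw [← hc B]; group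
      _ = _ := by rw [e3]; group
  · have := (ph_comm (ZMod 3) Fr Fr).eq
    rw [← this]
    exact hY
  · intro t
    rw [map_mul, map_mul, map_inv, phi_emb3]
    have h4 : phi chevE8 k 3 1 (ph1 k B * ph2 k B) = (ph1 k B * ph2 k B) * NN k := by rw [← hN]; group
    rw [h4]
    group
  · intro l hl
    set d := dg (kd l) (kd_prod hl) with hd
    obtain ⟨D0, hD0⟩ := exists_rat f (D := B * d * B⁻¹) (by
      have h5 := PP_dg hl
      rw [← hd] at h5
      rw [map_mul, map_mul, map_inv, h3]
      calc B * PP k * SpecialLinearGroup.map (iterateFrobenius k 3 1) d * (B * PP k)⁻¹ =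
          B * (PP k * SpecialLinearGroup.map (iterateFrobenius k 3 1) d) * (PP k)⁻¹ * B⁻¹ := by group
        _ = _ := by rw [h5]; group)
    refine ⟨ph1 (ZMod 3) D0, ?_, (ph_comm (ZMod 3) D0 Mo).eq, ?_⟩
    · rw [emb_ph1, hD0, map_mul, map_mul, map_inv]
      have h6 : kel l hl = ph1 k d := rfl
      rw [h6]
      have h7 := hc d B
      calc ph1 k B * ph1 k d * (ph1 k B)⁻¹ = ph1 k B * (ph1 k d * ph2 k B) * (ph2 k B)⁻¹ * (ph1 k B)⁻¹ := by group
        _ = _ := by rw [h7]; group
    · have h8 : D0 * Fr = Fr * D0 := by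
        apply map_inj f
        rw [map_mul, map_mul, hD0]
        have h9 : SpecialLinearGroup.map f Fr = B * Yd (wU g hg) (wU_pow hg) * B⁻¹ := by
          rw [← h1]; group
        have h10 : d * Yd (wU g hg) (wU_pow hg) = Yd (wU g hg) (wU_pow hg) * d := dg_comm _ _
        rw [h9]
        calc B * d * B⁻¹ * (B * Yd (wU g hg) (wU_pow hg) * B⁻¹) = B * (d * Yd (wU g hg) (wU_pow hg)) * B⁻¹ := by group
          _ = _ := by rw [h10]; group
      have h11 : ph1 (ZMod 3) D0 * ph1 (ZMod 3) Fr = ph1 (ZMod 3) Fr * ph1 (ZMod 3) D0 := by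
        rw [← map_mul, h8, map_mul]
      have h12 := (ph_comm (ZMod 3) D0 Fr).eq
      rw [← mul_assoc, h12, mul_assoc, h11, mul_assoc]

end

end Cfsg.Agent.H908.E8L
end
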