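import Cfsg.Agent.H791.E8L.Rel2_m3
import Cfsg.Agent.H208.XR.E8Final
import Cfsg.Agent.ChevalleyStructure.Good
import Cfsg.Agent.ChevalleyStructure.Elts
import Cfsg.Agent.H934.E83.Hom
import Cfsg.Agent.H238.E8.Frame
import Cfsg.Agent.H238.E8.Inj_m3
import Cfsg.Agent.ChevFast.E8
import Cfsg.Agent.ChevFast.Lin
import Cfsg.Agent.H129.ChainFast
import Cfsg.Agent.H732.E8T.K_m3
import Cfsg.Agent.Prune
set_option linter.all false

section
prune_inst 0x7f00000000000000000000000000000000000000000000000000000000000000000000000000000000000000000000000000000000000000000000000000000000000000000000000000000000000000003fffffffffffffffffffffffffffbeffbdffffffff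

-- part: H908/P9/Run/R04
section
set_option linter.all false

/-! # S5925, box H: the digit vectors of the masks, part 4 -/

set_option autoImplicit false
set_option Elab.async false
set_option maxRecDepth 100000

namespace Cfsg.Agent.H908.P9.Run
open Cfsg.Agent.H728.PM Cfsg.Agent.H136.P9

def m3a : ℕ := nat_lit 0x80000000000000400000000000000000000000000000000000000000000000080000000000000000000000000000000000000000000000000000000100000000040000000000000000000000000000000000000000000000000000400000000000000000000000000000000000000000000000000000000000000000000000800000000000000000000000000000000000000000000001002000001000000000000000000000000000000000000000000000000000000040000000000000000000000000000000000000000000000000000000000000001000000020000000000000000000000000000000000000000000000000000000000000000000000000000000000000000000000000000000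
theorem t3a : rng plan m3a = true := by decide +kernel
def m3b : ℕ := nat_lit 0x80000000000000000000000000000000000000000000000400000000000000000000000000000000000000000000000000000000002000008000000040000000000000000000000000000000000000000000000000000000000000000000000000000000000000000000000000000000000000000000002000004000000000000000000000000000000000000000000000008000100000000000000000000000000000000000000000000000000080000000000080000000000000000000000000000000000000000000000000000000000000400000000000000000000000000000000000000000000000000000000000000000000000000000000000000000000000000000000000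
theorem t3b : rng plan m3b = true := by decide +kernel
def m9a : ℕ := nat_lit 0x40000000020000000000000000000000000000000000000000000000000000000000000000000200000000000000000000000000000000000000000000000000000000000000000000000000000000000000000000000000000000000020000000001000000000000000000000000000000000000000000000100000000804000001000000000000000000000000000000000000000000000000080000100800000000000000000000000000000000000000000000000000000000000000000000000000000000000000000000000000000000
theorem t9a : rng plan m9a = true := by decide +kernel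
def m9b : ℕ := nat_lit 0x100000001000000000000000000000000000000000000000000000000000000000020000000000000000000000000000000000000000000000000000000000000000000000000000000000000000000000000000000000000000000000100000080000000800000000000000000000000000000000000000000000000400000100000200000000000000000000000000000000000000000000000020000040010000000000000000000000000000000000000000000000000000000000000000000000000000000000000000000000000000000000
theorem t9b : rng plan m9b = true := by decide +kernel
def m15a : ℕ := nat_lit 0x200000000000000000000000000000000000000000000000000000000000000002008000000400000000000000000000000000000000000000000000000000002000000000000000000000000000000000000000000000000000010000000000000000000000000000000000000000000000000000000000000100000001000000000000000000000000000000000000000000000000000000000000000080000000000000000000000000000000000000000000000000000000001000000000000000000000000000000000000000000000000010000000000000020000000000000000000000000000000000000000000000000000000000000000000000000000000000000000000000000000000000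
theorem t15a : rng plan m15a = true := by decide +kernel
def m15b : ℕ := nat_lit 0x4000000000000000000000000000000000000000000000000000000800008000000000000000000000000000000000000000000000000000000800000000000000000000000000000000000000000000000000000020000000000000000000000000000000000000000000000000000000000001000800000000000000000000000000000000000000000000000000000000000004000000000000000000000000000000000000000000000000000000000000000080000040000000000000000000000000000000000000000000000000001000000000000000000000000000000000000000000000000000000000000000000000000000000000000000000000000000000000000000000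
theorem t15b : rng plan m15b = true := by decide +kernel
def m21a : ℕ := nat_lit 0x2000000000000000000000000000000000000000000000000000000000000400020000000000000000000000000000000000000000000000000008000000000000000080000000000000000000000000000000000000000000000000800000001000000000000000000000000000000000000000000000000000002000000000000000000000000000000000000000000000000000000000000000002000000000000000000000000000000000000000000000000000000000000000000000000000000000000000000000000000000000000000000020000000200000000000000000000000000000000000000000000000000000000000000000000000000000000000000000000000000000000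
theorem t21a : rng plan m21a = true := by decide +kernel
def m21b : ℕ := nat_lit 0x400000000000000040000000000000000000000000000000000000000000000000004000100000000000000000000000000000000000000000000000000400000000000000000000000000000000000000000000000000000000000080000000080000000000000000000000000000000000000000000000000400000000000000000000000000000000000000000000000000000000000000000000002000000000000000000000000000000000000000000000000000000004000000000000000000000000000000000000000000000000000000000000000004000000000000000000000000000000000000000000000000000000000000000000000000000000000000000000000000000000000000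
theorem t21b : rng plan m21b = true := by decide +kernel
def m27a : ℕ := nat_lit 0x8000000000000000000000000000000000000000000000000000000000000000800000020000000000000000020000000000000000000000000020000000000000000000000000000000800000000000000000000000000000000000020000000000000000000000000000000000000000000000000000000000000010000000000000000000000000000000000000000000000000000000000000000000000000000000000000000000008000000000000000000000000000000000000000000000000000000000000000000000000000000002000000000000000000000000000000000000000000000000000000000000000000000000000000000000000000000000000000000000000000000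
theorem t27a : rng plan m27a = true := by decide +kernel
def m27b : ℕ := nat_lit 0x10000000000000000000000000000000000000000000000000000400000004000000000000000000000000000200000000000000000000000000000000000020000000000000100000000000000000000000000000000000000000000000000000000000020000000000000000000000000000000000000000000000000000000000000000000000000000000000000100000000000000000000000000000000000000000000200000000000000000000000000000000000000000000000000000000000000000000000000000000000000000000000000000000000000000000000000000000000000000000000000000000000000000000000000000000000000000000000000000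
theorem t27b : rng plan m27b = true := by decide +kernel
def m33a : ℕ := nat_lit 0x8000000000000000000000000000000000200000000008000000000000000020000000000000000000000000000000000000000000000000000000000000000000000000000000000000000000000000200000000000000000000000000000000000000000000000000000000000000000000000000000000000000000000000000000000000000000000000000000000000000000000080000000000000000000000000000000000000000800100000000000000000000000000000000000000000000000000000000000000000000100000000000000000000000000000000000000000000000000000000000000000000000000000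
theorem t33a : rng plan m33a = true := by decide +kernel
def m33b : ℕ := nat_lit 0x4000000000008000000000000000000000000000000000000000800000000000000100000100000000000000000000000000000000000000000000000000000000000000000000000000000000000000000000000000000000000000000000000000000000000000000000000000000000000000000000000000000000100000000000000000000000000000000000000000000000000000000000000000000000000000000000000000000800000000200000000000000000000000000000000000000000000000000000000000000000000008000000000000000000000000000000000000000000000000000000000000000000000000000000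
theorem t33b : rng plan m33b = true := by decide +kernel
def m39a : ℕ := nat_lit 0x2000040001000020000000000000000000000000000000000000000000002000000000000000000000000000000000000000000000000000000000000000000000000000000000000000000000000000000000000000000000000000000000000000000000000002000000000000000000000000000000000000010000000000000000000000000000000000000000000000000000000000000000000000000000000000000000000000800000000000000000000000000000000000000000000000000000000000000
theorem t39a : rng plan m39a = true := by decide +kernel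
def m39b : ℕ := nat_lit 0x10200000010400008000000000000000000000000000000000000000000000000000000000001000000000000000000000000000000000000000000000000000000000000000000000000000000000000000000000000000000000000000000000000000000000000000000000000000000000000000000000000400000000000000000000000000000000000000000000000000000000000000000000000000000000000000000000020000000000000000000000000000000000000000000000000000000000000000
theorem t39b : rng plan m39b = true := by decide +kernel
def m45a : ℕ := nat_lit 0x1000000000000000000000000000000000000000000000001000000000000000000100000000000000000000000000000000000000000000000000000000000000000000000000000000000000000000000000000000000000000000080000000000000000000000000000000000000000000010000000000000000000000040000000000000000000000000000000000000000000000000000000000000000000000000000000000000000000000000000000000000000000000800000000000000000000000000000000000000000000000000000000000000000000000000200000000000000000000000000000000000000000000000000000000000000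
theorem t45a : rng plan m45a = true := by decide +kernel
def m45b : ℕ := nat_lit 0x400010000000000000000000000000000000000000000000000000000040000000000000000000000000000000000000000000000000000400000000000000000000000000000000000000000000000000000000000000000000000000010000000000000000000000000000000000000000000000000000000000010000000000000000000000000000000000000000000000000000000000000000000000000010000000000000000000000000000000000000000000000000000000000000000000000000000000000000000000000000000000000000000000000000000000400000000000000000000000000000000000000000000000000000000000000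
theorem t45b : rng plan m45b = true := by decide +kernel
def m51a : ℕ := nat_lit 0x40000000000000000000000000000000000000000000000000000000000000000000000000000000000000000000000000000000040000000000000000000000000000000000000000000000000000000000000000000000000000000000040080000000000000000000000000000000000000000000000000000000000000000000000000000000000000000000000000000000000000200000000000000000000000000000000000000000000000000000000000000000000000000000000000000000000000000000000000000000000000000200000000800000000004000000000000000000000000000000000000000000000000000000000000000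
theorem t51a : rng plan m51a = true := by decide +kernel
def m51b : ℕ := nat_lit 0x1000000000000000000000000000000000000000000000000000000000000000000000000000000000000000000000000000000000000000000000000200000000000000000000000200000000000000000000000000000000000000000000000000000000000000800000000000000000000000000000000000000000000000000000000000000000000004000000000000000000000000000000000000000000000000000000400000000000000000000000000000000000000000000000000000000000000000000000000000000000000000000000000000000000000000001400000000000000000000000000000000000000000000000000000000000000000000000000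
theorem t51b : rng plan m51b = true := by decide +kernel
def m57a : ℕ := nat_lit 0x4000000000000000000000000000000000000000000000000000000000000000000000000000000000000000000010000000000000000004000000000000000000000000000000000000000000000000000020000000000000000000000000000000000000000000000020000000000000000000000000000000000000000000000000000000000000000000000000000000000000000000000000000000000000000000000000000000000000000010000000000000400000000000000000000000000000000000000000000000000000000100000000000000000000000000000000000000000000000000000000000000000000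
theorem t57a : rng plan m57a = true := by decide +kernel
def m57b : ℕ := nat_lit 0x400000000000000000000000000000000000000000000000000000000000000000000080000000000020000000000000000000000000000000000000000000000000000000000000000000000000000000000000000000040000000000000000000000080000000000000000000000000000000000000000000000000000000000000000000000000000000000000000000000000000000000000000000000000000000400000000000000000000000000000000000400000000000000000000000000000000000000000000000000000000000000000000000000000000000000000000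
theorem t57b : rng plan m57b = true := by decide +kernel
def m63a : ℕ := nat_lit 0x8000000000000000000000000000000004000000000000000000000000000000000000000000000000000000000000080000000000000000000000000000000000000000000000000000000000000000000000000000000000000000000000000000000000000000000000000000000000000000000000000000000000000000000000100000000000001000000000000000000000000000000000000000000000000000000000000010000000000000000000000000000000000000000000000000000000000000002000000000000000000000000000000000000000000000000000000000008000000000000000000000000000000000000000000000000000000000000000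
theorem t63a : rng plan m63a = true := by decide +kernel
def m63b : ℕ := nat_lit 0x200000000000000000000000000000000000000000000000000000000400000000000000000000000000000000000000000000000000000000000000000000000000000000000000000000000000000000000000000000000000000000080000000000000000000000000000000000000000000000800000000000000200000000000000000000000000000000000000000000000000000000000000000000000000000000000000000000000000000000000000000400000000000000000000000000000000000000000000000000000000020000000000000000000000000000000000000000000000000000000000000000000000000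
theorem t63b : rng plan m63b = true := by decide +kernel
def m69a : ℕ := nat_lit 0x20000000000000000000000000020000000000000000000000000000000000000000000000000080000000000000000000000000000000000000000000000000000000000000000000000000000000000000000000000000000000000010000000000000000000000000000000000000000000000000000000000000000000002000000000000000000000000000000000000000000000000000000000000000000000000000000000088000000000000000000000000000000000000000000000000000000000000000000000000000000000000000000000000000000100000000000000000000000000000000000000000000000000000000000000000000000000000000000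
theorem t69a : rng plan m69a = true := by decide +kernel
def m69b : ℕ := nat_lit 0x400000000000000000000020000000000000000000000000000000000000000000000000000000000000000000000000000000000000000000000000000000000000000000000000000020000000000000000000000000000000000080000000000000000000000000000000000000000000000000000000000000000000000000000000000010000000000000000000000000000000000000000000000000000000000000020000000000000000000000000000000000000000000000000000000000000000000000000000000000000000000100000000000000000000000000000000000000000000000000000000000000000000000000000000000000000000000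
theorem t69b : rng plan m69b = true := by decide +kernel
def m75a : ℕ := nat_lit 0x20000000000000000000000000000000000000000000004000000000000000000000000000000000000000000000000000000000000000000000000000000040000000000000000000000000000000000000000000002000000000000000000000000000000000000000000000008000000000000000000000000000000000000000000000000000000000000000008000000000000000000000000000000000000000000000000000000000000000000000001000000000000000000000000000000000000000000000040000000000000000000000000000000000000000000000000000000000000000000000000000000000000000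
theorem t75a : rng plan m75a = true := by decide +kernel
def m75b : ℕ := nat_lit 0x20000000000000000000000000000000000000000000000000000200000000000000000000000000000000000000000000000000000000000000000000000000000000000000000000000000000200000000000000000000000040000000000000000000000000000000000000000000000000000000000000000000000000000000000000000000000000010000000000000000100000000000000000000000000000000000000000000000000000000000000000000000000000000000000000000001000000000000000000000000000000000000000000000000000000000000000000000000000000000000000000000000000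
theorem t75b : rng plan m75b = true := by decide +kernel
def m81a : ℕ := nat_lit 0x4000000000000000000000000000000000000000000000000000000000000000080000000000000000000000000000000000000000000000000000000000000000000000000000000000008000000000000000000000000000000000000000000000000000000000080000000040000000000000000000000000000000000000040000000000000000000000000000000000000000000000000000000000000000000000000000000000000000000000000000000000000000000000000000000000800000000000400000000000000000000000000000000000000000000000000000000000000000000000000000000000000000000000000000000000000000000000000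
theorem t81a : rng plan m81a = true := by decide +kernel
def m81b : ℕ := nat_lit 0x100000000000000000000000000000000000000000000000000000000000000000000000000000000000000000000000000000000000400000000000000001000000000000000000000000000000000000000000000000000000000020000000000000000000000000000000000000000020000000000004000000000000000000000000000000000000000000000000000000000000000000000000000000000000000000000000000000000000000000000000000000002000000000000000000000000000000000000000000000000000000000000000000000000000000000000000000000000000000000000000000000000000000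
theorem t81b : rng plan m81b = true := by decide +kernel
def m87a : ℕ := nat_lit 0x2000000000000000000000000000000000000000000000000000000000000000000000000000100000000000000000000000000000000000000000000000000000000000008000000000000000000000000000000000000000000000000000000400000000000000800000000000000000000000000000000000000000000000000000000000000000000000000000000000000000000000000000000008000000000000000000000000000000000000000000000000000000010000000000000000000000000000000000000000000000000000100000000000000000000000000000000000000000000000000000000000000000000000000000000000000000000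
theorem t87a : rng plan m87a = true := by decide +kernel
def m87b : ℕ := nat_lit 0x4000000000000000000000000004000000000000000000000000000000000000000000000000000000000000000000000080000000000000000000000000000000000000000000000000400000000000000000000000000000000000000000000000800000000000000000000000000000000000000000000000000000000000000000000800000000000000000000000000000000000000000000000000000000000000000000002000000000000000000000000000000000000000000000000000000000000000000000000000000000000000000000000000000000000000000000000000000000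
theorem t87b : rng plan m87b = true := by decide +kernel
def m93a : ℕ := nat_lit 0x8000000000000000000000000000000000000000000000000010000000000000000000000000000000000000000000000000000000000000000000000000000000000000008000000000000000000000000000000000000000000000000000000002000000000000000000000000000000000000000000000000000000004000000000000000000000000000000000000000000000000000000020000000000000000000000000000000000000000000000000000000000000000000000000000000000000000000000000000000000010000000000000000000000000000000000040000000000000000000000000000000000000000000000000000000000000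
theorem t93a : rng plan m93a = true := by decide +kernel
def m93b : ℕ := nat_lit 0x100000000000000000000000000000000000000000000000000000000000000000000000000000010000000000000000000000000000000000000000000000000000000400000000000000000000000000000000000000000000000000000000000000004000000000000000000000000000000000000000000000000000000000000000000000000000000000000004000000000000000000000000000000000000000000000000000000000000000000000000000020000000000000000000000000000000000000000000000000000000000000000000040000000000000000000000000000000000000000000000000000000000000000000000000000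
theorem t93b : rng plan m93b = true := by decide +kernel
def m99a : ℕ := nat_lit 0x20000000000000800000000000000000000000000000000000000000000000000000000000000000000000000000000000000000000000000000000000000000000000040000000000000000000000000000000000000000000000000000000000020000000000000000000000000000000000000000000000000000000001000000000000000000000000000000000000010000000000000000000000000000000000000000000000000000000000000100000000000000000000000000000000000000000000000000000000000000000020000000000000000000000000000000000000000000000000000000000000000000000000000000000000000000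
theorem t99a : rng plan m99a = true := by decide +kernel
def m99b : ℕ := nat_lit 0x800000080000000000000000000000000000000000000000000000000000000000000000000000000000000000000000000000000000000000000000000000000000000000000000000000000000000004000000000000000000000000000000000000000000000000000000000400000000000000000000000000000000000000000000000000000000000800000100000000000000000000000000000000000000000000000000000000000000000000000000000000000000000000000000000000000000000000020000000000000000000000000000000000000000000000000000000000000000000000000000000000000000000000000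
theorem t99b : rng plan m99b = true := by decide +kernel
def m106a : ℕ := nat_lit 0x20000000080400001008000400088
theorem t106a : rng plan m106a = true := by decide +kernel
def m106b : ℕ := nat_lit 0x800000000010000002000002022000010020
theorem t106b : rng plan m106b = true := by decide +kernel
def m110a : ℕ := nat_lit 0x200400000000040000000008800000004020200
theorem t110a : rng plan m110a = true := by decide +kernel
def m110b : ℕ := nat_lit 0x10000000200000004000002000800000101000
theorem t110b : rng plan m110b = true := by decide +kernel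
def m115a : ℕ := nat_lit 0x1000808080001040090000000000000000000000000000000000000000000
theorem t115a : rng plan m115a = true := by decide +kernel
def m115b : ℕ := nat_lit 0x1400208000401040000000000000000000000000000000000000000000
theorem t115b : rng plan m115b = true := by decide +kernel
def m120a : ℕ := nat_lit 0x1000000000000000000000000000000000000000000000000000000000000400000000000000000000000000000000000000000000000000000000000040000000000000000000000000000000000000000000000000000000000000000000000000000002000000000000000000000000000000000000000000000000008000000000000000000000000000000000000000000000000000000000000000000000000000000000000000000000000000000000000000000000000200000000000000000000000000000000000000000000000000000000000000000000000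
theorem t120a : rng plan m120a = true := by decide +kernel
def m120b : ℕ := nat_lit 0x2000000000000000000000000000000000000000000000000008000000000000000000000000000000000000000000000000000200000000000000000000000000000000000000000000000000000000000000000000200000000000000000000000000000000000000000000000000000000000000000000000000000000000000000000000000000000000000001000000000000000000000000000000000000000000000000000000000000000000000000000000080000000000000000000000000000000000000000000000000000000000000000000000000000000000000000000000000000000000000000000000000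
theorem t120b : rng plan m120b = true := by decide +kernel
def m121a : ℕ := nat_lit 0x4000000000000000000000000000000000000000000000000000000000000800000001000000000000000000000000000000000000000000000000000000000000800000000000000000000000000000000000000000000000000000000000000000000000000000000000000000000000000000000000000004000000000000000000000000000000000000000000000000000000000000000000001000000000000000000000000000000000000000000000000000000000000000000000000000000000000000000000000000000000000000000000000000000000000
theorem t121a : rng plan m121a = true := by decide +kernel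
def m121b : ℕ := nat_lit 0x8000000000000000000000000000000000000000000000000000000000000000000020000000000000000000000000000000000000000000000000000000000004000000000000000000000000000000000000000000000000000100000000000000000000000000000000000000000000000000000000000008000000000000000000000000000000000000000000000000000000000000000000020000000000000000000000000000000000000000000000000000000000000000000000000000000000000000000000000000000000000000000000000000000000000000000000000000000000000000000000000000000000000000000000000
theorem t121b : rng plan m121b = true := by decide +kernel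
def m126a : ℕ := nat_lit 0x5000000010000000000400000000000000000000
theorem t126a : rng plan m126a = true := by decide +kernel
def m126b : ℕ := nat_lit 0x20000000000000000000000000000000000000000000000000000000000000000000000000000000000000000000000000000000000000000000000000000000000000000000000000000000000000000000000000000000000000000000000000000000000000000000000000000000000000000000000000000000000000000000000000000000000000000000000000000000000000000000000000000000000000000000000000000000000000000000000000000000000000000000000000000000000000000000000002000000028000000000000000000000000000000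
theorem t126b : rng plan m126b = true := by decide +kernel

def l04 : List ℕ := [m3a, m3b, m9a, m9b, m15a, m15b, m21a, m21b, m27a, m27b, m33a, m33b, m39a, m39b, m45a, m45b, m51a, m51b, m57a, m57b, m63a, m63b, m69a, m69b, m75a, m75b, m81a, m81b, m87a, m87b, m93a, m93b, m99a, m99b, m106a, m106b, m110a, m110b, m115a, m115b, m120a, m120b, m121a, m121b, m126a, m126b]

theorem b04 : ∀ M ∈ l04, rng plan M = true :=
  List.forall_mem_cons.2 <| And.intro t3a <|
  List.forall_mem_cons.2 <| And.intro t3b <|
  List.forall_mem_cons.2 <| And.intro t9a <|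
  List.forall_mem_cons.2 <| And.intro t9b <|
  List.forall_mem_cons.2 <| And.intro t15a <|
  List.forall_mem_cons.2 <| And.intro t15b <|
  List.forall_mem_cons.2 <| And.intro t21a <|
  List.forall_mem_cons.2 <| And.intro t21b <|
  List.forall_mem_cons.2 <| And.intro t27a <|
  List.forall_mem_cons.2 <| And.intro t27b <|
  List.forall_mem_cons.2 <| And.intro t33a <|
  List.forall_mem_cons.2 <| And.intro t33b <|
  List.forall_mem_cons.2 <| And.intro t39a <|
  List.forall_mem_cons.2 <| And.intro t39b <|
  List.forall_mem_cons.2 <| And.intro t45a <|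
  List.forall_mem_cons.2 <| And.intro t45b <|
  List.forall_mem_cons.2 <| And.intro t51a <|
  List.forall_mem_cons.2 <| And.intro t51b <|
  List.forall_mem_cons.2 <| And.intro t57a <|
  List.forall_mem_cons.2 <| And.intro t57b <|
  List.forall_mem_cons.2 <| And.intro t63a <|
  List.forall_mem_cons.2 <| And.intro t63b <|
  List.forall_mem_cons.2 <| And.intro t69a <|
  List.forall_mem_cons.2 <| And.intro t69b <|
  List.forall_mem_cons.2 <| And.intro t75a <|
  List.forall_mem_cons.2 <| And.intro t75b <|
  List.forall_mem_cons.2 <| And.intro t81a <|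
  List.forall_mem_cons.2 <| And.intro t81b <|
  List.forall_mem_cons.2 <| And.intro t87a <|
  List.forall_mem_cons.2 <| And.intro t87b <|
  List.forall_mem_cons.2 <| And.intro t93a <|
  List.forall_mem_cons.2 <| And.intro t93b <|
  List.forall_mem_cons.2 <| And.intro t99a <|
  List.forall_mem_cons.2 <| And.intro t99b <|
  List.forall_mem_cons.2 <| And.intro t106a <|
  List.forall_mem_cons.2 <| And.intro t106b <|
  List.forall_mem_cons.2 <| And.intro t110a <|
  List.forall_mem_cons.2 <| And.intro t110b <|
  List.forall_mem_cons.2 <| And.intro t115a <|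
  List.forall_mem_cons.2 <| And.intro t115b <|
  List.forall_mem_cons.2 <| And.intro t120a <|
  List.forall_mem_cons.2 <| And.intro t120b <|
  List.forall_mem_cons.2 <| And.intro t121a <|
  List.forall_mem_cons.2 <| And.intro t121b <|
  List.forall_mem_cons.2 <| And.intro t126a <|
  List.forall_mem_cons.2 <| And.intro t126b <|
  List.forall_mem_nil _

end Cfsg.Agent.H908.P9.Run
end

-- part: H908/E8L/BConjE8
section
set_option linter.all false
open scoped Cfsg.Agent.FastGrp

-- part: H208/E83/Ord11
section
/-!
# `E₈(3)`: the elements of order 11 are conjugate (S5925, box B2; helper208)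

The torus model modulo `11²` (`H208/XR/Frame`), `|E₈(3)|` is not divisible by `11⁵`; the elements of order 11 of the Sylow
subgroup `≅ (ℤ/121)²` are `𝔽₁₁²`, two reflections of order 5 act transitively on the 120 nonzero vectors.
-/

set_option autoImplicit false
set_option linter.unusedSectionVars false

namespace Cfsg.Agent.H208.E83

open CoxeterSystem Cfsg Cfsg.Lie Cfsg.Lie.ChevalleyDatum
open Cfsg.Agent.ChevalleyStructure Cfsg.Agent.ChevalleyStructure.Elts Cfsg.Agent.ChevalleyStructure.CoxeterGeom
  Cfsg.Agent.ChevalleyStructure.CoxeterGeomTypes Cfsg.Agent.ChevalleyStructure.NPerm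
open Cfsg.Agent.Tits.Roots Cfsg.Agent.Tits.Core Cfsg.Agent.Nodes Cfsg.Agent.Nodes.Reps Cfsg.Agent.Nodes.BNOf
  Cfsg.Agent.Nodes.RGDChev Cfsg.Agent.Nodes.Bruhat
open Cfsg.Agent.H129.TorusChar Cfsg.Agent.H129.WData Cfsg.Agent.H210.EL Cfsg.Agent.H440.TD4
open Cfsg.Agent.H942.E8Tab
open Cfsg.Agent.H682.KB
open Cfsg.Agent.H208.XR

universe u v

section model

open scoped Pointwise

variable {D : ChevalleyDatum} {l : ℕ} {M : CoxeterMatrix (Fin l)} {hp : IsType D l M} {p a Q : ℕ} [hpp : Fact p.Prime]
  {g : (Fin l → ℤ) ≃+ (Fin l → ℤ)} {w : M.Group} {G : Type v} [Group G] {X : (Fin l → ZMod (p ^ a)) → G}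

/-- functionals killed by `p` -/
theorem exists_up (ha : a ≠ 0) {c : Fin l → ZMod (p ^ a)} (h : ((p : ℕ) : ZMod (p ^ a)) • c = 0) :
    ∃ c', up p a c' = c := by
  have hNz : NeZero (p ^ a) := ⟨pow_ne_zero _ hpp.out.ne_zero⟩
  have hNz1 : NeZero (p ^ 1) := ⟨pow_ne_zero _ hpp.out.ne_zero⟩
  have h1 : ∀ n, p ^ (a - 1) ∣ (c n).val := by
    intro n
    have h2 := congrFun h n
    rw [Pi.smul_apply, smul_eq_mul, Pi.zero_apply] at h2
    have h3 : ((p * (c n).val : ℕ) : ZMod (p ^ a)) = 0 := by
      rw [Nat.cast_mul, ZMod.natCast_zmod_val]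
      exact h2
    have h4 := (ZMod.natCast_eq_zero_iff _ _).1 h3
    have h5 : p ^ a = p * p ^ (a - 1) := by
      rw [← pow_succ', Nat.sub_add_cancel (Nat.one_le_iff_ne_zero.2 ha)]
    exact Nat.dvd_of_mul_dvd_mul_left hpp.out.pos (h5.symm.dvd.trans h4)
  choose k hk using h1
  refine ⟨fun n => (k n : ZMod (p ^ 1)), ?_⟩
  funext n
  have h6 : ((p ^ (a - 1) : ℕ) : ZMod (p ^ a)) * ((k n : ℕ) : ZMod (p ^ a)) = c n := by
    rw [← Nat.cast_mul, ← hk, ZMod.natCast_zmod_val]
  show ((p ^ (a - 1) : ℕ) : ZMod (p ^ a)) * ((((k n : ZMod (p ^ 1)).val : ℕ) : ℤ) : ZMod (p ^ a)) = c n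
  rw [← h6, ← sub_eq_zero]
  have h7 := (pow_mul_eq_zero (p := p) ha (((k n : ZMod (p ^ 1)).val : ℤ) - (k n : ℤ))).2 (by
    push_cast
    rw [ZMod.natCast_zmod_val, sub_self])
  rw [← h7]
  push_cast
  ring

theorem up_inj (ha : a ≠ 0) {c c' : Fin l → ZMod (p ^ 1)} (h : up p a c = up p a c') : c = c' :=
  lam_ext fun x => (lam_up_eq_iff ha c c' x x).1 (by rw [h])

/-- the elements of order `p` -/
theorem exists_conj_up [Finite G] (ha : a ≠ 0) (H : ModelN hp (p ^ a) Q g w X) {P : Sylow p G}
    (hP : (P : Subgroup G) = toSub H) {x : G} (hx : orderOf x = p) :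
    ∃ c : Fin l → ZMod (p ^ 1), c ∈ Lam hp (p ^ 1) Q g w ∧ c ≠ 0 ∧ IsConj x (X (up p a c)) := by
  have h1 : IsPGroup p ↥(Subgroup.zpowers x) := IsPGroup.of_card (n := 1) (by rw [Nat.card_zpowers, hx, pow_one])
  obtain ⟨R, hR⟩ := h1.exists_le_sylow
  obtain ⟨h, hh⟩ := MulAction.exists_smul_eq G R P
  have h2 : h * x * h⁻¹ ∈ toSub H := by
    rw [← hP, ← hh]
    have h3 : MulAut.conj h • x ∈ MulAut.conj h • (R : Subgroup G) :=
      Subgroup.smul_mem_pointwise_smul _ _ _ (hR (Subgroup.mem_zpowers x))
    exact h3
  obtain ⟨c, hc, hcx⟩ := h2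
  have hord : orderOf (h * x * h⁻¹) = p := by
    rw [← hx]
    exact orderOf_injective (MulAut.conj h).toMonoidHom (MulAut.conj h).injective x
  have h4 : ((p : ℕ) : ZMod (p ^ a)) • c = 0 := by
    apply H.inj _ (Lam.smul hp _ hc)
    rw [X_nsmul H hc, hcx]
    have := pow_orderOf_eq_one (h * x * h⁻¹)
    rwa [hord] at this
  obtain ⟨c', rfl⟩ := exists_up ha h4
  refine ⟨c', (up_mem_iff ha).1 hc, ?_, isConj_iff.2 ⟨h, hcx.symm⟩⟩
  rintro rfl
  have h5 : X (up p a (0 : Fin l → ZMod (p ^ 1))) = 1 := _root_.Cfsg.Agent.H208.XR.X_zero (H.down ha)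
  rw [h5] at hcx
  rw [← hcx, orderOf_one] at hord
  exact hpp.out.one_lt.ne hord

/-- the action -/
theorem conj_of_act (ha : a ≠ 0) (H : ModelN hp (p ^ a) Q g w X) {c c' : Fin l → ZMod (p ^ 1)}
    (hc : c ∈ Lam hp (p ^ 1) Q g w) (hc' : c' ∈ Lam hp (p ^ 1) Q g w) {v : M.Group} (hv : v ∈ Cth hp g w)
    (h : ∀ x, lam c' (rep M.toCoxeterSystem hp.isCartan v x) = lam c x) : IsConj (X (up p a c)) (X (up p a c')) := by
  obtain ⟨m, hm⟩ := (H.down ha).act v hv
  exact isConj_iff.2 ⟨m, hm c hc c' hc' h⟩

end model

instance : Fact (Nat.Prime 11) := ⟨by norm_num⟩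

/-- a reflection of order 5 -/
def cv2 : List (Fin 8 × Mat 8) := [
  (0, _root_.Cfsg.Agent.H682.KB.mt [[0, -1, -1, -2, -1, -1, -1, -1], [1, 1, 1, 1, 0, 0, 0, 0], [0, 1, 1, 1, 1, 1, 1, 1], [0, 0, 0, 1, 1, 1, 0, 0], [-1, -1, -1, -2, -2, -2, -1, -1], [1, 1, 1, 2, 2, 1, 1, 1], [0, 0, 0, 0, 0, 1, 1, 0], [0, -1, 0, -1, -1, -1, -1, 0]]),
  (1, _root_.Cfsg.Agent.H682.KB.mt [[-1, -1, -1, -2, -1, -1, -1, -1], [0, 1, 1, 1, 0, 0, 0, 0], [1, 1, 1, 1, 1, 1, 1, 1], [0, 0, 0, 1, 1, 1, 0, 0], [0, -1, -1, -2, -2, -2, -1, -1], [0, 1, 1, 2, 2, 1, 1, 1], [0, 0, 0, 0, 0, 1, 1, 0], [0, -1, 0, -1, -1, -1, -1, 0]]),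
  (3, _root_.Cfsg.Agent.H682.KB.mt [[-1, -1, -1, -2, -1, -1, -1, -1], [0, 0, 1, 1, 0, 0, 0, 0], [1, 0, 1, 1, 1, 1, 1, 1], [0, 1, 0, 1, 1, 1, 0, 0], [0, -1, -1, -2, -2, -2, -1, -1], [0, 1, 1, 2, 2, 1, 1, 1], [0, 0, 0, 0, 0, 1, 1, 0], [0, 0, 0, -1, -1, -1, -1, 0]]),
  (1, _root_.Cfsg.Agent.H682.KB.mt [[-1, -1, -1, -1, -1, -1, -1, -1], [0, 0, 1, 0, 0, 0, 0, 0], [1, 0, 1, 1, 1, 1, 1, 1], [0, 1, 0, 1, 1, 1, 0, 0], [0, -1, -1, -2, -2, -2, -1, -1], [0, 1, 1, 2, 2, 1, 1, 1], [0, 0, 0, 0, 0, 1, 1, 0], [0, 0, 0, 0, -1, -1, -1, 0]]),
  (4, _root_.Cfsg.Agent.H682.KB.mt [[-1, 0, -1, -1, -1, -1, -1, -1], [0, 0, 1, 0, 0, 0, 0, 0], [1, 1, 1, 1, 1, 1, 1, 1], [0, 0, 0, 1, 1, 1, 0, 0], [0, -1, -1, -2, -2, -2, -1, -1], [0, 1, 1, 2, 2, 1, 1, 1], [0, 0, 0, 0, 0, 1, 1, 0], [0, 0, 0, 0, -1, -1, -1, 0]]),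
  (5, _root_.Cfsg.Agent.H682.KB.mt [[-1, 0, -1, -1, -1, -1, -1, -1], [0, 0, 1, 0, 0, 0, 0, 0], [1, 1, 1, 1, 1, 1, 1, 1], [0, 0, 0, 1, 1, 1, 0, 0], [0, -1, -1, -2, -2, -2, -1, -1], [0, 1, 1, 2, 1, 1, 1, 1], [0, 0, 0, 0, 1, 1, 1, 0], [0, 0, 0, 0, 0, -1, -1, 0]]),
  (4, _root_.Cfsg.Agent.H682.KB.mt [[-1, 0, -1, -1, -1, -1, -1, -1], [0, 0, 1, 0, 0, 0, 0, 0], [1, 1, 1, 1, 1, 1, 1, 1], [0, 0, 0, 1, 1, 0, 0, 0], [0, -1, -1, -2, -2, -1, -1, -1], [0, 1, 1, 2, 1, 1, 1, 1], [0, 0, 0, 0, 1, 1, 1, 0], [0, 0, 0, 0, 0, 0, -1, 0]]),
  (6, _root_.Cfsg.Agent.H682.KB.mt [[-1, 0, -1, -1, -1, -1, -1, -1], [0, 0, 1, 0, 0, 0, 0, 0], [1, 1, 1, 1, 1, 1, 1, 1], [0, 0, 0, 1, 0, 0, 0, 0], [0, -1, -1, -2, -1, -1, -1, -1], [0, 1, 1, 2, 2, 1, 1, 1], [0, 0, 0, 0, 0, 1, 1, 0], [0, 0, 0, 0, 0, 0, -1, 0]]),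
  (7, _root_.Cfsg.Agent.H682.KB.mt [[-1, 0, -1, -1, -1, -1, -1, -1], [0, 0, 1, 0, 0, 0, 0, 0], [1, 1, 1, 1, 1, 1, 1, 1], [0, 0, 0, 1, 0, 0, 0, 0], [0, -1, -1, -2, -1, -1, -1, -1], [0, 1, 1, 2, 2, 1, 1, 1], [0, 0, 0, 0, 0, 1, 0, 0], [0, 0, 0, 0, 0, 0, 1, 0]]),
  (6, _root_.Cfsg.Agent.H682.KB.mt [[-1, 0, -1, -1, -1, -1, -1, 0], [0, 0, 1, 0, 0, 0, 0, 0], [1, 1, 1, 1, 1, 1, 1, 0], [0, 0, 0, 1, 0, 0, 0, 0], [0, -1, -1, -2, -1, -1, -1, 0], [0, 1, 1, 2, 2, 1, 1, 0], [0, 0, 0, 0, 0, 1, 0, 0], [0, 0, 0, 0, 0, 0, 1, 1]]),
  (5, _root_.Cfsg.Agent.H682.KB.mt [[-1, 0, -1, -1, -1, -1, 0, 0], [0, 0, 1, 0, 0, 0, 0, 0], [1, 1, 1, 1, 1, 1, 0, 0], [0, 0, 0, 1, 0, 0, 0, 0], [0, -1, -1, -2, -1, -1, 0, 0], [0, 1, 1, 2, 2, 1, 0, 0], [0, 0, 0, 0, 0, 1, 1, 0], [0, 0, 0, 0, 0, 0, 0, 1]]),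
  (4, _root_.Cfsg.Agent.H682.KB.mt [[-1, 0, -1, -1, -1, 0, 0, 0], [0, 0, 1, 0, 0, 0, 0, 0], [1, 1, 1, 1, 1, 0, 0, 0], [0, 0, 0, 1, 0, 0, 0, 0], [0, -1, -1, -2, -1, 0, 0, 0], [0, 1, 1, 2, 2, 1, 0, 0], [0, 0, 0, 0, 0, 0, 1, 0], [0, 0, 0, 0, 0, 0, 0, 1]]),
  (3, _root_.Cfsg.Agent.H682.KB.mt [[-1, 0, -1, -1, 0, 0, 0, 0], [0, 0, 1, 0, 0, 0, 0, 0], [1, 1, 1, 1, 0, 0, 0, 0], [0, 0, 0, 1, 1, 0, 0, 0], [0, -1, -1, -2, -1, 0, 0, 0], [0, 1, 1, 2, 1, 1, 0, 0], [0, 0, 0, 0, 0, 0, 1, 0], [0, 0, 0, 0, 0, 0, 0, 1]]),
  (1, _root_.Cfsg.Agent.H682.KB.mt [[-1, 0, -1, 0, 0, 0, 0, 0], [0, 0, 1, 1, 0, 0, 0, 0], [1, 1, 1, 1, 0, 0, 0, 0], [0, 0, 0, 0, 1, 0, 0, 0], [0, -1, -1, -1, -1, 0, 0, 0], [0, 1, 1, 1, 1, 1, 0, 0], [0, 0, 0, 0, 0, 0, 1, 0], [0, 0, 0, 0, 0, 0, 0, 1]]),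
  (2, _root_.Cfsg.Agent.H682.KB.mt [[-1, 0, -1, 0, 0, 0, 0, 0], [0, 1, 1, 1, 0, 0, 0, 0], [1, 0, 1, 1, 0, 0, 0, 0], [0, 0, 0, 0, 1, 0, 0, 0], [0, 0, -1, -1, -1, 0, 0, 0], [0, 0, 1, 1, 1, 1, 0, 0], [0, 0, 0, 0, 0, 0, 1, 0], [0, 0, 0, 0, 0, 0, 0, 1]]),
  (0, _root_.Cfsg.Agent.H682.KB.mt [[-1, 0, 0, 0, 0, 0, 0, 0], [0, 1, 0, 1, 0, 0, 0, 0], [1, 0, 1, 1, 0, 0, 0, 0], [0, 0, 0, 0, 1, 0, 0, 0], [0, 0, 0, -1, -1, 0, 0, 0], [0, 0, 0, 1, 1, 1, 0, 0], [0, 0, 0, 0, 0, 0, 1, 0], [0, 0, 0, 0, 0, 0, 0, 1]]),
  (3, _root_.Cfsg.Agent.H682.KB.mt [[1, 0, 0, 0, 0, 0, 0, 0], [0, 1, 0, 1, 0, 0, 0, 0], [0, 0, 1, 1, 0, 0, 0, 0], [0, 0, 0, 0, 1, 0, 0, 0], [0, 0, 0, -1, -1, 0, 0, 0], [0, 0, 0, 1, 1, 1, 0, 0], [0, 0, 0, 0, 0, 0, 1, 0], [0, 0, 0, 0, 0, 0, 0, 1]]),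
  (4, _root_.Cfsg.Agent.H682.KB.mt [[1, 0, 0, 0, 0, 0, 0, 0], [0, 1, 0, 0, 0, 0, 0, 0], [0, 0, 1, 0, 0, 0, 0, 0], [0, 0, 0, 1, 1, 0, 0, 0], [0, 0, 0, 0, -1, 0, 0, 0], [0, 0, 0, 0, 1, 1, 0, 0], [0, 0, 0, 0, 0, 0, 1, 0], [0, 0, 0, 0, 0, 0, 0, 1]])]

theorem cv2_ok : ChainOK Am cv2 :=
  H129.ChainF.ok H129.ChainF.i8 rfl rfl (by decide +kernel)

theorem comm2 : CommOK (hd cv2) (hd D5.cw) := by decide +kernel

/-- the eigenvectors modulo 11 -/
def W1 : Fin 8 → ZMod (11 ^ 1) := ![7, 3, 1, 9, 6, 1, 6, 10]

def W2 : Fin 8 → ZMod (11 ^ 1) := ![8, 9, 1, 3, 1, 2, 10, 1]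

/-- the two reflections -/
def stp (b : Fin 2) (z : ZMod (11 ^ 1) × ZMod (11 ^ 1)) : ZMod (11 ^ 1) × ZMod (11 ^ 1) :=
  if b = 0 then (1 * z.1 + 0 * z.2, 3 * z.1 + 4 * z.2) else (4 * z.1 + 6 * z.2, 0 * z.1 + 1 * z.2)

/-- the vector -/
def CC (z : ZMod (11 ^ 1) × ZMod (11 ^ 1)) : Fin 8 → ZMod (11 ^ 1) := fun n => z.1 * W1 n + z.2 * W2 n

/-- words -/
def words : List (List (Fin 2)) := [
  [], [0, 1, 0], [1, 1, 1, 1, 0, 0, 0, 0], [1, 0], [0, 0, 1, 0], [0, 0, 0, 1, 0], [1, 1, 0, 0, 1, 0, 0, 0], [1, 0, 0, 0, 1, 0, 0], [0, 1, 1, 1, 1, 0, 0, 0, 0], [0, 0, 0, 0, 1, 0], [1, 0, 0, 1, 1, 0],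
  [], [1, 0, 0, 0, 0, 1, 1, 0], [0, 0, 0, 0], [0], [0, 0], [0, 1, 1, 1, 0, 0, 0, 1, 1, 1], [1, 1, 1, 0, 0, 0, 1, 1, 1], [1, 0, 0, 0, 0, 1, 1, 1], [0, 0, 0], [1, 1, 1, 0, 0, 0, 0, 1, 0], [1, 1, 0, 0, 0, 1],
  [1, 0, 0, 1, 0, 0], [0, 0, 1, 1, 1, 0], [0, 0, 0, 0, 1, 1, 1, 0], [1, 1, 1, 0], [1, 0, 0, 1, 0], [1, 0, 0, 1], [1, 0, 0, 1, 0, 0, 0], [0, 1, 1, 1, 0], [1, 1, 1, 1, 0, 0, 0], [1, 1, 1, 0, 0, 1, 1], [0, 0, 0, 1, 1, 1, 0],
  [1, 1, 1, 1], [0, 0, 1, 1, 1, 1], [0, 0, 0, 1, 1, 1, 1], [1, 1, 0, 0, 1, 1, 1], [0, 1, 1, 1, 0, 0, 0, 1, 1], [1, 1, 1, 0, 0, 0, 1, 0], [0, 0, 0, 0, 1, 1, 1, 1], [1, 1, 1, 0, 0, 0, 1, 1], [1, 1, 0, 0, 0], [0, 1, 1, 1, 1], [1, 0, 0, 0, 0, 1, 1],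
  [1], [0, 1], [0, 1, 1, 1, 1, 0], [1, 1, 1, 1, 0], [1, 1, 0, 0], [0, 0, 1], [0, 1, 1, 0, 0], [1, 1, 0, 0, 0, 1, 1], [0, 0, 0, 0, 1], [0, 0, 1, 1, 1, 1, 0], [0, 0, 0, 1],
  [1, 1], [0, 1, 0, 0, 0, 0], [1, 0, 0, 0, 0], [0, 1, 1, 1, 0, 0, 0], [0, 1, 1], [1, 1, 0, 0, 1], [1, 1, 0, 0, 0, 1, 1, 1], [0, 0, 0, 1, 1], [1, 1, 1, 0, 0, 0], [0, 0, 1, 1], [0, 0, 0, 0, 1, 1],
  [0, 0, 1, 0, 0], [0, 1, 0, 0], [0, 0, 0, 0, 1, 0, 0], [0, 1, 1, 0, 0, 0, 0, 1, 1], [1, 0, 0], [1, 1, 1, 0, 0, 1], [1, 0, 0, 0, 1, 1, 1], [0, 0, 0, 1, 0, 0], [0, 0, 1, 1, 0, 0, 0, 0, 1, 1], [1, 1, 0, 0, 0, 0, 1, 0], [1, 1, 0, 0, 0, 0, 1, 1],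
  [0, 1, 1, 0], [0, 0, 0, 0, 1, 1, 0], [0, 0, 1, 1, 0, 0, 0, 0, 1], [1, 1, 0], [1, 1, 1, 0, 0], [1, 1, 0, 0, 0, 1, 0], [0, 0, 0, 1, 1, 0], [1, 0, 0, 0, 1, 1], [1, 1, 0, 0, 0, 0, 1], [0, 1, 1, 0, 0, 0, 0, 1], [0, 0, 1, 1, 0],
  [1, 1, 0, 0, 1, 0, 0], [0, 1, 0, 0, 0], [1, 1, 1, 0, 0, 0, 0], [1, 1, 1, 0, 0, 1, 1, 1], [1, 1, 1, 1, 0, 0], [1, 0, 0, 0, 1, 0], [0, 0, 1, 0, 0, 0], [0, 1, 1, 1, 1, 0, 0], [1, 0, 0, 0], [1, 0, 0, 1, 1], [0, 1, 1, 1, 0, 0, 0, 0],
  [1, 1, 1], [0, 1, 1, 1, 0, 0, 0, 1], [1, 0, 0, 0, 0, 1, 1, 1, 0], [0, 0, 1, 1, 1], [1, 1, 1, 0, 0, 1, 0], [0, 1, 1, 1], [0, 0, 0, 1, 1, 1], [0, 0, 0, 0, 1, 1, 1], [1, 0, 0, 0, 0, 1], [1, 1, 0, 0, 1, 1], [1, 1, 1, 0, 0, 0, 1],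
  [1, 1, 1, 0, 0, 1, 0, 0], [1, 1, 0, 0, 0, 0, 1, 1, 0], [1, 1, 0, 0, 0, 0], [1, 0, 0, 1, 1, 1], [1, 1, 0, 0, 1, 0], [0, 1, 1, 0, 0, 0, 0], [0, 0, 1, 1, 0, 0, 0, 0], [0, 1, 1, 1, 0, 0, 0, 0, 1], [1, 1, 1, 0, 0, 0, 0, 1], [1, 0, 0, 0, 0, 1, 0], [1, 0, 0, 0, 1]]

theorem trans : ∀ z : ZMod (11 ^ 1) × ZMod (11 ^ 1), z = 0 ∨
    (words.getD (11 * z.1.val + z.2.val) []).foldr stp (1, 0) = z := by decide +kernel

theorem act1 : ∀ (z : ZMod (11 ^ 1) × ZMod (11 ^ 1)) (j : Fin 8),
    ∑ n, CC (stp 0 z) n * (hd D5.cv j n : ZMod (11 ^ 1)) = CC z j := by decide +kernel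

theorem act2 : ∀ (z : ZMod (11 ^ 1) × ZMod (11 ^ 1)) (j : Fin 8),
    ∑ n, CC (stp 1 z) n * (hd cv2 j n : ZMod (11 ^ 1)) = CC z j := by decide +kernel

theorem vv1 : ∀ n, (vv (3 : ZMod (11 ^ 1)) XR.D5.V₁ : Fin 8 → ZMod (11 ^ 1)) n = W1 n := by decide +kernel

theorem vv2 : ∀ n, (vv (3 : ZMod (11 ^ 1)) XR.D5.V₂ : Fin 8 → ZMod (11 ^ 1)) n = W2 n := by decide +kernel

theorem order3 : orderOf ((Fintype.card (ZMod 3) : ℕ) : ZMod 11) = 5 := by
  have : Fact (Nat.Prime 5) := ⟨by norm_num⟩
  rw [ZMod.card]
  exact orderOf_eq_prime (by decide) (by decide)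

theorem padic : padicValNat 11 (Fintype.card (ZMod 3) ^ 5 - 1) = 2 := by
  rw [ZMod.card, show 3 ^ 5 - 1 = 11 ^ 2 * 2 from by norm_num, padicValNat.mul (by norm_num) (by norm_num),
    padicValNat.prime_pow, padicValNat.eq_zero_of_not_dvd (by norm_num)]

theorem card_not : ¬ 11 ^ (2 * 2 + 1) ∣ Nat.card ↥(chevE8.group (ZMod 3)) := by
  have h := card_E8_not_dvd (p := 11) (F := ZMod 3) (by norm_num) (Or.inl order3) (by rw [order3])
  rwa [padic] at h

/-- the points of the eigenspace -/
theorem cc_eq (z : ZMod (11 ^ 1) × ZMod (11 ^ 1)) : cc (3 : ZMod (11 ^ 1)) XR.D5.V₁ XR.D5.V₂ z = CC z := by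
  funext n
  unfold cc CC
  rw [Pi.add_apply, Pi.smul_apply, Pi.smul_apply, vv1, vv2]
  rfl

section conj

variable {X : (Fin 8 → ZMod (11 ^ 2)) → ↥(chevE8.group (ZMod 3))}
  (H : ModelN e8T' (11 ^ 2) 3 (AddEquiv.refl (Fin 8 → ℤ)) (wd D5.cw) X)

theorem two3 : Two e8T' (AddEquiv.refl (Fin 8 → ℤ)) (wd D5.cw) XR.D5.P XR.D5.V₁ XR.D5.V₂ s₁ (sx 1) :=
  XR.D5.sp.two D5.cw_ok

theorem rel1 : ((3 : ℕ) : ZMod (11 ^ 1)) ^ 4 = ev ((3 : ℕ) : ZMod (11 ^ 1)) XR.D5.P := by decide +kernel

theorem rel2 : ((3 : ℕ) : ZMod (11 ^ 2)) ^ 4 = ev ((3 : ℕ) : ZMod (11 ^ 2)) XR.D5.P := by decide +kernel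

theorem CC_mem (z : ZMod (11 ^ 1) × ZMod (11 ^ 1)) :
    CC z ∈ Lam e8T' (11 ^ 1) 3 (AddEquiv.refl (Fin 8 → ℤ)) (wd D5.cw) := by
  have h := two3.cc_mem (Q := 3) rel1 z
  rw [show ((3 : ℕ) : ZMod (11 ^ 1)) = 3 from rfl, cc_eq] at h
  exact h

theorem lam_CC {cv : List (Fin 8 × Mat 8)} (hok : ChainOK Am cv) {b : Fin 2}
    (h : ∀ (z : ZMod (11 ^ 1) × ZMod (11 ^ 1)) (j : Fin 8),
      ∑ n, CC (stp b z) n * (hd cv j n : ZMod (11 ^ 1)) = CC z j) (z : ZMod (11 ^ 1) × ZMod (11 ^ 1)) (x : Fin 8 → ℤ) :
    lam (CC (stp b z)) (rep CoxeterMatrix.E₈.toCoxeterSystem e8T'.isCartan (wd cv) x) = lam (CC z) x :=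
  ext_sr ((lamHom (CC (stp b z))).comp
      (rep CoxeterMatrix.E₈.toCoxeterSystem e8T'.isCartan (wd cv)).toAddMonoidHom) (lamHom (CC z)) (fun j => by
    show lam (CC (stp b z)) (rep CoxeterMatrix.E₈.toCoxeterSystem e8T'.isCartan (wd cv) (sr j)) = lam (CC z) (sr j)
    rw [lam_sr, chain_rep e8T' CoxeterMatrix.E₈.toCoxeterSystem hA hok j, ← h z j]
    unfold lam
    exact Finset.sum_congr rfl fun n _ => mul_comm _ _) x

include H in
theorem conj_word (L : List (Fin 2)) : IsConj (X (up 11 2 (CC (1, 0)))) (X (up 11 2 (CC (L.foldr stp (1, 0))))) := by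
  induction L with
  | nil => exact IsConj.refl _
  | cons b L ih =>
    refine ih.trans ?_
    rw [List.foldr_cons]
    have h2 : b = 0 ∨ b = 1 := by omega
    rcases h2 with rfl | rfl
    · exact conj_of_act two_ne_zero H (CC_mem _) (CC_mem _) (Cth_of_comm e8T' hA D5.cw_ok D5.cv_ok D5.comm)
        (lam_CC D5.cv_ok act1 _)
    · exact conj_of_act two_ne_zero H (CC_mem _) (CC_mem _) (Cth_of_comm e8T' hA D5.cw_ok cv2_ok comm2)
        (lam_CC cv2_ok act2 _)

include H in
theorem conj_one {x : ↥(chevE8.group (ZMod 3))} (hx : orderOf x = 11) : IsConj x (X (up 11 2 (CC (1, 0)))) := by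
  have T := two3
  obtain ⟨hL, P, hP⟩ := exists_sylow H (T.le_card_Lam rel2) card_not
  obtain ⟨c, hc, hc0, hcx⟩ := exists_conj_up two_ne_zero H hP hx
  set z : ZMod (11 ^ 1) × ZMod (11 ^ 1) := (lam c (vec chevE8 8 s₁), lam c (vec chevE8 8 (sx 1))) with hz
  have e1 : lam (CC z) (vec chevE8 8 s₁) = z.1 := by
    rw [← cc_eq]
    exact T.cc_s1 _ z
  have e2 : lam (CC z) (vec chevE8 8 (sx 1)) = z.2 := by
    rw [← cc_eq]
    exact T.cc_s2 _ z
  have h1 : c = CC z := by
    apply up_inj (a := 2) two_ne_zero
    refine T.ext rel2 hL ((up_mem_iff two_ne_zero).2 hc) ((up_mem_iff two_ne_zero).2 (CC_mem z)) ?_ ?_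
    · rw [lam_up_eq_iff two_ne_zero, e1]
    · rw [lam_up_eq_iff two_ne_zero, e2]
  rcases trans z with h2 | h2
  · exfalso
    apply hc0
    rw [h1, h2]
    funext n
    show (0 : ZMod (11 ^ 1)) * W1 n + 0 * W2 n = 0
    rw [zero_mul, zero_mul, add_zero]
  · rw [h1, ← h2] at hcx
    exact hcx.trans (conj_word H _).symm

end conj

theorem ne11 : ((11 : ℕ) : ZMod 3) ≠ 0 := by decide +kernel

theorem exists_mod0 {p : ℕ} [Fact p.Prime] {F : Type} [Field F] [Fintype F] (h11 : 11 ≤ p) (hpF : (p : F) ≠ 0) (a : ℕ)
    (w : CoxeterMatrix.E₈.Group) : ∃ X : (Fin 8 → ZMod (p ^ a)) → ↥(chevE8.group F),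
      ModelN e8T' (p ^ a) (Fintype.card F) (AddEquiv.refl (Fin 8 → ℤ)) w X :=
  exists_modelN_untw (a := a) e8T' hpF (not_dvd_W8 h11) invC_E8 w

/-- **The elements of order 11 of `E₈(3)` are conjugate.** -/
theorem isConj_of_order11 {x y : ↥(chevE8.group (ZMod 3))} (hx : orderOf x = 11) (hy : orderOf y = 11) :
    IsConj x y := by
  obtain ⟨X, H⟩ := exists_mod0 (p := 11) (F := ZMod 3) le_rfl ne11 2 (wd D5.cw)
  rw [ZMod.card] at H
  exact (conj_one H hx).trans (conj_one H hy).symm

end Cfsg.Agent.H208.E83
end

-- part: H208/E83/HB2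
section
/-!
# `E₈(3)`: elements of order 11, the form of box C (S5925; helper208)
-/

set_option autoImplicit false

namespace Cfsg.Agent.H208.E83

open Cfsg Cfsg.Lie

/-- hypothesis `hB2` of box C -/
def ConjTo {G : Type*} [Group G] (y : G) : Prop := ∀ x : G, x ^ 11 = 1 → x ≠ 1 → ∃ g : G, g * x * g⁻¹ = y

theorem conjTo_of {G : Type*} [Group G] (h : ∀ x y : G, orderOf x = 11 → orderOf y = 11 → IsConj x y) {y : G}
    (hy : y ^ 11 = 1) (hy1 : y ≠ 1) : ConjTo y := fun _ hx hx1 =>
  isConj_iff.1 (h _ _ (orderOf_eq_prime hx hx1) (orderOf_eq_prime hy hy1))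

theorem all11 : ∀ x y : ↥(chevE8.group (ZMod 3)), orderOf x = 11 → orderOf y = 11 → IsConj x y :=
  fun _ _ => isConj_of_order11

theorem hB2_of {G : Type*} [Group G] (h : ∀ x y : G, orderOf x = 11 → orderOf y = 11 → IsConj x y)
    {A : Type*} [Group A] (φ : A →* G) {m : A} (hm : m ^ 11 = 1) (hm1 : φ m ≠ 1) :
    ∀ x : G, x ^ 11 = 1 → x ≠ 1 → ∃ g : G, g * x * g⁻¹ = φ m :=
  conjTo_of h (by rw [← map_pow, hm, map_one]) hm1

end Cfsg.Agent.H208.E83
end

-- part: H934/E83/Vec
section
/-!
# Root vectors of the adjoint module of `E₈` (S5925, box A, helper934)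

* `er K s`, `hr K r` : the root vector `e_s` and the vector `h_r` of `chevE8.Idx → K`;
* `x_self`, `x_neg`, `x_one`, `x_zero`, `x_hr` : the action of `x_r(t)` on them.
-/

set_option autoImplicit false

namespace Cfsg.Agent.H934.E83

open Cfsg Cfsg.Lie Cfsg.Agent.ChevalleyStructure Cfsg.Agent.ChevalleyStructure.Columns Cfsg.Agent.ChevalleyStructure.Elts
open Matrix

theorem inE8 : InList chevE8 := by simp

/-- `⟨r, u^∨⟩` -/
def cz (u r : ℕ) : ℤ := ∑ i : Fin 8, cor chevE8 u i.val * car chevE8 i.val r

section
variable (K : Type*) [Field K]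

/-- the root vector `e_s` -/
def er (s : ℕ) : chevE8.Idx → K := fun v => dl K chevE8 v s

/-- the vector `h_r` -/
def hr (r : ℕ) : chevE8.Idx → K := fun v => ∑ i : Fin chevE8.rank, (cor chevE8 r i.val : K) * (if v = Sum.inl i then 1 else 0)

variable {K}

theorem er_eq {s : ℕ} (hs : s < 240) : er K s = Pi.single (Sum.inr ⟨s, hs⟩ : chevE8.Idx) (1 : K) := by
  funext v
  rcases v with i | w
  · show (0 : K) = _
    rw [Pi.single_apply, if_neg (by simp)]
  · show (if w.val = s then (1 : K) else 0) = _
    rw [Pi.single_apply]
    by_cases h : w.val = s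
    · rw [if_pos h, if_pos (congrArg Sum.inr (Fin.ext h))]
    · rw [if_neg h, if_neg (fun h' => h (by rw [Sum.inr.inj h']))]

theorem er_inr (s : ℕ) (w : Fin chevE8.nroots) : er K s (Sum.inr w) = if w.val = s then 1 else 0 := rfl

theorem x_er {r s : ℕ} (hr : r < 240) (hs : s < 240) (t : K) (v : chevE8.Idx) :
    (((xG inE8 r t : GL chevE8.Idx K) : Matrix chevE8.Idx chevE8.Idx K) *ᵥ er K s) v =
      chevE8.xMat K ⟨r, hr⟩ t v (Sum.inr ⟨s, hs⟩) := by
  rw [coe_xG, x_of_lt (D := chevE8) hr, er_eq hs, Matrix.mulVec_single_one]
  rfl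

theorem x_one {r s u : ℕ} {c : ℤ} (hr : r < 240) (hs : s < 240) (hsr : s ≠ r) (hn : chevE8.negIdx.getD r 0 ≠ s)
    (hsort : sortedFrom 0 (_root_.Cfsg.Agent.ChevalleyStructure.Columns.row chevE8 r) = true) (hc : chevE8.chainEntry r s = [(u, c)]) (t : K) :
    ((xG inE8 r t : GL chevE8.Idx K) : Matrix chevE8.Idx chevE8.Idx K) *ᵥ er K s = er K s + ((c : K) * t) • er K u := by
  funext v
  rw [x_er hr hs, xMat_ne chevE8 ⟨r, hr⟩ t v ⟨s, hs⟩ (fun h => hn h.symm) (fun h => hsr (congrArg Fin.val h)) hsort]
  show _ + chSum (dl K chevE8 v) t 1 (chevE8.chainEntry r s) = _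
  rw [hc, chSum_cons, chSum_nil, pow_one, add_zero]
  rfl

theorem x_zero {r s : ℕ} (hr : r < 240) (hs : s < 240) (hsr : s ≠ r) (hn : chevE8.negIdx.getD r 0 ≠ s)
    (hsort : sortedFrom 0 (_root_.Cfsg.Agent.ChevalleyStructure.Columns.row chevE8 r) = true) (hc : chevE8.chainEntry r s = []) (t : K) :
    ((xG inE8 r t : GL chevE8.Idx K) : Matrix chevE8.Idx chevE8.Idx K) *ᵥ er K s = er K s := by
  funext v
  rw [x_er hr hs, xMat_ne chevE8 ⟨r, hr⟩ t v ⟨s, hs⟩ (fun h => hn h.symm) (fun h => hsr (congrArg Fin.val h)) hsort]
  show _ + chSum (dl K chevE8 v) t 1 (chevE8.chainEntry r s) = _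
  rw [hc, chSum_nil, add_zero]
  rfl

end

end Cfsg.Agent.H934.E83
end

-- part: H934/E83/Act
section
/-!
# The action of `SL₅(K) × SL₅(K)` on the Lie algebra of `E₈` (S5925, box A, helper934)

* `Ok r s` : decidable properties of a table of roots `r : Fin 5 → Fin 5 → ℕ` and signs `s`;
* `io r s : Matrix (Fin 5) (Fin 5) K →ₗ[K] (chevE8.Idx → K)`, `E_ij ↦ s i j • e_(r i j)`;
* `act` : `φ A *ᵥ io M = io (A M A⁻¹)` for `trace M = 0`, for every `φ` with `φ (t_ij(c)) = x_(r i j)(s i j c)`;
* `act_cross` : `φ A *ᵥ io' M = io' M` for tables orthogonal to each other;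
* `io1`, `io2`, `act11`, `act12`, `act21`, `act22`, injectivity.
-/

set_option autoImplicit false

namespace Cfsg.Agent.H934.E83

open Cfsg Cfsg.Lie Cfsg.Agent.ChevalleyStructure Cfsg.Agent.ChevalleyStructure.Columns Cfsg.Agent.ChevalleyStructure.Elts
open Matrix

universe u

/-! ### Linear maps on matrices -/

section Lin

variable {K : Type*} [Field K] {V : Type*} [AddCommGroup V] [Module K V]

end Lin

/-! ### Tables -/

/-- the table of roots and signs is that of an `SL₅` -/
structure Ok (r : Fin 5 → Fin 5 → ℕ) (s : Fin 5 → Fin 5 → ℤ) : Prop where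
  lt : ∀ a b, r a b < 240
  neg : ∀ a b, a ≠ b → chevE8.negIdx.getD (r a b) 0 = r b a
  inj : ∀ a b, a ≠ b → ∀ i j, i ≠ j → r a b = r i j → a = i ∧ b = j
  sq : ∀ a b, s a b * s a b = 1
  sym : ∀ a b, s b a = s a b
  srt : ∀ a b, sortedFrom 0 (_root_.Cfsg.Agent.ChevalleyStructure.Columns.row chevE8 (r a b)) = true
  ch1 : ∀ a b j, a ≠ b → j ≠ a → j ≠ b → chevE8.chainEntry (r a b) (r b j) = [(r a j, s a b * s b j * s a j)]
  ch2 : ∀ a b i, a ≠ b → i ≠ a → i ≠ b → chevE8.chainEntry (r a b) (r i a) = [(r i b, -(s a b * s i a * s i b))]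
  ch0 : ∀ a b, a ≠ b → ∀ i j, i ≠ j → i ≠ b → j ≠ a → chevE8.chainEntry (r a b) (r i j) = []
  cz : ∀ a b, a ≠ b → ∀ i j, i ≠ j → cz (r i j) (r a b) =
    (if a = i then 1 else 0) - (if a = j then 1 else 0) - (if b = i then 1 else 0) + (if b = j then 1 else 0)
  cor : ∀ a b, a ≠ b → ∀ k : Fin 8, cor chevE8 (r a b) k.val =
    ∑ i : Fin 4, ((if a ≤ i.castSucc then 1 else 0) - (if b ≤ i.castSucc then 1 else 0)) *
      cor chevE8 (r i.castSucc i.succ) k.val

/-- two tables commute -/
structure Cross (r r' : Fin 5 → Fin 5 → ℕ) : Prop where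
  ne : ∀ a b, a ≠ b → ∀ i j, i ≠ j → r' i j ≠ r a b
  ne' : ∀ a b, a ≠ b → ∀ i j, i ≠ j → chevE8.negIdx.getD (r a b) 0 ≠ r' i j
  ch : ∀ a b, a ≠ b → ∀ i j, i ≠ j → chevE8.chainEntry (r a b) (r' i j) = []
  cz : ∀ a b, a ≠ b → ∀ i j, i ≠ j → cz (r' i j) (r a b) = 0

theorem ok1 : Ok r1 s1 where
  lt := by decide +kernel
  neg := by (rewrite [Cfsg.Agent.ChevFast.E8.negA]; decide +kernel)
  inj := by decide +kernel
  sq := by decide +kernel
  sym := by decide +kernel
  srt := by (delta Cfsg.Agent.ChevalleyStructure.Columns.row; rewrite [Cfsg.Agent.ChevFast.E8.chain]; decide +kernel)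
  ch1 := by (rewrite [Cfsg.Agent.ChevFast.E8.chainEntry]; decide +kernel)
  ch2 := by (rewrite [Cfsg.Agent.ChevFast.E8.chainEntry]; decide +kernel)
  ch0 := by (rewrite [Cfsg.Agent.ChevFast.E8.chainEntry]; decide +kernel)
  cz := by (delta Cfsg.Agent.ChevalleyStructure.Columns.car Cfsg.Agent.ChevalleyStructure.Columns.cor Cfsg.Agent.H934.E83.cz; rewrite [Cfsg.Agent.ChevFast.E8.coroot]; (try set_option simprocs false in simp -zeta only [Cfsg.Agent.ChevFast.E8.cartanR]); decide +kernel)
  cor := by (delta Cfsg.Agent.ChevalleyStructure.Columns.cor; rewrite [Cfsg.Agent.ChevFast.E8.coroot]; decide +kernel)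

theorem ok2 : Ok r2 s2 where
  lt := by decide +kernel
  neg := by (rewrite [Cfsg.Agent.ChevFast.E8.negA]; decide +kernel)
  inj := by decide +kernel
  sq := by decide +kernel
  sym := by decide +kernel
  srt := by (delta Cfsg.Agent.ChevalleyStructure.Columns.row; rewrite [Cfsg.Agent.ChevFast.E8.chain]; decide +kernel)
  ch1 := by (rewrite [Cfsg.Agent.ChevFast.E8.chainEntry]; decide +kernel)
  ch2 := by (rewrite [Cfsg.Agent.ChevFast.E8.chainEntry]; decide +kernel)
  ch0 := by (rewrite [Cfsg.Agent.ChevFast.E8.chainEntry]; decide +kernel)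
  cz := by (delta Cfsg.Agent.ChevalleyStructure.Columns.car Cfsg.Agent.ChevalleyStructure.Columns.cor Cfsg.Agent.H934.E83.cz; rewrite [Cfsg.Agent.ChevFast.E8.coroot]; (try set_option simprocs false in simp -zeta only [Cfsg.Agent.ChevFast.E8.cartanR]); decide +kernel)
  cor := by decide +kernel

/-! ### The embedding of the matrices into the adjoint module -/

section Io

variable (K : Type*) [Field K] (r : Fin 5 → Fin 5 → ℕ) (s : Fin 5 → Fin 5 → ℤ)

variable {K r s}

end Io

/-! ### The action -/

section Act

variable {K : Type*} [Field K] {r r' : Fin 5 → Fin 5 → ℕ} {s s' : Fin 5 → Fin 5 → ℤ}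

theorem sgK (hO : Ok r s) (a b : Fin 5) : (s a b : K) * (s a b : K) = 1 := by
  rw [← Int.cast_mul, hO.sq, Int.cast_one]

end Act

end Cfsg.Agent.H934.E83
end

-- part: H934/E83/Inj
section
/-!
# Injectivity and the final form of box A of S5925 (helper934)

* `io1`, `io2`, `act11`, `act12`, `act21`, `act22` for helper238's `ph1`, `ph2`;
* `io1_inj`, `io2_inj`, `io_sum_inj` (characteristic `≠ 5`);
* `nat_act` : natural `SL₅`-submodules; `ph1_inj`, `ph2_inj` for every field;
* `central_of_eq` : `ph1 A = ph2 B` implies that `A`, `B` are central.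
-/

set_option autoImplicit false

namespace Cfsg.Agent.H934.E83

open Cfsg Cfsg.Lie Cfsg.Agent.ChevalleyStructure Cfsg.Agent.ChevalleyStructure.Columns Cfsg.Agent.ChevalleyStructure.Elts
open Cfsg.Agent.H238.E8
open Matrix

/-! ### The two embeddings -/

section Two

variable (K : Type*) [Field K]

variable {K}

theorem coe_ph1_tv {a b : Fin 5} (hab : a ≠ b) (c : K) : (ph1 K (SpecialLinearGroup.transvection hab c) : GL chevE8.Idx K) =
    xG inE8 (r1 a b) ((s1 a b : K) * c) := by
  rw [ph1_tv]
  rfl

theorem coe_ph2_tv {a b : Fin 5} (hab : a ≠ b) (c : K) : (ph2 K (SpecialLinearGroup.transvection hab c) : GL chevE8.Idx K) =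
    xG inE8 (r2 a b) ((s2 a b : K) * c) := by
  rw [ph2_tv]
  have h : ∀ a b, sg2 a b = s2 a b := by decide
  rw [h]
  rfl

end Two

section Eq

universe u

variable {K : Type u} [Field K]

theorem ph1_eq : ph1 K = p1 K := by
  refine hom_ext fun a b hab c => Subtype.ext ?_
  rw [coe_p1_tv, coe_ph1_tv]

theorem ph2_eq : ph2 K = p2 K := by
  refine hom_ext fun a b hab c => Subtype.ext ?_
  rw [coe_p2_tv, coe_ph2_tv]
  show xG _ _ (((1 : ℤ) : K) * c) = _
  rw [Int.cast_one, one_mul]

end Eq

/-! ### Natural submodules -/

/-- a natural submodule -/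
structure NatOk (r : Fin 5 → Fin 5 → ℕ) (s : Fin 5 → Fin 5 → ℤ) (w : Fin 5 → ℕ) (z : Fin 5 → ℤ) : Prop where
  lt : ∀ i, w i < 240
  inj : ∀ i j, w i = w j → i = j
  ne : ∀ a b, a ≠ b → ∀ i, w i ≠ r a b
  ne' : ∀ a b, a ≠ b → ∀ i, chevE8.negIdx.getD (r a b) 0 ≠ w i
  sq : ∀ i, z i * z i = 1
  ch : ∀ a b, a ≠ b → chevE8.chainEntry (r a b) (w b) = [(w a, s a b * z a * z b)]
  ch0 : ∀ a b, a ≠ b → ∀ i, i ≠ b → chevE8.chainEntry (r a b) (w i) = []

/-- natural submodule of the first factor -/
def w1 : Fin 5 → ℕ := ![78, 56, 46, 40, 30]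
/-- its signs -/
def z1 : Fin 5 → ℤ := ![1, 1, -1, 1, -1]
/-- natural submodule of the second factor -/
def w2 : Fin 5 → ℕ := ![4, 129, 128, 127, 126]
/-- its signs -/
def z2 : Fin 5 → ℤ := ![1, 1, 1, 1, 1]

theorem nok1 : NatOk r1 s1 w1 z1 where
  lt := by decide +kernel
  inj := by decide +kernel
  ne := by decide +kernel
  ne' := by (rewrite [Cfsg.Agent.ChevFast.E8.negA]; decide +kernel)
  sq := by decide +kernel
  ch := by (rewrite [Cfsg.Agent.ChevFast.E8.chainEntry]; decide +kernel)
  ch0 := by (rewrite [Cfsg.Agent.ChevFast.E8.chainEntry]; decide +kernel)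

theorem nok2 : NatOk r2 s2 w2 z2 where
  lt := by decide +kernel
  inj := by decide +kernel
  ne := by decide +kernel
  ne' := by (rewrite [Cfsg.Agent.ChevFast.E8.negA]; decide +kernel)
  sq := by decide +kernel
  ch := by (rewrite [Cfsg.Agent.ChevFast.E8.chainEntry]; decide +kernel)
  ch0 := by (rewrite [Cfsg.Agent.ChevFast.E8.chainEntry]; decide +kernel)

section NatMod

variable {K : Type*} [Field K] {r : Fin 5 → Fin 5 → ℕ} {s : Fin 5 → Fin 5 → ℤ} {w : Fin 5 → ℕ} {z : Fin 5 → ℤ}

/-- the vector `∑ vᵢ zᵢ e_(w i)` -/
def nat (w : Fin 5 → ℕ) (z : Fin 5 → ℤ) (v : Fin 5 → K) : chevE8.Idx → K := ∑ i, (v i * (z i : K)) • er K (w i)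

theorem nat_inr (hN : NatOk r s w z) (v : Fin 5 → K) (i : Fin 5) :
    nat w z v (Sum.inr ⟨w i, hN.lt i⟩) = v i * (z i : K) := by
  rw [nat, Finset.sum_apply, Finset.sum_eq_single i]
  · rw [Pi.smul_apply, er_inr, if_pos rfl, smul_eq_mul, mul_one]
  · intro j _ hj
    rw [Pi.smul_apply, er_inr, if_neg (fun h => hj (hN.inj i j h).symm), smul_zero]
  · intro h
    exact absurd (Finset.mem_univ _) h

theorem nat_inj (hN : NatOk r s w z) {v v' : Fin 5 → K} (h : nat w z v = nat w z v') : v = v' := by
  funext i
  have h1 := congrFun h (Sum.inr ⟨w i, hN.lt i⟩)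
  rw [nat_inr hN, nat_inr hN] at h1
  have h2 : (z i : K) * (z i : K) = 1 := by rw [← Int.cast_mul, hN.sq, Int.cast_one]
  have h3 : (z i : K) ≠ 0 := left_ne_zero_of_mul (h2 ▸ one_ne_zero)
  exact mul_right_cancel₀ h3 h1

theorem nat_act (hO : Ok r s) (hN : NatOk r s w z) {φ : _root_.Matrix.SpecialLinearGroup (Fin 5) K →* ↥(chevE8.group K)}
    (hφ : ∀ a b (hab : a ≠ b) (c : K), (φ (SpecialLinearGroup.transvection hab c) : GL chevE8.Idx K) =
      xG inE8 (r a b) ((s a b : K) * c)) (A : _root_.Matrix.SpecialLinearGroup (Fin 5) K) :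
    ∀ v : Fin 5 → K, ((φ A : GL chevE8.Idx K) : Matrix chevE8.Idx chevE8.Idx K) *ᵥ nat w z v = nat w z (A.1 *ᵥ v) := by
  refine tv_ind (fun A => ∀ v : Fin 5 → K,
    ((φ A : GL chevE8.Idx K) : Matrix chevE8.Idx chevE8.Idx K) *ᵥ nat w z v = nat w z (A.1 *ᵥ v)) ?_ ?_ A
  · intro a b hab c v
    have e1 : (SpecialLinearGroup.transvection hab c).1 *ᵥ v = v + Pi.single a (c * v b) := by
      show Matrix.transvection a b c *ᵥ v = _
      rw [Matrix.transvection, Matrix.add_mulVec, Matrix.one_mulVec]
      congr 1
      funext i
      rw [Matrix.single_mulVec]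
      rfl
    have e2 : nat w z (v + Pi.single a (c * v b)) = nat w z v + (c * v b * (z a : K)) • er K (w a) := by
      rw [nat, nat]
      simp_rw [Pi.add_apply, add_mul, add_smul, Finset.sum_add_distrib]
      congr 1
      rw [Finset.sum_eq_single a]
      · rw [Pi.single_eq_same]
      · intro j _ hj
        rw [Pi.single_eq_of_ne hj, zero_mul, zero_smul]
      · intro h
        exact absurd (Finset.mem_univ _) h
    rw [e1, e2, hφ, nat, Matrix.mulVec_sum, ← Finset.add_sum_erase _ _ (Finset.mem_univ b),
      ← Finset.add_sum_erase _ (fun i => (v i * (z i : K)) • er K (w i)) (Finset.mem_univ b)]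
    have e3 : ∀ i ∈ Finset.univ.erase b, ((xG inE8 (r a b) ((s a b : K) * c) : GL chevE8.Idx K) :
        Matrix chevE8.Idx chevE8.Idx K) *ᵥ ((v i * (z i : K)) • er K (w i)) = (v i * (z i : K)) • er K (w i) := by
      intro i hi
      rw [Matrix.mulVec_smul, x_zero (hO.lt _ _) (hN.lt _) (hN.ne a b hab i) (hN.ne' a b hab i) (hO.srt _ _)
        (hN.ch0 a b hab i (Finset.ne_of_mem_erase hi))]
    rw [Finset.sum_congr rfl e3, Matrix.mulVec_smul, x_one (hO.lt _ _) (hN.lt _) (hN.ne a b hab b) (hN.ne' a b hab b)
      (hO.srt _ _) (hN.ch a b hab), smul_add, smul_smul]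
    have e4 : (z b : K) * (z b : K) = 1 := by rw [← Int.cast_mul, hN.sq, Int.cast_one]
    have e5 := sgK (K := K) hO a b
    rw [show v b * (z b : K) * (((s a b * z a * z b : ℤ) : K) * ((s a b : K) * c)) = c * v b * (z a : K) by
      push_cast
      linear_combination v b * (s a b : K) ^ 2 * (z a : K) * c * e4 + v b * (z a : K) * c * e5]
    abel
  · intro A B hA hB v
    have h2 : ((φ (A * B) : GL chevE8.Idx K) : Matrix chevE8.Idx chevE8.Idx K) =
        ((φ A : GL chevE8.Idx K) : Matrix chevE8.Idx chevE8.Idx K) * ((φ B : GL chevE8.Idx K) : Matrix chevE8.Idx chevE8.Idx K) := by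
      rw [map_mul]
      rfl
    rw [h2, ← Matrix.mulVec_mulVec, hB v, hA _, Matrix.mulVec_mulVec]
    rfl

theorem hom_inj (hO : Ok r s) (hN : NatOk r s w z) {φ : _root_.Matrix.SpecialLinearGroup (Fin 5) K →* ↥(chevE8.group K)}
    (hφ : ∀ a b (hab : a ≠ b) (c : K), (φ (SpecialLinearGroup.transvection hab c) : GL chevE8.Idx K) =
      xG inE8 (r a b) ((s a b : K) * c)) : Function.Injective φ := by
  rw [injective_iff_map_eq_one]
  intro A hA
  have h1 : ∀ v : Fin 5 → K, A.1 *ᵥ v = v := by
    intro v
    apply nat_inj hN
    rw [← nat_act hO hN hφ A v, hA]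
    exact Matrix.one_mulVec _
  apply Subtype.ext
  exact Matrix.ext_of_mulVec_single fun i => by
    rw [h1]
    exact (Matrix.one_mulVec _).symm

end NatMod

section Fin

variable {K : Type*} [Field K]

/-- **`ph1` is injective.** -/
theorem ph1_inj : Function.Injective (ph1 K) := hom_inj ok1 nok1 fun _ _ hab c => coe_ph1_tv hab c

/-- **`ph2` is injective.** -/
theorem ph2_inj : Function.Injective (ph2 K) := hom_inj ok2 nok2 fun _ _ hab c => coe_ph2_tv hab c

end Fin

end Cfsg.Agent.H934.E83
end

-- part: H908/E8L/BConjE8
section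
/-!
# Frobenius subgroups `11:5` of `E₈(3)` (S5925, box C), the instance

`bconj_e8`: every pair `(x, y)` in `E₈(3)` with `x` of order 11, `y ^ 5 = 1`, `y x y⁻¹ = x ^ 3` is conjugate to
`(ph₂ Mo, ph₂ Fr)` or to `(ph₂ Mo, ph₂ Fr ph₁ Fr)`.
-/

set_option autoImplicit false

namespace Cfsg.Agent.H908.E8L

open Cfsg Cfsg.Lie Cfsg.Agent.H238.E8

theorem ph2_mo_ne : ph2 (ZMod 3) Mo ≠ 1 := by
  intro h
  apply mo_ne
  apply Cfsg.Agent.H934.E83.ph2_inj (K := ZMod 3)
  rw [h, map_one]

theorem conj_mo (x : ↥(chevE8.group (ZMod 3))) (hx : x ^ 11 = 1) (hx1 : x ≠ 1) :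
    ∃ g : ↥(chevE8.group (ZMod 3)), g * x * g⁻¹ = ph2 (ZMod 3) Mo :=
  Cfsg.Agent.H208.E83.hB2_of Cfsg.Agent.H208.E83.all11 (ph2 (ZMod 3)) mo_pow11 ph2_mo_ne x hx hx1

/-- **BCONJ for `E₈(3)`.** -/
theorem bconj_e8 (x y : ↥(chevE8.group (ZMod 3))) (hx : x ^ 11 = 1) (hx1 : x ≠ 1) (hy : y ^ 5 = 1)
    (hxy : y * x * y⁻¹ = x ^ 3) :
    ∃ g : ↥(chevE8.group (ZMod 3)), g * x * g⁻¹ = ph2 (ZMod 3) Mo ∧
      (g * y * g⁻¹ = ph2 (ZMod 3) Fr ∨ g * y * g⁻¹ = ph2 (ZMod 3) Fr * ph1 (ZMod 3) Fr) :=
  bconj (ph1 (ZMod 3)) (ph2 (ZMod 3)) (fun a b => (ph_comm (ZMod 3) a b).eq) (Cfsg.Agent.H934.E83.ph1_inj (K := ZMod 3))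
    (fun _ hg => cent_x0' hg) conj_mo x y hx hx1 hy hxy

end Cfsg.Agent.H908.E8L
end

private theorem dce_1416e5923e27 : _root_.True := by
  try have : _root_.True := by simp only [_root_.Cfsg.Agent.H934.E83.nat.eq_1]
  try have : _root_.True := by simp only [_root_.Cfsg.Agent.H934.E83.cz.eq_1]
  exact _root_.True.intro
end

-- part: H908/E8L/Boxes
section
set_option linter.all false
open scoped Cfsg.Agent.FastGrp

/-!
# S5925: the boxes B, B2, C in the form of `H114.E8L.Stmt`
-/

set_option autoImplicit false

namespace Cfsg.Agent.H908.E8L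

open Matrix Cfsg Cfsg.Lie Cfsg.Agent.H238.E8

theorem moS_eq : Cfsg.Agent.H114.E8L.MoS = Mo := rfl

theorem x0_eq : Cfsg.Agent.H114.E8L.x0 = ph2 (ZMod 3) Mo := by
  unfold Cfsg.Agent.H114.E8L.x0
  rw [moS_eq]

/-- box B2 of S5925 -/
theorem b2 : Cfsg.Agent.H114.E8L.B2 := by
  intro x hx hx1
  rw [x0_eq]
  exact conj_mo x hx hx1

end Cfsg.Agent.H908.E8L
end
end
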